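/-
helper45: project SZCH (S4775, coordinator helper6), module SZCH-[G-BASIC]:
the group theory of `B = QK` (a Frobenius group with kernel `Q`).
-/
import Mathlib
import Cfsg.Agent.Lib.Helper6.SzCh.Defs

set_option autoImplicit false

namespace Cfsg.Agent.Lib.Helper45.SzCh

open Cfsg Cfsg.Agent.Lib.Helper6.SzCh
open scoped ComplexConjugate Classical

universe u

variable {G : Type u} [Group G]

/-! ### general lemmas -/

/-- class equation for one class: `|x^H| * |C_H(x)| = |H|` -/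
theorem card_conjRange_mul_card_centralizer {H : Type*} [Group H] [Finite H] (x : H) :
    Nat.card ↥(Set.range fun b : H => b * x * b⁻¹) *
      Nat.card ↥(Subgroup.centralizer ({x} : Set H)) = Nat.card H := by
  have e := MulAction.orbitProdStabilizerEquivGroup (ConjAct H) x
  have h1 : Nat.card (MulAction.orbit (ConjAct H) x) * Nat.card (MulAction.stabilizer (ConjAct H) x)
      = Nat.card (ConjAct H) := by
    rw [← Nat.card_prod]; exact Nat.card_congr e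
  rw [Subgroup.nat_card_centralizer_nat_card_stabilizer]
  have h2 : MulAction.orbit (ConjAct H) x = Set.range fun b : H => b * x * b⁻¹ := by
    ext y
    simp only [MulAction.mem_orbit_iff, Set.mem_range, ConjAct.smul_def]
    constructor
    · rintro ⟨g, hg⟩; exact ⟨ConjAct.ofConjAct g, hg⟩
    · rintro ⟨b, hb⟩; exact ⟨ConjAct.toConjAct b, by simpa using hb⟩
  rw [← h2, h1]
  exact Nat.card_congr ConjAct.ofConjAct.toEquiv

/-- the centralizer of `b : ↥H` in `↥H` has the order of `C_G(b)` if `C_G(b) ≤ H` -/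
theorem card_centralizer_subgroup (H : Subgroup G) (b : ↥H)
    (hle : Subgroup.centralizer ({(b : G)} : Set G) ≤ H) :
    Nat.card ↥(Subgroup.centralizer ({b} : Set ↥H)) =
      Nat.card ↥(Subgroup.centralizer ({(b : G)} : Set G)) := by
  refine Nat.card_congr
    { toFun := fun c => ⟨((c : ↥H) : G), ?_⟩
      invFun := fun c => ⟨⟨(c : G), hle c.2⟩, ?_⟩
      left_inv := fun c => by ext; rfl
      right_inv := fun c => by ext; rfl }
  · have hc := c.2
    rw [Subgroup.mem_centralizer_iff] at hc ⊢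
    intro y hy
    rw [Set.mem_singleton_iff] at hy
    subst hy
    have := hc b rfl
    exact congrArg Subtype.val this
  · have hc := c.2
    rw [Subgroup.mem_centralizer_iff] at hc ⊢
    intro y hy
    rw [Set.mem_singleton_iff] at hy
    rw [hy]
    apply Subtype.ext
    exact hc (b : G) rfl

/-- conjugate elements have centralizers of the same order -/
theorem card_centralizer_conj (u b : G) :
    Nat.card ↥(Subgroup.centralizer ({u * b * u⁻¹} : Set G)) =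
      Nat.card ↥(Subgroup.centralizer ({b} : Set G)) := by
  symm
  refine Nat.card_congr (Equiv.subtypeEquiv (MulAut.conj u).toEquiv ?_)
  intro c
  simp only [MulEquiv.toEquiv_eq_coe, EquivLike.coe_coe, MulAut.conj_apply]
  rw [Subgroup.mem_centralizer_iff, Subgroup.mem_centralizer_iff]
  simp only [Set.mem_singleton_iff, forall_eq]
  constructor
  · intro h
    calc u * b * u⁻¹ * (u * c * u⁻¹) = u * (b * c) * u⁻¹ := by group
      _ = u * (c * b) * u⁻¹ := by rw [h]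
      _ = u * c * u⁻¹ * (u * b * u⁻¹) := by group
  · intro h
    calc b * c = u⁻¹ * (u * b * u⁻¹ * (u * c * u⁻¹)) * u := by group
      _ = u⁻¹ * (u * c * u⁻¹ * (u * b * u⁻¹)) * u := by rw [h]
      _ = c * b := by group

/-! ### the numbers -/

theorem q_pos (D : SzData G) : 0 < D.q := by
  unfold SzData.q qOf; positivity

theorem q_even (D : SzData G) : 2 ∣ D.q := by
  unfold SzData.q qOf; exact dvd_pow_self 2 (by omega)

theorem coprime_qsq_pred (D : SzData G) : Nat.Coprime (D.q ^ 2) (D.q - 1) := by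
  apply Nat.Coprime.pow_left
  have h := q_pos D
  have h2 : Nat.Coprime (D.q - 1 + 1) (D.q - 1) := by simp
  rwa [Nat.sub_add_cancel h] at h2

theorem card_Q' (D : SzData G) : Nat.card ↥D.Q = D.q ^ 2 := D.card_Q
theorem card_K' (D : SzData G) : Nat.card ↥D.K = D.q - 1 := D.card_K
theorem card_Z' (D : SzData G) : Nat.card ↥D.Z = D.q := D.card_Z

/-! ### SZCH-[G-BASIC] -/

theorem Q_le_B (D : SzData G) : D.Q ≤ D.B := Subgroup.le_normalizer

theorem Z_le_Q (D : SzData G) : D.Z ≤ D.Q := inf_le_left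

theorem K_le_B (D : SzData G) : D.K ≤ D.B := D.K_le

theorem Q_inf_K [Finite G] (D : SzData G) : D.Q ⊓ D.K = ⊥ := by
  apply disjoint_iff.mp
  apply Subgroup.disjoint_of_coprime_natCard
  rw [D.card_Q, D.card_K]
  exact coprime_qsq_pred D

theorem eq_one_of_mem_Q_K [Finite G] (D : SzData G) {g : G} (hQ : g ∈ D.Q) (hK : g ∈ D.K) : g = 1 := by
  have : g ∈ D.Q ⊓ D.K := ⟨hQ, hK⟩
  rw [Q_inf_K D] at this
  exact Subgroup.mem_bot.mp this

theorem card_B [Finite G] (D : SzData G) : Nat.card ↥D.B = D.q ^ 2 * (D.q - 1) := by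
  let f : ↥D.Q × ↥D.K → ↥D.B := fun p =>
    ⟨(p.1 : G) * (p.2 : G), D.B.mul_mem (Q_le_B D p.1.2) (D.K_le p.2.2)⟩
  have hinj : Function.Injective f := by
    rintro ⟨⟨u, hu⟩, ⟨k, hk⟩⟩ ⟨⟨u', hu'⟩, ⟨k', hk'⟩⟩ h
    simp only [f, Subtype.mk.injEq] at h
    have h1 : u'⁻¹ * u = k' * k⁻¹ := by
      calc u'⁻¹ * u = u'⁻¹ * (u * k) * k⁻¹ := by group
        _ = u'⁻¹ * (u' * k') * k⁻¹ := by rw [h]
        _ = k' * k⁻¹ := by group
    have h2 : u'⁻¹ * u = 1 :=
      eq_one_of_mem_Q_K D (D.Q.mul_mem (D.Q.inv_mem hu') hu)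
        (h1 ▸ D.K.mul_mem hk' (D.K.inv_mem hk))
    have h3 : u = u' := by
      have := inv_mul_eq_one.mp h2
      exact this.symm
    have h4 : k = k' := by
      subst h3
      exact mul_left_cancel h
    subst h3; subst h4; rfl
  have hsurj : Function.Surjective f := by
    rintro ⟨g, hg⟩
    obtain ⟨u, hu, k, hk, rfl⟩ := D.norm_eq g hg
    exact ⟨(⟨u, hu⟩, ⟨k, hk⟩), rfl⟩
  rw [← Nat.card_congr (Equiv.ofBijective f ⟨hinj, hsurj⟩), Nat.card_prod, D.card_Q, D.card_K]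
  rfl

/-- `B` normalizes `Z` -/
theorem conj_mem_Z (D : SzData G) {b t : G} (hb : b ∈ D.B) (ht : t ∈ D.Z) : b * t * b⁻¹ ∈ D.Z := by
  have hb' : ∀ h, h ∈ D.Q ↔ b * h * b⁻¹ ∈ D.Q := Subgroup.mem_normalizer_iff.mp hb
  refine Subgroup.mem_inf.mpr ⟨(hb' t).mp ht.1, ?_⟩
  rw [Subgroup.mem_centralizer_iff]
  intro u hu
  have hu' : b⁻¹ * u * b ∈ D.Q := by
    rw [hb']
    have : b * (b⁻¹ * u * b) * b⁻¹ = u := by group
    rw [this]; exact hu
  have hc := (Subgroup.mem_centralizer_iff.mp ht.2) _ hu'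
  calc u * (b * t * b⁻¹) = b * ((b⁻¹ * u * b) * t) * b⁻¹ := by group
    _ = b * (t * (b⁻¹ * u * b)) * b⁻¹ := by rw [hc]
    _ = b * t * b⁻¹ * u := by group

theorem conj_mem_Q (D : SzData G) {b t : G} (hb : b ∈ D.B) (ht : t ∈ D.Q) : b * t * b⁻¹ ∈ D.Q :=
  ((Subgroup.mem_normalizer_iff.mp hb) t).mp ht

/-- `C_G(t) = Q` for `t ∈ Z \ 1` -/
theorem centralizer_Z [Finite G] (D : SzData G) {t : G} (ht : t ∈ D.Z) (ht1 : t ≠ 1) :
    Subgroup.centralizer ({t} : Set G) = D.Q := by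
  apply le_antisymm (D.cent_Q t ht.1 ht1)
  intro u hu
  rw [Subgroup.mem_centralizer_iff]
  intro y hy
  rw [Set.mem_singleton_iff] at hy
  subst hy
  exact ((Subgroup.mem_centralizer_iff.mp ht.2) u hu).symm

theorem ncard_Z_diff [Finite G] (D : SzData G) : ((D.Z : Set G) \ {1}).ncard = D.q - 1 := by
  rw [Set.ncard_sdiff_singleton_of_mem (D.Z.one_mem)]
  have : (D.Z : Set G).ncard = Nat.card ↥D.Z := (Nat.card_coe_set_eq _).symm
  rw [this, card_Z']

/-- `K` is transitive on `Z \ 1` -/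
theorem exists_K_conj_Z [Finite G] (D : SzData G) {t t' : G} (ht : t ∈ D.Z) (ht1 : t ≠ 1)
    (ht' : t' ∈ D.Z) (ht'1 : t' ≠ 1) : ∃ k ∈ D.K, k * t * k⁻¹ = t' := by
  let f : ↥D.K → G := fun k => (k : G) * t * (k : G)⁻¹
  have hinj : Function.Injective f := by
    rintro ⟨k, hk⟩ ⟨k', hk'⟩ h
    simp only [f] at h
    have hc : k'⁻¹ * k ∈ Subgroup.centralizer ({t} : Set G) := by
      rw [Subgroup.mem_centralizer_iff]
      intro y hy
      rw [Set.mem_singleton_iff] at hy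
      subst hy
      calc y * (k'⁻¹ * k) = k'⁻¹ * (k' * y * k'⁻¹) * k := by group
        _ = k'⁻¹ * (k * y * k⁻¹) * k := by rw [h]
        _ = k'⁻¹ * k * y := by group
    have h1 : k'⁻¹ * k = 1 :=
      eq_one_of_mem_Q_K D (D.cent_Q t ht.1 ht1 hc) (D.K.mul_mem (D.K.inv_mem hk') hk)
    have : k = k' := (inv_mul_eq_one.mp h1).symm
    subst this; rfl
  have hsub : Set.range f ⊆ (D.Z : Set G) \ {1} := by
    rintro _ ⟨k, rfl⟩
    refine ⟨conj_mem_Z D (D.K_le k.2) ht, ?_⟩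
    simp only [f, Set.mem_singleton_iff]
    intro h
    apply ht1
    have : t = (k : G)⁻¹ * ((k : G) * t * (k : G)⁻¹) * (k : G) := by group
    rw [this, h]; group
  have hcard : (Set.range f).ncard = D.q - 1 := by
    rw [← Set.image_univ, Set.ncard_image_of_injective _ hinj, Set.ncard_univ, card_K']
  have heq : Set.range f = (D.Z : Set G) \ {1} :=
    Set.eq_of_subset_of_ncard_le hsub (by rw [hcard, ncard_Z_diff]) (Set.toFinite _)
  have hmem : t' ∈ Set.range f := by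
    rw [heq]; exact ⟨ht', by simpa using ht'1⟩
  obtain ⟨k, hk⟩ := hmem
  exact ⟨(k : G), k.2, hk⟩

/-- every element of `B \ Q` is `Q`-conjugate to a non-identity element of `K` -/
theorem exists_Q_conj_K [Finite G] (D : SzData G) {b : G} (hb : b ∈ D.B) (hbQ : b ∉ D.Q) :
    ∃ u ∈ D.Q, u * b * u⁻¹ ∈ D.K ∧ u * b * u⁻¹ ≠ 1 := by
  obtain ⟨v, hv, k, hk, rfl⟩ := D.norm_eq b hb
  have hk1 : k ≠ 1 := by
    rintro rfl
    apply hbQ; simpa using hv
  have hkB : k ∈ D.B := D.K_le hk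
  let ψ : ↥D.Q → ↥D.Q := fun x =>
    ⟨(x : G) * (k * (x : G)⁻¹ * k⁻¹), D.Q.mul_mem x.2 (conj_mem_Q D hkB (D.Q.inv_mem x.2))⟩
  have hinj : Function.Injective ψ := by
    rintro ⟨x, hx⟩ ⟨y, hy⟩ h
    simp only [ψ, Subtype.mk.injEq] at h
    have hc : y⁻¹ * x ∈ Subgroup.centralizer ({k} : Set G) := by
      rw [Subgroup.mem_centralizer_iff]
      intro z hz
      rw [Set.mem_singleton_iff] at hz
      subst hz
      calc z * (y⁻¹ * x) = y⁻¹ * (y * (z * y⁻¹ * z⁻¹)) * z * x := by group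
        _ = y⁻¹ * (x * (z * x⁻¹ * z⁻¹)) * z * x := by rw [h]
        _ = y⁻¹ * x * z := by group
    rw [D.cent_K k hk hk1] at hc
    have h1 : y⁻¹ * x = 1 := eq_one_of_mem_Q_K D (D.Q.mul_mem (D.Q.inv_mem hy) hx) hc
    have : x = y := (inv_mul_eq_one.mp h1).symm
    subst this; rfl
  have hsurj : Function.Surjective ψ := Finite.injective_iff_surjective.mp hinj
  obtain ⟨⟨x, hx⟩, hxv⟩ := hsurj ⟨v, hv⟩
  simp only [ψ, Subtype.mk.injEq] at hxv
  refine ⟨x⁻¹, D.Q.inv_mem hx, ?_⟩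
  have : x⁻¹ * (v * k) * x⁻¹⁻¹ = k := by
    rw [← hxv]; group
  rw [this]
  exact ⟨hk, hk1⟩

/-- centralizers in `B` (as subgroups of `↥D.B`) -/
theorem card_centralizer_B_Z [Finite G] (D : SzData G) (t : ↥D.B) (ht : (t : G) ∈ D.Z) (ht1 : t ≠ 1) :
    Nat.card ↥(Subgroup.centralizer ({t} : Set ↥D.B)) = D.q ^ 2 := by
  have ht1' : (t : G) ≠ 1 := fun h => ht1 (Subtype.ext h)
  have hc := centralizer_Z D ht ht1'
  rw [card_centralizer_subgroup D.B t (hc ▸ Q_le_B D), hc, card_Q']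

theorem ne_one_of_not_mem_Z (D : SzData G) {x : G} (hxZ : x ∉ D.Z) : x ≠ 1 := by
  rintro rfl; exact hxZ D.Z.one_mem

theorem not_mem_centralizer_of_not_mem_Z (D : SzData G) {x : G} (hx : x ∈ D.Q) (hxZ : x ∉ D.Z) :
    x ∉ Subgroup.centralizer (D.Q : Set G) := fun h => hxZ ⟨hx, h⟩

theorem card_centralizer_B_QZ [Finite G] (D : SzData G) (x : ↥D.B) (hx : (x : G) ∈ D.Q) (hxZ : (x : G) ∉ D.Z) :
    Nat.card ↥(Subgroup.centralizer ({x} : Set ↥D.B)) = 2 * D.q := by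
  have hle : Subgroup.centralizer ({(x : G)} : Set G) ≤ D.B :=
    (D.cent_Q _ hx (ne_one_of_not_mem_Z D hxZ)).trans (Q_le_B D)
  rw [card_centralizer_subgroup D.B x hle, D.card_cent _ hx (not_mem_centralizer_of_not_mem_Z D hx hxZ)]
  rfl

theorem card_centralizer_B_off [Finite G] (D : SzData G) (b : ↥D.B) (hb : (b : G) ∉ D.Q) :
    Nat.card ↥(Subgroup.centralizer ({b} : Set ↥D.B)) = D.q - 1 := by
  obtain ⟨u, hu, hk, hk1⟩ := exists_Q_conj_K D b.2 hb
  have hcK := D.cent_K _ hk hk1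
  have hle : Subgroup.centralizer ({(b : G)} : Set G) ≤ D.B := by
    intro c hc
    -- u c u⁻¹ centralizes u b u⁻¹, hence lies in K ≤ B
    have h1 : u * c * u⁻¹ ∈ Subgroup.centralizer ({u * (b : G) * u⁻¹} : Set G) := by
      rw [Subgroup.mem_centralizer_iff] at hc ⊢
      intro y hy
      rw [Set.mem_singleton_iff] at hy
      subst hy
      have h := hc (b : G) rfl
      calc u * (b : G) * u⁻¹ * (u * c * u⁻¹) = u * ((b : G) * c) * u⁻¹ := by group
        _ = u * (c * (b : G)) * u⁻¹ := by rw [h]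
        _ = u * c * u⁻¹ * (u * (b : G) * u⁻¹) := by group
    rw [hcK] at h1
    have h2 : u * c * u⁻¹ ∈ D.B := D.K_le h1
    have huB : u ∈ D.B := Q_le_B D hu
    have : c = u⁻¹ * (u * c * u⁻¹) * u := by group
    rw [this]
    exact D.B.mul_mem (D.B.mul_mem (D.B.inv_mem huB) h2) huB
  rw [card_centralizer_subgroup D.B b hle, ← card_centralizer_conj u (b : G), hcK, card_K']

theorem conjClass_subset (D : SzData G) {x : G} (hx : x ∈ D.Q) (hxZ : x ∉ D.Z) :
    {y : G | ∃ b ∈ D.B, b * x * b⁻¹ = y} ⊆ (D.Q : Set G) \ (D.Z : Set G) := by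
  rintro _ ⟨b, hb, rfl⟩
  refine ⟨conj_mem_Q D hb hx, ?_⟩
  intro h
  apply hxZ
  have := conj_mem_Z D (D.B.inv_mem hb) h
  have h2 : b⁻¹ * (b * x * b⁻¹) * b⁻¹⁻¹ = x := by group
  rwa [h2] at this

theorem two_mul_ncard_class [Finite G] (D : SzData G) {x : G} (hx : x ∈ D.Q) (hxZ : x ∉ D.Z) :
    2 * {y : G | ∃ b ∈ D.B, b * x * b⁻¹ = y}.ncard = D.q * (D.q - 1) := by
  have hxB : x ∈ D.B := Q_le_B D hx
  have h1 := card_conjRange_mul_card_centralizer (⟨x, hxB⟩ : ↥D.B)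
  rw [card_centralizer_B_QZ D ⟨x, hxB⟩ hx hxZ, card_B D] at h1
  have h2 : {y : G | ∃ b ∈ D.B, b * x * b⁻¹ = y} =
      Subtype.val '' (Set.range fun b : ↥D.B => b * (⟨x, hxB⟩ : ↥D.B) * b⁻¹) := by
    ext y
    simp only [Set.mem_ofPred_eq, Set.mem_image, Set.mem_range]
    constructor
    · rintro ⟨b, hb, rfl⟩
      exact ⟨_, ⟨⟨b, hb⟩, rfl⟩, rfl⟩
    · rintro ⟨_, ⟨b, rfl⟩, rfl⟩
      exact ⟨(b : G), b.2, rfl⟩
  rw [h2, Set.ncard_image_of_injective _ Subtype.val_injective, ← Nat.card_coe_set_eq]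
  have hq := q_pos D
  have h3 : Nat.card ↥(Set.range fun b : ↥D.B => b * (⟨x, hxB⟩ : ↥D.B) * b⁻¹) * 2 * D.q
      = (D.q * (D.q - 1)) * D.q := by
    rw [mul_assoc, h1]; ring
  have := Nat.eq_of_mul_eq_mul_right hq h3
  omega

/-- the number of `y ∈ Q \ Z` that are `B`-conjugate to `x ∈ Q \ Z` is `q (q - 1) / 2` -/
theorem card_B_class_QZ [Finite G] (D : SzData G) {x : G} (hx : x ∈ D.Q) (hxZ : x ∉ D.Z) :
    2 * Nat.card {y : G // ∃ b ∈ D.B, b * x * b⁻¹ = y} = D.q * (D.q - 1) := by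
  rw [← two_mul_ncard_class D hx hxZ, ← Nat.card_coe_set_eq]
  rfl

theorem ncard_Q_diff_Z [Finite G] (D : SzData G) :
    ((D.Q : Set G) \ (D.Z : Set G)).ncard = D.q * (D.q - 1) := by
  have hsub : (D.Z : Set G) ⊆ (D.Q : Set G) := Z_le_Q D
  rw [Set.ncard_sdiff hsub (Set.toFinite _)]
  have h1 : (D.Q : Set G).ncard = D.q ^ 2 := by
    rw [← card_Q' D]; exact (Nat.card_coe_set_eq _).symm
  have h2 : (D.Z : Set G).ncard = D.q := by
    rw [← card_Z' D]; exact (Nat.card_coe_set_eq _).symm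
  rw [h1, h2]
  have hq := q_pos D
  rw [Nat.mul_sub, mul_one, sq]

/-- `Q \ Z` consists of two `B`-classes, interchanged by inversion -/
theorem exists_B_conj_QZ [Finite G] (D : SzData G) {x y : G} (hx : x ∈ D.Q) (hxZ : x ∉ D.Z)
    (hy : y ∈ D.Q) (hyZ : y ∉ D.Z) : ∃ b ∈ D.B, b * x * b⁻¹ = y ∨ b * x * b⁻¹ = y⁻¹ := by
  have hy' : y⁻¹ ∈ D.Q := D.Q.inv_mem hy
  have hyZ' : y⁻¹ ∉ D.Z := fun h => hyZ (by simpa using D.Z.inv_mem h)
  set C1 : Set G := {z : G | ∃ b ∈ D.B, b * y * b⁻¹ = z} with hC1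
  set C2 : Set G := {z : G | ∃ b ∈ D.B, b * y⁻¹ * b⁻¹ = z} with hC2
  have hdisj : Disjoint C1 C2 := by
    rw [Set.disjoint_left]
    rintro z ⟨b, hb, rfl⟩ ⟨c, hc, hcz⟩
    apply D.not_real y hy (not_mem_centralizer_of_not_mem_Z D hy hyZ)
    rw [isConj_iff]
    refine ⟨c⁻¹ * b, ?_⟩
    calc c⁻¹ * b * y * (c⁻¹ * b)⁻¹ = c⁻¹ * (b * y * b⁻¹) * c := by group
      _ = c⁻¹ * (c * y⁻¹ * c⁻¹) * c := by rw [hcz]
      _ = y⁻¹ := by group
  have hsub : C1 ∪ C2 ⊆ (D.Q : Set G) \ (D.Z : Set G) :=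
    Set.union_subset (conjClass_subset D hy hyZ) (conjClass_subset D hy' hyZ')
  have hcard : (C1 ∪ C2).ncard = D.q * (D.q - 1) := by
    rw [Set.ncard_union_eq hdisj (Set.toFinite _) (Set.toFinite _)]
    have h1 := two_mul_ncard_class D hy hyZ
    have h2 := two_mul_ncard_class D hy' hyZ'
    rw [← hC1] at h1
    rw [← hC2] at h2
    omega
  have heq : C1 ∪ C2 = (D.Q : Set G) \ (D.Z : Set G) :=
    Set.eq_of_subset_of_ncard_le hsub (by rw [hcard, ncard_Q_diff_Z]) (Set.toFinite _)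
  have hxm : x ∈ C1 ∪ C2 := by
    rw [heq]; exact ⟨hx, hxZ⟩
  rcases hxm with ⟨b, hb, hbx⟩ | ⟨b, hb, hbx⟩
  · refine ⟨b⁻¹, D.B.inv_mem hb, Or.inl ?_⟩
    rw [← hbx]; group
  · refine ⟨b⁻¹, D.B.inv_mem hb, Or.inr ?_⟩
    rw [← hbx]; group

end Cfsg.Agent.Lib.Helper45.SzCh
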