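/-
helper45: project SZCH (S4775, coordinator helper6), module SZCH-[G-SUM]:
summing a class function over `G` along the pieces `Q`, `K`, `A₁`, `A₂`.
-/
import Mathlib
import Cfsg.Agent.Lib.Helper6.SzCh.Defs
import Cfsg.Agent.Lib.Helper25.SzChGCoprime
import Cfsg.Agent.Lib.Helper45.SzChGBasic

set_option autoImplicit false

namespace Cfsg.Agent.Lib.Helper45.SzCh

open Cfsg Cfsg.Agent.Lib.Helper6.SzCh
open scoped ComplexConjugate Classical

universe u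

variable {G : Type u} [Group G]

/-! ### general: T.I. subgroups -/

theorem sumNe_eq_sum [Fintype G] (H : Subgroup G) (f : G → ℂ) :
    sumNe H f = ∑ h : G, if (h ∈ H ∧ h ≠ 1) then f h else 0 := by
  unfold sumNe
  rw [finsum_eq_sum_of_fintype, ← Finset.sum_filter]
  exact (Finset.sum_subtype (Finset.univ.filter fun h : G => h ∈ H ∧ h ≠ 1) (by simp) f).symm

theorem conj_ne_one {g : G} (x : G) (hg : g ≠ 1) : x * g * x⁻¹ ≠ 1 := by
  intro h
  apply hg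
  have : g = x⁻¹ * (x * g * x⁻¹) * x := by group
  rw [this, h]; group

/-- the conjugators of `g` into a T.I. subgroup `H` form a coset of `N(H)` -/
theorem card_conjugators [Finite G] (H : Subgroup G)
    (hTI : ∀ g : G, g ∉ Subgroup.normalizer (H : Set G) → ∀ u ∈ H, g * u * g⁻¹ ∈ H → u = 1)
    {g : G} (hg : ConjInto H g) :
    Nat.card {x : G // x * g * x⁻¹ ∈ H} = Nat.card ↥(Subgroup.normalizer (H : Set G)) := by
  obtain ⟨hg1, x₀, hx₀⟩ := hg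
  refine Nat.card_congr (Equiv.subtypeEquiv (Equiv.mulRight x₀⁻¹) ?_)
  intro x
  simp only [Equiv.coe_mulRight]
  have hconj : x * g * x⁻¹ = (x * x₀⁻¹) * (x₀ * g * x₀⁻¹) * (x * x₀⁻¹)⁻¹ := by group
  have hne : x₀ * g * x₀⁻¹ ≠ 1 := conj_ne_one x₀ hg1
  constructor
  · intro h
    by_contra hn
    apply hne
    exact hTI _ hn _ hx₀ (hconj ▸ h)
  · intro hn
    rw [hconj]
    exact (Subgroup.mem_normalizer_iff.mp hn _).mp hx₀

/-- `H` T.I. with normalizer `N`: summing a class function over the elements conjugate into `H \ 1` -/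
theorem sum_conjInto_TI [Fintype G] (H : Subgroup G)
    (hTI : ∀ g : G, g ∉ Subgroup.normalizer (H : Set G) → ∀ u ∈ H, g * u * g⁻¹ ∈ H → u = 1)
    (f : G → ℂ) (hf : ∀ g x : G, f (x * g * x⁻¹) = f g) :
    (Nat.card ↥(Subgroup.normalizer (H : Set G)) : ℂ) * ∑ g ∈ Finset.univ.filter (fun g : G => ConjInto H g), f g =
      (Nat.card G : ℂ) * sumNe H f := by
  have key : ∀ g : G, (∑ x : G, if (g ≠ 1 ∧ x * g * x⁻¹ ∈ H) then f g else 0) =
      if ConjInto H g then (Nat.card ↥(Subgroup.normalizer (H : Set G)) : ℂ) * f g else 0 := by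
    intro g
    by_cases hg : ConjInto H g
    · rw [if_pos hg]
      have hiff : ∀ x : G, (g ≠ 1 ∧ x * g * x⁻¹ ∈ H) ↔ x * g * x⁻¹ ∈ H :=
        fun x => ⟨fun h => h.2, fun h => ⟨hg.1, h⟩⟩
      simp_rw [hiff]
      rw [← Finset.sum_filter, Finset.sum_const, nsmul_eq_mul, ← card_conjugators H hTI hg,
        Nat.card_eq_fintype_card, Fintype.card_subtype]
    · rw [if_neg hg]
      apply Finset.sum_eq_zero
      intro x _
      rw [if_neg]
      rintro ⟨h1, h2⟩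
      exact hg ⟨h1, x, h2⟩
  have lhs : (Nat.card ↥(Subgroup.normalizer (H : Set G)) : ℂ) *
      ∑ g ∈ Finset.univ.filter (fun g : G => ConjInto H g), f g =
      ∑ g : G, ∑ x : G, if (g ≠ 1 ∧ x * g * x⁻¹ ∈ H) then f g else 0 := by
    rw [Finset.mul_sum, Finset.sum_filter]
    apply Finset.sum_congr rfl
    intro g _
    rw [key g]
  rw [lhs, Finset.sum_comm]
  have inner : ∀ x : G, (∑ g : G, if (g ≠ 1 ∧ x * g * x⁻¹ ∈ H) then f g else 0) = sumNe H f := by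
    intro x
    rw [sumNe_eq_sum]
    rw [← Equiv.sum_comp (MulAut.conj x).toEquiv (fun h => if (h ∈ H ∧ h ≠ 1) then f h else 0)]
    apply Finset.sum_congr rfl
    intro g _
    simp only [MulEquiv.toEquiv_eq_coe, EquivLike.coe_coe, MulAut.conj_apply]
    rw [hf]
    have hiff : (x * g * x⁻¹ ∈ H ∧ x * g * x⁻¹ ≠ 1) ↔ (g ≠ 1 ∧ x * g * x⁻¹ ∈ H) := by
      constructor
      · rintro ⟨h1, h2⟩
        refine ⟨?_, h1⟩
        rintro rfl
        apply h2; group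
      · rintro ⟨h1, h2⟩
        exact ⟨h2, conj_ne_one x h1⟩
    simp only [hiff]
  simp_rw [inner]
  rw [Finset.sum_const, Finset.card_univ, nsmul_eq_mul, Nat.card_eq_fintype_card]

/-- a subgroup with `C_G(a) = A` for all `a ∈ A \ 1` is T.I. -/
theorem TI_of_cent (A : Subgroup G)
    (hcent : ∀ a ∈ A, a ≠ 1 → Subgroup.centralizer ({a} : Set G) = A) :
    ∀ g : G, g ∉ Subgroup.normalizer (A : Set G) → ∀ u ∈ A, g * u * g⁻¹ ∈ A → u = 1 := by
  intro g hg u hu hgu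
  by_contra hu1
  apply hg
  have hgu1 : g * u * g⁻¹ ≠ 1 := conj_ne_one g hu1
  have h1 := hcent u hu hu1
  have h2 := hcent _ hgu hgu1
  rw [Subgroup.mem_normalizer_iff]
  intro h
  constructor
  · intro hh
    have hh' : h ∈ Subgroup.centralizer ({u} : Set G) := h1 ▸ hh
    have hc := (Subgroup.mem_centralizer_iff.mp hh') u rfl
    have : g * h * g⁻¹ ∈ Subgroup.centralizer ({g * u * g⁻¹} : Set G) := by
      rw [Subgroup.mem_centralizer_iff]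
      simp only [Set.mem_singleton_iff, forall_eq]
      calc g * u * g⁻¹ * (g * h * g⁻¹) = g * (u * h) * g⁻¹ := by group
        _ = g * (h * u) * g⁻¹ := by rw [hc]
        _ = g * h * g⁻¹ * (g * u * g⁻¹) := by group
    exact h2 ▸ this
  · intro hh
    have hh' : g * h * g⁻¹ ∈ Subgroup.centralizer ({g * u * g⁻¹} : Set G) := h2 ▸ hh
    have hc := (Subgroup.mem_centralizer_iff.mp hh') _ rfl
    have : h ∈ Subgroup.centralizer ({u} : Set G) := by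
      rw [Subgroup.mem_centralizer_iff]
      simp only [Set.mem_singleton_iff, forall_eq]
      calc u * h = g⁻¹ * (g * u * g⁻¹ * (g * h * g⁻¹)) * g := by group
        _ = g⁻¹ * (g * h * g⁻¹ * (g * u * g⁻¹)) * g := by rw [hc]
        _ = h * u := by group
    exact h1 ▸ this

/-! ### the pieces of `Sz(q)` are pairwise non-conjugate -/

theorem not_both_B_A [Finite G] (D : SzData G) {g : G} (hg : g ≠ 1) {x y : G} (hx : x * g * x⁻¹ ∈ D.B)
    (hy : y * g * y⁻¹ ∈ D.A₁ ∨ y * g * y⁻¹ ∈ D.A₂) : False := by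
  have hconj : y * g * y⁻¹ = (y * x⁻¹) * (x * g * x⁻¹) * (y * x⁻¹)⁻¹ := by group
  rw [hconj] at hy
  exact conj_ne_one x hg (Cfsg.Agent.Lib.Helper25.SzCh.not_conj_B_A D hx _ hy)

theorem not_both_Q_K [Finite G] (D : SzData G) {g : G} (hg : g ≠ 1) {x y : G} (hx : x * g * x⁻¹ ∈ D.Q)
    (hy : y * g * y⁻¹ ∈ D.K) : False := by
  have hconj : x * g * x⁻¹ = (x * y⁻¹) * (y * g * y⁻¹) * (x * y⁻¹)⁻¹ := by group
  rw [hconj] at hx
  exact conj_ne_one y hg (Cfsg.Agent.Lib.Helper25.SzCh.not_conj_K_Q D hy _ hx)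

theorem not_both_A₁_A₂ [Finite G] (D : SzData G) {g : G} (hg : g ≠ 1) {x y : G} (hx : x * g * x⁻¹ ∈ D.A₁)
    (hy : y * g * y⁻¹ ∈ D.A₂) : False := by
  have hconj : y * g * y⁻¹ = (y * x⁻¹) * (x * g * x⁻¹) * (y * x⁻¹)⁻¹ := by group
  rw [hconj] at hy
  exact conj_ne_one x hg (Cfsg.Agent.Lib.Helper25.SzCh.not_conj_A₁_A₂ D hx _ hy)

/-- every non-identity element is conjugate into exactly one of `Q`, `K`, `A₁`, `A₂` -/
theorem conjInto_cases [Finite G] (D : SzData G) {g : G} (hg : g ≠ 1) :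
    (ConjInto D.Q g ∧ ¬ ConjInto D.K g ∧ ¬ ConjInto D.A₁ g ∧ ¬ ConjInto D.A₂ g) ∨
    (¬ ConjInto D.Q g ∧ ConjInto D.K g ∧ ¬ ConjInto D.A₁ g ∧ ¬ ConjInto D.A₂ g) ∨
    (¬ ConjInto D.Q g ∧ ¬ ConjInto D.K g ∧ ConjInto D.A₁ g ∧ ¬ ConjInto D.A₂ g) ∨
    (¬ ConjInto D.Q g ∧ ¬ ConjInto D.K g ∧ ¬ ConjInto D.A₁ g ∧ ConjInto D.A₂ g) := by
  have hQK : ¬ (ConjInto D.Q g ∧ ConjInto D.K g) := by
    rintro ⟨⟨_, x, hx⟩, ⟨_, y, hy⟩⟩; exact not_both_Q_K D hg hx hy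
  have hQ1 : ¬ (ConjInto D.Q g ∧ ConjInto D.A₁ g) := by
    rintro ⟨⟨_, x, hx⟩, ⟨_, y, hy⟩⟩; exact not_both_B_A D hg (Q_le_B D hx) (Or.inl hy)
  have hQ2 : ¬ (ConjInto D.Q g ∧ ConjInto D.A₂ g) := by
    rintro ⟨⟨_, x, hx⟩, ⟨_, y, hy⟩⟩; exact not_both_B_A D hg (Q_le_B D hx) (Or.inr hy)
  have hK1 : ¬ (ConjInto D.K g ∧ ConjInto D.A₁ g) := by
    rintro ⟨⟨_, x, hx⟩, ⟨_, y, hy⟩⟩; exact not_both_B_A D hg (D.K_le hx) (Or.inl hy)
  have hK2 : ¬ (ConjInto D.K g ∧ ConjInto D.A₂ g) := by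
    rintro ⟨⟨_, x, hx⟩, ⟨_, y, hy⟩⟩; exact not_both_B_A D hg (D.K_le hx) (Or.inr hy)
  have h12 : ¬ (ConjInto D.A₁ g ∧ ConjInto D.A₂ g) := by
    rintro ⟨⟨_, x, hx⟩, ⟨_, y, hy⟩⟩; exact not_both_A₁_A₂ D hg hx hy
  have hcov : ConjInto D.Q g ∨ ConjInto D.K g ∨ ConjInto D.A₁ g ∨ ConjInto D.A₂ g := by
    obtain ⟨x, hx | hx | hx | hx⟩ := D.cover g
    · exact Or.inl ⟨hg, x, hx⟩
    · exact Or.inr (Or.inl ⟨hg, x, hx⟩)
    · exact Or.inr (Or.inr (Or.inl ⟨hg, x, hx⟩))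
    · exact Or.inr (Or.inr (Or.inr ⟨hg, x, hx⟩))
  rcases hcov with h | h | h | h
  · exact Or.inl ⟨h, fun k => hQK ⟨h, k⟩, fun k => hQ1 ⟨h, k⟩, fun k => hQ2 ⟨h, k⟩⟩
  · exact Or.inr (Or.inl ⟨fun k => hQK ⟨k, h⟩, h, fun k => hK1 ⟨h, k⟩, fun k => hK2 ⟨h, k⟩⟩)
  · exact Or.inr (Or.inr (Or.inl ⟨fun k => hQ1 ⟨k, h⟩, fun k => hK1 ⟨k, h⟩, h, fun k => h12 ⟨h, k⟩⟩))
  · exact Or.inr (Or.inr (Or.inr ⟨fun k => hQ2 ⟨k, h⟩, fun k => hK2 ⟨k, h⟩, fun k => h12 ⟨k, h⟩, h⟩))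

/-- the partition of `∑ f` along the pieces -/
theorem sum_eq_pieces [Fintype G] (D : SzData G) (f : G → ℂ) :
    ∑ g : G, f g = f 1 + ∑ g ∈ Finset.univ.filter (fun g : G => ConjInto D.Q g), f g
      + ∑ g ∈ Finset.univ.filter (fun g : G => ConjInto D.K g), f g
      + ∑ g ∈ Finset.univ.filter (fun g : G => ConjInto D.A₁ g), f g
      + ∑ g ∈ Finset.univ.filter (fun g : G => ConjInto D.A₂ g), f g := by
  have hpart : ∀ g : G, f g = (if g = 1 then f 1 else 0) + (if ConjInto D.Q g then f g else 0)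
      + (if ConjInto D.K g then f g else 0) + (if ConjInto D.A₁ g then f g else 0)
      + (if ConjInto D.A₂ g then f g else 0) := by
    intro g
    by_cases hg : g = 1
    · subst hg
      have h0 : ∀ H : Subgroup G, ¬ ConjInto H (1 : G) := fun H h => h.1 rfl
      simp [h0]
    · rcases conjInto_cases D hg with ⟨a, b, c, d⟩ | ⟨a, b, c, d⟩ | ⟨a, b, c, d⟩ | ⟨a, b, c, d⟩ <;>
        simp [hg, a, b, c, d]
  have h1 : ∑ g : G, (if g = 1 then f 1 else 0) = f 1 := by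
    rw [Finset.sum_ite_eq' Finset.univ (1 : G) (fun _ => f 1)]
    simp
  calc ∑ g : G, f g = ∑ g : G, ((if g = 1 then f 1 else 0) + (if ConjInto D.Q g then f g else 0)
      + (if ConjInto D.K g then f g else 0) + (if ConjInto D.A₁ g then f g else 0)
      + (if ConjInto D.A₂ g then f g else 0)) := Finset.sum_congr rfl (fun g _ => hpart g)
    _ = _ := by
      rw [Finset.sum_add_distrib, Finset.sum_add_distrib, Finset.sum_add_distrib,
        Finset.sum_add_distrib, h1, Finset.sum_filter, Finset.sum_filter, Finset.sum_filter,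
        Finset.sum_filter]

theorem four_sum [Fintype G] (D : SzData G) (f : G → ℂ) (hf : ∀ g x : G, f (x * g * x⁻¹) = f g) :
    4 * ∑ g : G, f g = 4 * f 1 + 4 * ((D.q : ℂ) ^ 2 + 1) * sumNe D.Q f
      + 2 * (D.q : ℂ) ^ 2 * ((D.q : ℂ) ^ 2 + 1) * sumNe D.K f
      + (D.q : ℂ) ^ 2 * ((D.q : ℂ) - 1) * (Nat.card D.A₂ : ℂ) * sumNe D.A₁ f
      + (D.q : ℂ) ^ 2 * ((D.q : ℂ) - 1) * (Nat.card D.A₁ : ℂ) * sumNe D.A₂ f := by
  have eQ := sum_conjInto_TI D.Q D.Q_TI f hf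
  have eK := sum_conjInto_TI D.K (TI_of_cent D.K D.cent_K) f hf
  have e1 := sum_conjInto_TI D.A₁ (TI_of_cent D.A₁ D.cent_A₁) f hf
  have e2 := sum_conjInto_TI D.A₂ (TI_of_cent D.A₂ D.cent_A₂) f hf
  have hq1 : 1 ≤ D.q := q_pos D
  have hq2 : 2 ≤ D.q := Nat.le_of_dvd (q_pos D) (q_even D)
  -- the orders, in `ℂ`
  have cG : (Nat.card G : ℂ) = (D.q : ℂ) ^ 2 * ((D.q : ℂ) ^ 2 + 1) * ((D.q : ℂ) - 1) := by
    rw [D.card_G]
    change ((D.q ^ 2 * (D.q ^ 2 + 1) * (D.q - 1) : ℕ) : ℂ) = _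
    push_cast [Nat.cast_sub hq1]; ring
  have cB : (Nat.card ↥(Subgroup.normalizer (D.Q : Set G)) : ℂ) = (D.q : ℂ) ^ 2 * ((D.q : ℂ) - 1) := by
    have := card_B D
    change Nat.card ↥(Subgroup.normalizer (D.Q : Set G)) = _ at this
    rw [this]; push_cast [Nat.cast_sub hq1]; ring
  have cNK : (Nat.card ↥(Subgroup.normalizer (D.K : Set G)) : ℂ) = 2 * ((D.q : ℂ) - 1) := by
    rw [D.card_norm_K]
    change ((2 * (D.q - 1) : ℕ) : ℂ) = _
    push_cast [Nat.cast_sub hq1]; ring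
  have cN1 : (Nat.card ↥(Subgroup.normalizer (D.A₁ : Set G)) : ℂ) = 4 * (Nat.card D.A₁ : ℂ) := by
    rw [D.card_norm_A₁]; push_cast; ring
  have cN2 : (Nat.card ↥(Subgroup.normalizer (D.A₂ : Set G)) : ℂ) = 4 * (Nat.card D.A₂ : ℂ) := by
    rw [D.card_norm_A₂]; push_cast; ring
  have hn : (Nat.card D.A₁ : ℂ) * (Nat.card D.A₂ : ℂ) = (D.q : ℂ) ^ 2 + 1 := by
    have h := Cfsg.Agent.Lib.Helper25.SzCh.gcop_mul D.m (Nat.card D.A₂) D.card_A₂
    rw [← D.card_A₁] at h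
    have h' : ((Nat.card D.A₁ * Nat.card D.A₂ : ℕ) : ℂ) = ((qOf D.m ^ 2 + 1 : ℕ) : ℂ) := by rw [h]
    push_cast at h'
    exact h'
  have hqne : (D.q : ℂ) ≠ 0 := by
    have : D.q ≠ 0 := by omega
    exact_mod_cast this
  have hq1ne : (D.q : ℂ) - 1 ≠ 0 := by
    have : (D.q : ℂ) ≠ 1 := by
      have : D.q ≠ 1 := by omega
      exact_mod_cast this
    exact sub_ne_zero.mpr this
  have hn1 : (Nat.card D.A₁ : ℂ) ≠ 0 := by
    have : Nat.card D.A₁ ≠ 0 := Nat.card_pos.ne'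
    exact_mod_cast this
  have hn2 : (Nat.card D.A₂ : ℂ) ≠ 0 := by
    have : Nat.card D.A₂ ≠ 0 := Nat.card_pos.ne'
    exact_mod_cast this
  rw [cG] at eQ eK e1 e2
  rw [cB] at eQ
  rw [cNK] at eK
  rw [cN1] at e1
  rw [cN2] at e2
  have rQ : ∑ g ∈ Finset.univ.filter (fun g : G => ConjInto D.Q g), f g =
      ((D.q : ℂ) ^ 2 + 1) * sumNe D.Q f := by
    apply mul_left_cancel₀ (mul_ne_zero (pow_ne_zero 2 hqne) hq1ne)
    rw [eQ]; ring
  have rK : 2 * ∑ g ∈ Finset.univ.filter (fun g : G => ConjInto D.K g), f g =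
      (D.q : ℂ) ^ 2 * ((D.q : ℂ) ^ 2 + 1) * sumNe D.K f := by
    apply mul_left_cancel₀ hq1ne
    linear_combination eK
  have r1 : 4 * ∑ g ∈ Finset.univ.filter (fun g : G => ConjInto D.A₁ g), f g =
      (D.q : ℂ) ^ 2 * ((D.q : ℂ) - 1) * (Nat.card D.A₂ : ℂ) * sumNe D.A₁ f := by
    apply mul_left_cancel₀ hn1
    rw [← hn] at e1
    linear_combination e1
  have r2 : 4 * ∑ g ∈ Finset.univ.filter (fun g : G => ConjInto D.A₂ g), f g =
      (D.q : ℂ) ^ 2 * ((D.q : ℂ) - 1) * (Nat.card D.A₁ : ℂ) * sumNe D.A₂ f := by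
    apply mul_left_cancel₀ hn2
    rw [← hn] at e2
    linear_combination e2
  rw [sum_eq_pieces D f]
  linear_combination 4 * rQ + 2 * rK + r1 + r2

end Cfsg.Agent.Lib.Helper45.SzCh
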