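import Mathlib
import Cfsg.Prelude.Def_CaseTheorems
import Cfsg.Prelude.Def_Transfer
import Cfsg.Agent.S0065
import Cfsg.Agent.S0016
import Cfsg.Agent.Lib.Helper48.SPE
import Cfsg.Agent.Lib.Helper73.CyclicMax
import Cfsg.Agent.S0126
import Cfsg.Agent.S0519
import Cfsg.Agent.S2849

/-!
# Normal elementary abelian subgroups of order `p ^ 2` in `p`-groups of rank at least 3 (helper45)

* `exists_normal_card_sq_le`: a normal subgroup of order `≥ p ^ 2` of a finite `p`-group contains
  a normal subgroup of order `p ^ 2`.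
* `exists_normal_elementaryAbelian_sq`: a finite `p`-group containing an elementary abelian subgroup
  of order `> p ^ 2` has a normal elementary abelian subgroup of order `p ^ 2`.
-/

set_option autoImplicit false

namespace Cfsg.Agent.Lib.Helper45

open Cfsg

section

variable {P : Type*} [Group P] [Finite P] {p : ℕ} [Fact p.Prime]

/-- a nontrivial normal subgroup of a finite `p`-group contains a central element of order `p` -/
theorem exists_central_orderOf_eq (hP : IsPGroup p P) (N : Subgroup P) [N.Normal] (hN : N ≠ ⊥) :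
    ∃ z ∈ N, z ∈ Subgroup.center P ∧ orderOf z = p := by
  have hnil : Group.IsNilpotent P := hP.isNilpotent
  have h1 : N ⊓ Subgroup.center P ≠ ⊥ := Cfsg.Agent.S0065.result N hN
  obtain ⟨z, hz, hzp⟩ := Cfsg.Agent.Lib.Helper48.exists_orderOf_eq_of_ne_bot
    (hP.to_subgroup (N ⊓ Subgroup.center P)) h1
  exact ⟨z, hz.1, hz.2, hzp⟩

/-- a normal subgroup of order at least `p ^ 2` of a finite `p`-group contains a normal subgroup of
order `p ^ 2` -/
theorem exists_normal_card_sq_le (hP : IsPGroup p P) (N : Subgroup P) [hNn : N.Normal]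
    (hN : p ^ 2 ≤ Nat.card N) : ∃ U : Subgroup P, U ≤ N ∧ U.Normal ∧ Nat.card U = p ^ 2 := by
  have hp : p.Prime := Fact.out
  have hN1 : N ≠ ⊥ := by
    rintro rfl
    rw [Subgroup.card_bot] at hN
    have : 1 < p ^ 2 := Nat.one_lt_pow (by norm_num) hp.one_lt
    omega
  obtain ⟨z, hzN, hzc, hzp⟩ := exists_central_orderOf_eq hP N hN1
  have hZn : (Subgroup.zpowers z).Normal := Cfsg.Agent.S0016.zpowers_normal_of_mem_center hzc
  have hZcard : Nat.card (Subgroup.zpowers z) = p := by rw [Nat.card_zpowers, hzp]
  have hZN : Subgroup.zpowers z ≤ N := Subgroup.zpowers_le.mpr hzN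
  set π := QuotientGroup.mk' (Subgroup.zpowers z) with hπ
  have hπs : Function.Surjective π := QuotientGroup.mk'_surjective _
  have hker : π.ker = Subgroup.zpowers z := QuotientGroup.ker_mk' _
  have hNbar : (N.map π).Normal := hNn.map π hπs
  have hNbar1 : N.map π ≠ ⊥ := by
    intro h
    rw [Subgroup.map_eq_bot_iff, hker] at h
    have := Subgroup.card_le_of_le h
    rw [hZcard] at this
    have : p < p ^ 2 := by
      calc p = p ^ 1 := (pow_one p).symm
        _ < p ^ 2 := Nat.pow_lt_pow_right hp.one_lt (by norm_num)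
    omega
  have hQ : IsPGroup p (P ⧸ Subgroup.zpowers z) := hP.to_quotient _
  obtain ⟨w, hwN, hwc, hwp⟩ := exists_central_orderOf_eq hQ (N.map π) hNbar1
  have hWn : (Subgroup.zpowers w).Normal := Cfsg.Agent.S0016.zpowers_normal_of_mem_center hwc
  refine ⟨(Subgroup.zpowers w).comap π, ?_, hWn.comap π, ?_⟩
  · have h1 : (Subgroup.zpowers w).comap π ≤ (N.map π).comap π :=
      Subgroup.comap_mono (Subgroup.zpowers_le.mpr hwN)
    rw [Subgroup.comap_map_eq, hker, sup_eq_left.mpr hZN] at h1
    exact h1
  · have hidx : ((Subgroup.zpowers w).comap π).index = (Subgroup.zpowers w).index :=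
      Subgroup.index_comap_of_surjective _ hπs
    have h1 := ((Subgroup.zpowers w).comap π).card_mul_index
    have h2 := (Subgroup.zpowers w).card_mul_index
    have h3 := Subgroup.card_eq_card_quotient_mul_card_subgroup (Subgroup.zpowers z)
    rw [Nat.card_zpowers, hwp] at h2
    rw [hZcard] at h3
    rw [hidx] at h1
    have hidx0 : (Subgroup.zpowers w).index ≠ 0 := Subgroup.index_ne_zero_of_finite
    have h4 : Nat.card ((Subgroup.zpowers w).comap π) * (Subgroup.zpowers w).index =
        p ^ 2 * (Subgroup.zpowers w).index := by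
      rw [h1, h3, ← h2]; ring
    exact Nat.eq_of_mul_eq_mul_right (Nat.pos_of_ne_zero hidx0) h4

/-- in a finite group with a cyclic subgroup of index at most `2`, subgroups of exponent `2` have
order at most `4` -/
theorem card_le_four_of_cyclic_index_two {Q : Type*} [Group Q] [Finite Q] (c : Q)
    (hc : Nat.card Q ≤ 2 * orderOf c) (E : Subgroup Q) (hE : ∀ e ∈ E, e ^ 2 = 1) :
    Nat.card E ≤ 4 := by
  set C := Subgroup.zpowers c with hC
  have hCcard : Nat.card C = orderOf c := Nat.card_zpowers c
  have hidx : C.index ≤ 2 := by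
    have h1 := C.card_mul_index
    rw [hCcard] at h1
    have hpos : 0 < orderOf c := orderOf_pos c
    by_contra hcon
    push Not at hcon
    have : orderOf c * 3 ≤ orderOf c * C.index := Nat.mul_le_mul_left _ hcon
    omega
  set D := E ⊓ C with hD
  have hDC : D ≤ C := inf_le_right
  have hDE : D ≤ E := inf_le_left
  have hDcyc : IsCyclic D := Subgroup.isCyclic_of_le hDC
  have hDcard : Nat.card D ≤ 2 := by
    obtain ⟨g, hg⟩ := hDcyc.exists_generator
    have h1 : orderOf g = Nat.card D := orderOf_eq_card_of_forall_mem_zpowers hg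
    have h2 : g ^ 2 = 1 := by
      apply Subtype.ext
      simpa using hE g.1 (hDE g.2)
    have h3 : orderOf g ∣ 2 := orderOf_dvd_of_pow_eq_one h2
    rw [← h1]
    exact Nat.le_of_dvd (by norm_num) h3
  have hrel : D.relIndex E ≤ 2 := by
    rw [hD, Subgroup.inf_relIndex_left]
    have h0 : C.relIndex ⊤ ≠ 0 := by
      rw [Subgroup.relIndex_top_right]; exact Subgroup.index_ne_zero_of_finite
    have := Subgroup.relIndex_le_of_le_right (H := C) (K := E) (L := ⊤) le_top h0
    rw [Subgroup.relIndex_top_right] at this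
    omega
  have hmul : Nat.card D * D.relIndex E = Nat.card E := by
    have := Subgroup.relIndex_mul_relIndex (⊥ : Subgroup Q) D E bot_le hDE
    rwa [Subgroup.relIndex_bot_left, Subgroup.relIndex_bot_left] at this
  calc Nat.card E = Nat.card D * D.relIndex E := hmul.symm
    _ ≤ 2 * 2 := Nat.mul_le_mul hDcard hrel
    _ = 4 := by norm_num

/-- quaternion, dihedral and quasi-dihedral groups have a cyclic subgroup of index two -/
theorem exists_cyclic_index_two_of_maximal_class {Q : Type*} [Group Q] [Finite Q]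
    (h : (∃ n : ℕ, Nonempty (Q ≃* QuaternionGroup n)) ∨
      (∃ n : ℕ, 8 ≤ n ∧ Nonempty (Q ≃* DihedralGroup n)) ∨ Cfsg.IsQuasiDihedral Q) :
    ∃ c : Q, Nat.card Q ≤ 2 * orderOf c := by
  rcases h with ⟨n, ⟨e⟩⟩ | ⟨n, hn, ⟨e⟩⟩ | ⟨n, hn, hcard, x, y, hx, hy, hxy⟩
  · refine ⟨e.symm (QuaternionGroup.a 1), ?_⟩
    have hord : orderOf (e.symm (QuaternionGroup.a 1)) = 2 * n := by
      rw [MulEquiv.orderOf_eq, QuaternionGroup.orderOf_a_one]
    have hn0 : n ≠ 0 := by
      rintro rfl
      have := orderOf_pos (e.symm (QuaternionGroup.a 1))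
      omega
    have : NeZero n := ⟨hn0⟩
    rw [hord, Nat.card_congr e.toEquiv, Nat.card_eq_fintype_card, QuaternionGroup.card]
    omega
  · refine ⟨e.symm (DihedralGroup.r 1), ?_⟩
    rw [MulEquiv.orderOf_eq, DihedralGroup.orderOf_r_one, Nat.card_congr e.toEquiv,
      DihedralGroup.nat_card]
  · refine ⟨x, ?_⟩
    rw [hcard, hx, pow_succ]
    omega

/-- **Claim A**: a finite `p`-group containing an elementary abelian subgroup of order greater than
`p ^ 2` has a normal elementary abelian subgroup of order `p ^ 2`. -/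
theorem exists_normal_elementaryAbelian_sq (hP : IsPGroup p P) (E : Subgroup P)
    (hEc : IsMulCommutative E) (hEp : ∀ e ∈ E, e ^ p = 1) (hE : p ^ 2 < Nat.card E) :
    ∃ U : Subgroup P, U.Normal ∧ Cfsg.IsElementaryAbelian p U ∧ Nat.card U = p ^ 2 := by
  have hp : p.Prime := Fact.out
  have hpp : p < p ^ 2 := by
    calc p = p ^ 1 := (pow_one p).symm
      _ < p ^ 2 := Nat.pow_lt_pow_right hp.one_lt (by norm_num)
  -- `E` is not cyclic
  have hEnc : ¬ IsCyclic E := by
    intro hcyc
    obtain ⟨g, hg⟩ := hcyc.exists_generator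
    have h1 : orderOf g = Nat.card E := orderOf_eq_card_of_forall_mem_zpowers hg
    have h2 : g ^ p = 1 := by
      apply Subtype.ext
      simpa using hEp g.1 g.2
    have h3 : orderOf g ∣ p := orderOf_dvd_of_pow_eq_one h2
    have := Nat.le_of_dvd hp.pos h3
    omega
  by_cases hp2 : p = 2
  · subst hp2
    by_contra hno
    push Not at hno
    -- every normal abelian subgroup is cyclic
    have hn : ∀ A : Subgroup P, A.Normal → IsMulCommutative A → IsCyclic A := by
      intro A hAn hAc
      by_contra hAnc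
      let _ : CommGroup A := { (inferInstance : Group A) with mul_comm := hAc.is_comm.comm }
      have hnu : ¬ Cfsg.Agent.S0016.Uniq 2 A := fun hu =>
        hAnc (Cfsg.Agent.S0016.isCyclic_of_comm (A := A) 2 (hP.to_subgroup A) hu)
      unfold Cfsg.Agent.S0016.Uniq at hnu
      push Not at hnu
      obtain ⟨H, K, hH, hK, hHK⟩ := hnu
      set s : Set P := {x | x ∈ A ∧ x ^ 2 = 1} with hs
      set Ω := Subgroup.closure s with hΩ
      have hΩea : Cfsg.IsElementaryAbelian 2 Ω := by
        apply Cfsg.Agent.S2849.isElementaryAbelian_closure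
        · intro x hx y hy
          exact congrArg Subtype.val (hAc.is_comm.comm ⟨x, hx.1⟩ ⟨y, hy.1⟩)
        · intro x hx
          exact hx.2
      have hΩn : Ω.Normal := by
        apply Cfsg.Agent.S0519.closure_normal_of_conj_mem
        intro g w hw
        apply Subgroup.subset_closure
        refine ⟨hAn.conj_mem w hw.1 g, ?_⟩
        rw [conj_pow, hw.2]; simp
      -- both subgroups of order two lie in `Ω`
      have hsub : ∀ L : Subgroup A, Nat.card L = 2 → L.map A.subtype ≤ Ω := by
        intro L hL
        rintro _ ⟨x, hx, rfl⟩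
        apply Subgroup.subset_closure
        refine ⟨x.2, ?_⟩
        have h1 : (⟨x, hx⟩ : L) ^ Nat.card L = 1 := pow_card_eq_one'
        rw [hL] at h1
        have h2 := congrArg (fun t : L => ((t : A) : P)) h1
        simpa using h2
      have hcardmap : ∀ L : Subgroup A, Nat.card L = 2 → Nat.card (L.map A.subtype) = 2 := by
        intro L hL
        rw [Subgroup.card_map_of_injective A.subtype_injective, hL]
      have hΩcard : 2 ^ 2 ≤ Nat.card Ω := by
        obtain ⟨k, hk⟩ := (hP.to_subgroup Ω).exists_card_eq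
        rw [hk]
        apply Nat.pow_le_pow_right (by norm_num)
        by_contra hk2
        push Not at hk2
        have hk1 : Nat.card Ω ≤ 2 := by
          rw [hk]
          calc 2 ^ k ≤ 2 ^ 1 := Nat.pow_le_pow_right (by norm_num) (by omega)
            _ = 2 := by norm_num
        have e1 : H.map A.subtype = Ω :=
          Subgroup.eq_of_le_of_card_ge (hsub H hH) (by rw [hcardmap H hH]; exact hk1)
        have e2 : K.map A.subtype = Ω :=
          Subgroup.eq_of_le_of_card_ge (hsub K hK) (by rw [hcardmap K hK]; exact hk1)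
        exact hHK (Subgroup.map_injective A.subtype_injective (e1.trans e2.symm))
      obtain ⟨U, hUΩ, hUn, hUcard⟩ := exists_normal_card_sq_le hP Ω hΩcard
      refine hno U hUn ⟨?_, fun a ha => hΩea.2 a (hUΩ ha)⟩ hUcard
      refine ⟨⟨fun a b => ?_⟩⟩
      apply Subtype.ext
      have := congrArg Subtype.val (hΩea.1.is_comm.comm ⟨a.1, hUΩ a.2⟩ ⟨b.1, hUΩ b.2⟩)
      simpa using this
    have h519 := Cfsg.Agent.S0519.result 2 hP hn ⟨E, hEc, hEnc⟩
    obtain ⟨c, hc⟩ := exists_cyclic_index_two_of_maximal_class h519.2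
    have := card_le_four_of_cyclic_index_two c hc E hEp
    omega
  · have hnc : ¬ IsCyclic P := by
      intro hcyc
      exact hEnc inferInstance
    exact Cfsg.Agent.S0126.result hp2 hP hnc

end

end Cfsg.Agent.Lib.Helper45
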