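import Mathlib
import Cfsg.Prelude.Def_CaseTheorems
import Cfsg.Prelude.Def_Transfer
import Cfsg.Agent.Lib.Helper45.NormalEpp

/-!
# Tools for `p`-rank arguments (helper45)

* `not_pRankLE_subgroup_iff`: `¬ PRankLE p 2 ↥H` means an elementary abelian subgroup of order
  `> p ^ 2` inside `H`.
* `isElementaryAbelian_sup`: the join of two commuting elementary abelian subgroups.
* `index_centralizer_normal_sq_le`: the centralizer of a normal subgroup of order `p ^ 2` in a
  finite `p`-group has index at most `p`.
* `sq_le_card_inf_of_index_le`: intersecting a subgroup of order `> p ^ 2` with a subgroup of index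
  `≤ p` leaves order `≥ p ^ 2`.
-/

set_option autoImplicit false

namespace Cfsg.Agent.Lib.Helper45

open Cfsg

section

variable {P : Type*} [Group P]

/-- a subgroup of an elementary abelian subgroup is elementary abelian -/
theorem isElementaryAbelian_of_le {p : ℕ} {A B : Subgroup P} (hB : IsElementaryAbelian p B)
    (h : A ≤ B) : IsElementaryAbelian p A := by
  refine ⟨⟨⟨fun a b => ?_⟩⟩, fun a ha => hB.2 a (h ha)⟩
  apply Subtype.ext
  have := congrArg Subtype.val (hB.1.is_comm.comm ⟨a.1, h a.2⟩ ⟨b.1, h b.2⟩)
  simpa using this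

/-- elements of an elementary abelian subgroup commute -/
theorem IsElementaryAbelian_comm {p : ℕ} {A : Subgroup P} (hA : IsElementaryAbelian p A)
    {a b : P} (ha : a ∈ A) (hb : b ∈ A) : a * b = b * a :=
  congrArg Subtype.val (hA.1.is_comm.comm ⟨a, ha⟩ ⟨b, hb⟩)

/-- the join of two elementwise commuting elementary abelian subgroups is elementary abelian -/
theorem isElementaryAbelian_sup {p : ℕ} {A B : Subgroup P} (hA : IsElementaryAbelian p A)
    (hB : IsElementaryAbelian p B) (hAB : ∀ a ∈ A, ∀ b ∈ B, a * b = b * a) :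
    IsElementaryAbelian p (A ⊔ B) := by
  have h1 : A ⊔ B = Subgroup.closure ((A : Set P) ∪ (B : Set P)) := by
    rw [Subgroup.closure_union, Subgroup.closure_eq, Subgroup.closure_eq]
  rw [h1]
  apply Cfsg.Agent.S2849.isElementaryAbelian_closure
  · rintro x (hx | hx) y (hy | hy)
    · exact IsElementaryAbelian_comm hA hx hy
    · exact hAB x hx y hy
    · exact (hAB y hy x hx).symm
    · exact IsElementaryAbelian_comm hB hx hy
  · rintro x (hx | hx)
    · exact hA.2 x hx
    · exact hB.2 x hx

/-- `¬ PRankLE p 2 ↥H` unfolded to subgroups of the ambient group -/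
theorem not_pRankLE_subgroup_iff {p : ℕ} (k : ℕ) (H : Subgroup P) :
    ¬ PRankLE p k ↥H ↔
      ∃ F : Subgroup P, F ≤ H ∧ IsElementaryAbelian p F ∧ p ^ k < Nat.card F := by
  constructor
  · intro h
    unfold PRankLE at h
    push Not at h
    obtain ⟨A, hAc, hAp, hcard⟩ := h
    refine ⟨A.map H.subtype, Subgroup.map_subtype_le A, ⟨Subgroup.map_isMulCommutative A _, ?_⟩, ?_⟩
    · rintro _ ⟨a, ha, rfl⟩
      rw [← map_pow, hAp a ha, map_one]
    · rw [Subgroup.card_map_of_injective H.subtype_injective]
      exact hcard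
  · rintro ⟨F, hFH, ⟨hFc, hFp⟩, hcard⟩ h
    have h1 := h (F.subgroupOf H) (Subgroup.subgroupOf_isMulCommutative H F) (by
      intro a ha
      apply Subtype.ext
      have := hFp a.1 (Subgroup.mem_subgroupOf.mp ha)
      simpa using this)
    rw [Nat.card_congr (Subgroup.subgroupOfEquivOfLe hFH).toEquiv] at h1
    omega

/-- `¬ PRankLE p k P` unfolded -/
theorem not_pRankLE_iff {p : ℕ} (k : ℕ) :
    ¬ PRankLE p k P ↔ ∃ F : Subgroup P, IsElementaryAbelian p F ∧ p ^ k < Nat.card F := by
  constructor
  · intro h
    unfold PRankLE at h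
    push Not at h
    obtain ⟨A, hAc, hAp, hcard⟩ := h
    exact ⟨A, ⟨hAc, hAp⟩, hcard⟩
  · rintro ⟨F, ⟨hFc, hFp⟩, hcard⟩ h
    have := h F hFc hFp
    omega

end

section

variable {P : Type*} [Group P] [Finite P] {p : ℕ} [Fact p.Prime]

/-- intersecting a subgroup of order `> p ^ 2` of a `p`-group with a subgroup of index `≤ p` leaves
a subgroup of order `≥ p ^ 2` -/
theorem sq_le_card_inf_of_index_le (hP : IsPGroup p P) (F C : Subgroup P) (hC : C.index ≤ p)
    (hF : p ^ 2 < Nat.card F) : p ^ 2 ≤ Nat.card (F ⊓ C : Subgroup P) := by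
  have hp : p.Prime := Fact.out
  set D := F ⊓ C with hD
  have hDF : D ≤ F := inf_le_left
  have hrel : D.relIndex F ≤ p := by
    rw [hD, Subgroup.inf_relIndex_left]
    have h0 : C.relIndex ⊤ ≠ 0 := by
      rw [Subgroup.relIndex_top_right]; exact Subgroup.index_ne_zero_of_finite
    have := Subgroup.relIndex_le_of_le_right (H := C) (K := F) (L := ⊤) le_top h0
    rw [Subgroup.relIndex_top_right] at this
    omega
  have hmul : Nat.card D * D.relIndex F = Nat.card F := by
    have := Subgroup.relIndex_mul_relIndex (⊥ : Subgroup P) D F bot_le hDF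
    rwa [Subgroup.relIndex_bot_left, Subgroup.relIndex_bot_left] at this
  obtain ⟨k, hk⟩ := (hP.to_subgroup D).exists_card_eq
  rw [hk]
  apply Nat.pow_le_pow_right hp.pos
  by_contra hk2
  push Not at hk2
  have hk1 : Nat.card D ≤ p := by
    rw [hk]
    calc p ^ k ≤ p ^ 1 := Nat.pow_le_pow_right hp.pos (by omega)
      _ = p := pow_one p
  have : Nat.card F ≤ p * p := by
    rw [← hmul]
    exact Nat.mul_le_mul hk1 hrel
  rw [← pow_two] at this
  omega

/-- in a subgroup of order `p ^ 2`, an element of order `p` and an element outside its powers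
generate: anything commuting with both commutes with the whole subgroup -/
theorem comm_of_comm_generators (U : Subgroup P) (hU : Nat.card U = p ^ 2) {z u : P}
    (hzU : z ∈ U) (hz : orderOf z = p) (huU : u ∈ U) (hu : u ∉ Subgroup.zpowers z) {x : P}
    (hxz : x * z = z * x) (hxu : x * u = u * x) : ∀ w ∈ U, x * w = w * x := by
  have hp : p.Prime := Fact.out
  set W := Subgroup.zpowers z ⊔ Subgroup.zpowers u with hW
  have hWU : W ≤ U := sup_le (Subgroup.zpowers_le.mpr hzU) (Subgroup.zpowers_le.mpr huU)
  have hzW : Subgroup.zpowers z ≤ W := le_sup_left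
  have huW : u ∈ W := (le_sup_right : Subgroup.zpowers u ≤ W) (Subgroup.mem_zpowers u)
  have hcz : Nat.card (Subgroup.zpowers z) = p := by rw [Nat.card_zpowers, hz]
  have hWcard : Nat.card W = p ^ 2 := by
    have h1 : Nat.card W ∣ p ^ 2 := by
      rw [← hU]; exact Subgroup.card_dvd_of_le hWU
    obtain ⟨k, hk2, hk⟩ := (Nat.dvd_prime_pow hp).mp h1
    have h2 : p ∣ Nat.card W := by
      rw [← hcz]; exact Subgroup.card_dvd_of_le hzW
    have hk0 : k ≠ 0 := by
      rintro rfl
      rw [pow_zero] at hk
      rw [hk] at h2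
      exact hp.one_lt.ne' (Nat.dvd_one.mp h2)
    have hk1 : k ≠ 1 := by
      rintro rfl
      rw [pow_one] at hk
      have : Subgroup.zpowers z = W :=
        Subgroup.eq_of_le_of_card_ge hzW (by rw [hk, hcz])
      exact hu (this ▸ huW)
    have : k = 2 := by omega
    rw [hk, this]
  have hWeq : W = U := Subgroup.eq_of_le_of_card_ge hWU (by rw [hWcard, hU])
  intro w hw
  rw [← hWeq] at hw
  have hle : W ≤ Subgroup.centralizer ({x} : Set P) := by
    apply sup_le
    · rw [Subgroup.zpowers_le]
      rw [Subgroup.mem_centralizer_iff]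
      intro h hh
      rw [Set.mem_singleton_iff] at hh
      rw [hh]; exact hxz
    · rw [Subgroup.zpowers_le]
      rw [Subgroup.mem_centralizer_iff]
      intro h hh
      rw [Set.mem_singleton_iff] at hh
      rw [hh]; exact hxu
  have := hle hw
  rw [Subgroup.mem_centralizer_iff] at this
  exact this x rfl

/-- in a finite `p`-group, the centralizer of an element of a normal subgroup of order `p ^ 2` has
index at most `p` -/
theorem index_centralizer_singleton_le (hP : IsPGroup p P) (U : Subgroup P) [hUn : U.Normal]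
    (hU : Nat.card U = p ^ 2) {u : P} (hu : u ∈ U) :
    (Subgroup.centralizer ({u} : Set P)).index ≤ p := by
  have hp : p.Prime := Fact.out
  by_cases hu1 : u = 1
  · subst hu1
    have : Subgroup.centralizer ({1} : Set P) = ⊤ := by
      rw [eq_top_iff]
      intro x _
      rw [Subgroup.mem_centralizer_iff]
      intro h hh
      rw [Set.mem_singleton_iff] at hh
      rw [hh]; simp
    rw [this, Subgroup.index_top]
    exact hp.one_lt.le
  set u' : U := ⟨u, hu⟩ with hu'
  set S := MulAction.stabilizer (ConjAct P) u' with hS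
  have hidx : S.index = (MulAction.orbit (ConjAct P) u').ncard := MulAction.index_stabilizer _ _
  -- the orbit avoids `1`
  have hsub : MulAction.orbit (ConjAct P) u' ⊆ (Set.univ : Set U) \ {1} := by
    rintro _ ⟨g, rfl⟩
    refine ⟨Set.mem_univ _, ?_⟩
    rw [Set.mem_singleton_iff]
    intro h
    apply hu1
    have h' : g • u' = 1 := h
    have h2 : g • u' = g • (1 : U) := by rw [h', smul_one]
    have h3 := smul_left_cancel g h2
    exact congrArg Subtype.val h3
  have hfin : ((Set.univ : Set U) \ {1}).Finite := Set.toFinite _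
  have hle : S.index ≤ p ^ 2 - 1 := by
    rw [hidx]
    calc (MulAction.orbit (ConjAct P) u').ncard ≤ ((Set.univ : Set U) \ {1}).ncard :=
          Set.ncard_le_ncard hsub hfin
      _ = p ^ 2 - 1 := by
          rw [Set.ncard_sdiff_singleton_of_mem (Set.mem_univ _), Set.ncard_univ, hU]
  -- the index is a power of `p`
  have hSpow : ∃ k, S.index = p ^ k := by
    have hPc : IsPGroup p (ConjAct P) := hP
    have : Finite (ConjAct P) := ‹Finite P›
    obtain ⟨n, hn⟩ := hPc.exists_card_eq
    have : S.index ∣ p ^ n := by rw [← hn]; exact S.index_dvd_card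
    obtain ⟨k, _, hk⟩ := (Nat.dvd_prime_pow hp).mp this
    exact ⟨k, hk⟩
  obtain ⟨k, hk⟩ := hSpow
  have hSle : S.index ≤ p := by
    rw [hk] at hle ⊢
    have hk2 : k < 2 := by
      by_contra h
      push Not at h
      have : p ^ 2 ≤ p ^ k := Nat.pow_le_pow_right hp.pos h
      have : 0 < p ^ 2 := pow_pos hp.pos 2
      omega
    calc p ^ k ≤ p ^ 1 := Nat.pow_le_pow_right hp.pos (by omega)
      _ = p := pow_one p
  -- relate `S` to the centralizer
  have hcomap : Subgroup.centralizer ({u} : Set P) =
      S.comap (ConjAct.toConjAct : P ≃* ConjAct P).toMonoidHom := by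
    ext g
    rw [Subgroup.mem_comap, hS, MulAction.mem_stabilizer_iff, Subgroup.mem_centralizer_iff]
    constructor
    · intro h
      apply Subtype.ext
      rw [ConjAct.Subgroup.val_conj_smul]
      change g * u * g⁻¹ = u
      rw [← h u rfl]; group
    · intro h k hk
      rw [Set.mem_singleton_iff] at hk
      subst hk
      have h2 := congrArg Subtype.val h
      rw [ConjAct.Subgroup.val_conj_smul] at h2
      change g * k * g⁻¹ = k at h2
      calc k * g = (g * k * g⁻¹) * g := by rw [h2]
        _ = g * k := by group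
  rw [hcomap, Subgroup.index_comap_of_surjective _ (MulEquiv.surjective _)]
  exact hSle

/-- in a finite `p`-group, the centralizer of a normal subgroup of order `p ^ 2` has index at most
`p` -/
theorem index_centralizer_normal_sq_le (hP : IsPGroup p P) (U : Subgroup P) [hUn : U.Normal]
    (hU : Nat.card U = p ^ 2) : (Subgroup.centralizer (U : Set P)).index ≤ p := by
  have hp : p.Prime := Fact.out
  have hU1 : U ≠ ⊥ := by
    rintro rfl
    rw [Subgroup.card_bot] at hU
    have : 1 < p ^ 2 := Nat.one_lt_pow (by norm_num) hp.one_lt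
    omega
  obtain ⟨z, hzU, hzc, hzp⟩ := exists_central_orderOf_eq hP U hU1
  by_cases hUc : U ≤ Subgroup.center P
  · have : Subgroup.centralizer (U : Set P) = ⊤ := by
      rw [eq_top_iff]
      intro x _
      rw [Subgroup.mem_centralizer_iff]
      intro h hh
      exact ((Subgroup.mem_center_iff.mp (hUc hh)) x).symm
    rw [this, Subgroup.index_top]
    exact hp.one_lt.le
  · obtain ⟨u, huU, huc⟩ := SetLike.not_le_iff_exists.mp hUc
    have huz : u ∉ Subgroup.zpowers z := fun h => huc ((Subgroup.zpowers_le.mpr hzc) h)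
    have hle : Subgroup.centralizer ({u} : Set P) ≤ Subgroup.centralizer (U : Set P) := by
      intro x hx
      rw [Subgroup.mem_centralizer_iff] at hx ⊢
      intro w hw
      have hxu : x * u = u * x := (hx u rfl).symm
      have hxz : x * z = z * x := ((Subgroup.mem_center_iff.mp hzc) x)
      exact (comm_of_comm_generators U hU hzU hzp huU huz hxz hxu w hw).symm
    have h1 := Subgroup.index_dvd_of_le hle
    have h2 := index_centralizer_singleton_le hP U hU huU
    have h3 : (Subgroup.centralizer ({u} : Set P)).index ≠ 0 := Subgroup.index_ne_zero_of_finite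
    exact (Nat.le_of_dvd (Nat.pos_of_ne_zero h3) h1).trans h2

end

end Cfsg.Agent.Lib.Helper45
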