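import Cfsg.Agent.Lib.Helper36.Tri.OctLin

/-!
# TRI8 module [OCT-TS] (helper45): zero divisors in the split octonions are singular
-/

set_option autoImplicit false

namespace Cfsg.Agent.Lib.Helper45.Tri

open Cfsg.Agent.Lib.Helper36.Tri

variable {F : Type*} [Field F]

theorem obil_omul_omul_aux (x y z : OV F) : obil (omul x z) (omul y z) = obil x y * onorm z := by
  rw [obil_eq, obil_eq, onorm_eq]
  simp [omul]
  ring

theorem obil_omul_omul_aux' (x y z : OV F) : obil (omul z x) (omul z y) = onorm z * obil x y := by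
  rw [obil_eq, obil_eq, onorm_eq]
  simp [omul]
  ring

theorem obil_zero_left (y : OV F) : obil (0 : OV F) y = 0 := by
  rw [obil_eq]; simp

/-- the polar form of the norm is non-degenerate -/
theorem exists_obil_ne_zero {s : OV F} (hs : s ≠ 0) : ∃ y : OV F, obil s y ≠ 0 := by
  classical
  by_contra hcon
  push Not at hcon
  apply hs
  funext i
  rcases i with i | i
  · have h := hcon (Pi.single (Sum.inr i) 1)
    rw [obil_eq] at h
    fin_cases i <;> simpa using h
  · have h := hcon (Pi.single (Sum.inl i) 1)
    rw [obil_eq] at h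
    fin_cases i <;> simpa using h

theorem onorm_eq_zero_of_omul_left {s x : OV F} (hs : s ≠ 0) (h : omul s x = 0) : onorm x = 0 := by
  obtain ⟨y, hy⟩ := exists_obil_ne_zero hs
  have h1 := obil_omul_omul_aux s y x
  rw [h, obil_zero_left] at h1
  rcases mul_eq_zero.mp h1.symm with h2 | h2
  · exact absurd h2 hy
  · exact h2

theorem onorm_eq_zero_of_omul_right {s x : OV F} (hs : s ≠ 0) (h : omul x s = 0) : onorm x = 0 := by
  obtain ⟨y, hy⟩ := exists_obil_ne_zero hs
  have h1 := obil_omul_omul_aux' s y x
  rw [h, obil_zero_left] at h1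
  rcases mul_eq_zero.mp h1.symm with h2 | h2
  · exact h2
  · exact absurd h2 hy

end Cfsg.Agent.Lib.Helper45.Tri
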