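import Mathlib
import Cfsg.Agent.Lib.Helper84.FTr.Core

/-!
# FTR module [AGREE] (helper45): only the values of `e` on `T` matter for `Corr e E E'`
-/

set_option autoImplicit false

namespace Cfsg.Agent.Lib.Helper45.FTr

open Cfsg Cfsg.FusionSystem Cfsg.Agent.Lib.Helper84.FTr Cfsg.Agent.Lib.Helper87

variable {Ω : Type*} [Group Ω] {Ω' : Type*} [Group Ω'] {S : Subgroup Ω} {S' : Subgroup Ω'}

/-- images along two isomorphisms agreeing on `T` coincide for `P ≤ T`. -/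
theorem im_le_of_agree {S₂ : Subgroup Ω} {S₂' : Subgroup Ω'} (e : S ≃* S') (e₂ : S₂ ≃* S₂')
    {T : Subgroup Ω} (hT : T ≤ S) (hT₂ : T ≤ S₂)
    (hagree : ∀ (x : Ω) (hx : x ∈ T), (e₂ ⟨x, hT₂ hx⟩ : Ω') = (e ⟨x, hT hx⟩ : Ω'))
    {P : Subgroup Ω} (hP : P ≤ T) : im e P ≤ im e₂ P := by
  intro y hy
  obtain ⟨x, hx, hxP, rfl⟩ := (mem_im_iff e P y).1 hy
  rw [← hagree x (hP hxP)]
  exact apply_mem_im e₂ (hT₂ (hP hxP)) hxP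

theorem im_eq_of_agree {S₂ : Subgroup Ω} {S₂' : Subgroup Ω'} (e : S ≃* S') (e₂ : S₂ ≃* S₂')
    {T : Subgroup Ω} (hT : T ≤ S) (hT₂ : T ≤ S₂)
    (hagree : ∀ (x : Ω) (hx : x ∈ T), (e₂ ⟨x, hT₂ hx⟩ : Ω') = (e ⟨x, hT hx⟩ : Ω'))
    {P : Subgroup Ω} (hP : P ≤ T) : im e P = im e₂ P :=
  le_antisymm (im_le_of_agree e e₂ hT hT₂ hagree hP)
    (im_le_of_agree e₂ e hT₂ hT (fun x hx => (hagree x hx).symm) hP)

/-- induced maps along two isomorphisms agreeing on `T` coincide, for maps inside `T`. -/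
theorem inducedAlong_of_agree {S₂ : Subgroup Ω} {S₂' : Subgroup Ω'} (e : S ≃* S') (e₂ : S₂ ≃* S₂')
    {T : Subgroup Ω} (hT : T ≤ S) (hT₂ : T ≤ S₂)
    (hagree : ∀ (x : Ω) (hx : x ∈ T), (e₂ ⟨x, hT₂ hx⟩ : Ω') = (e ⟨x, hT hx⟩ : Ω'))
    {P : Subgroup Ω} (hP : P ≤ T) {φ : P →* Ω} (hφT : ∀ x : P, φ x ∈ T) {P' : Subgroup Ω'}
    {φ' : P' →* Ω'} (hi : InducedAlong (pairHom e) φ φ') : InducedAlong (pairHom e₂) φ φ' := by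
  obtain ⟨hPS, hφS, hP', h1⟩ := hi
  refine ⟨hP.trans hT₂, fun x => hT₂ (hφT x), ?_, ?_⟩
  · intro x
    have := hP' x
    show (e₂ ⟨x, _⟩ : Ω') ∈ P'
    rw [hagree x (hP x.2)]
    exact this
  · intro x
    have h1x := h1 x
    show φ' ⟨(e₂ ⟨x, _⟩ : Ω'), _⟩ = (e₂ ⟨φ x, _⟩ : Ω')
    rw [hagree (φ x) (hφT x)]
    have hx2 : (e₂ ⟨x, hT₂ (hP x.2)⟩ : Ω') = (e ⟨x, hT (hP x.2)⟩ : Ω') := hagree x (hP x.2)
    have : (⟨(e₂ ⟨x, hT₂ (hP x.2)⟩ : Ω'), (by rw [hx2]; exact hP' x)⟩ : P') =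
        ⟨pairHom e ⟨x, hPS x.2⟩, hP' x⟩ := Subtype.ext hx2
    rw [this]
    exact h1x

/-- MODULE [AGREE] -/
theorem corr_of_agree {S₂ : Subgroup Ω} {S₂' : Subgroup Ω'} {e : S ≃* S'} (e₂ : S₂ ≃* S₂')
    {T : Subgroup Ω} {E : FusionSystem T} {T' : Subgroup Ω'} {E' : FusionSystem T'}
    (h : Corr e E E') (hT₂ : T ≤ S₂)
    (hagree : ∀ (x : Ω) (hx : x ∈ T), (e₂ ⟨x, hT₂ hx⟩ : Ω') = (e ⟨x, h.le hx⟩ : Ω')) :
    Corr e₂ E E' := by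
  refine ⟨hT₂, ?_, ?_⟩
  · rw [h.eq_im]
    exact im_eq_of_agree e e₂ h.le hT₂ hagree (le_refl T)
  · intro P' φ'
    rw [h.2.2 P' φ']
    constructor
    · rintro ⟨P, φ, hφ, hPP', hi⟩
      have hPT : P ≤ T := hom_le E hφ
      refine ⟨P, φ, hφ, ?_, inducedAlong_of_agree e e₂ h.le hT₂ hagree hPT (hom_map_mem E hφ) hi⟩
      rw [← hPP']
      exact (im_eq_of_agree e e₂ h.le hT₂ hagree hPT).symm
    · rintro ⟨P, φ, hφ, hPP', hi⟩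
      have hPT : P ≤ T := hom_le E hφ
      refine ⟨P, φ, hφ, ?_, inducedAlong_of_agree e₂ e hT₂ h.le (fun x hx => (hagree x hx).symm)
        hPT (hom_map_mem E hφ) hi⟩
      rw [← hPP']
      exact im_eq_of_agree e e₂ h.le hT₂ hagree hPT

end Cfsg.Agent.Lib.Helper45.FTr
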