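import Mathlib
import Cfsg.Agent.Lib.Helper84.FTr.Core

/-!
# FTR module [AUTF] (helper45): an element of `Aut_F(U)` carries an `F`-invariant subsystem over `U` to itself
-/

set_option autoImplicit false

namespace Cfsg.Agent.Lib.Helper45.FTr

open Cfsg Cfsg.FusionSystem Cfsg.Agent.Lib.Helper84.FTr Cfsg.Agent.Lib.Helper87

variable {Ω : Type*} [Group Ω]

/-- one half of [AUTF]: the invariance clause produces the induced map. -/
theorem exists_induced_of_invariant {U Sf : Subgroup Ω} {D : FusionSystem U} {F : FusionSystem Sf}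
    (hDF : D.IsInvariantIn F) (α : MulAut U) (hα : α ∈ F.autGroup U) {P : Subgroup Ω} {φ : P →* Ω}
    (hφ : φ ∈ D.Hom P) :
    ∃ χ : im (α : U ≃* U) P →* Ω, χ ∈ D.Hom (im (α : U ≃* U) P) ∧
      InducedAlong (pairHom (α : U ≃* U)) φ χ := by
  have hPU : P ≤ U := hom_le D hφ
  obtain ⟨χ, hχ, hχe⟩ := hDF.2.2.1 P hPU φ hφ α hα
  refine ⟨χ, hχ, hPU, hom_map_mem D hφ, fun x => apply_mem_im (α : U ≃* U) (hPU x.2) x.2, ?_⟩
  intro x
  exact hχe x (hom_map_mem D hφ x) (apply_mem_im (α : U ≃* U) (hPU x.2) x.2)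

/-- MODULE [AUTF] -/
theorem corr_of_mem_autGroup {U Sf : Subgroup Ω} {D : FusionSystem U} {F : FusionSystem Sf}
    (hDF : D.IsInvariantIn F) (α : MulAut U) (hα : α ∈ F.autGroup U) :
    Corr (α : U ≃* U) D D := by
  refine ⟨le_refl U, (im_self (α : U ≃* U)).symm, ?_⟩
  intro P' φ'
  constructor
  · intro hφ'
    have hP' : P' ≤ U := hom_le D hφ'
    have hαi : α⁻¹ ∈ F.autGroup U := (F.autGroup U).inv_mem hα
    obtain ⟨χ, hχ, hi⟩ := exists_induced_of_invariant hDF α⁻¹ hαi hφ'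
    refine ⟨im (α : U ≃* U).symm P', χ, hχ, im_im_symm (α : U ≃* U) hP', ?_⟩
    have hi' : InducedAlong (pairHom (α : U ≃* U).symm) φ' χ := hi
    have := inducedAlong_symm (α : U ≃* U).symm rfl hi'
    rwa [MulEquiv.symm_symm] at this
  · rintro ⟨P, φ, hφ, rfl, hi⟩
    obtain ⟨χ, hχ, hiχ⟩ := exists_induced_of_invariant hDF α hα hφ
    have := inducedAlong_unique (α : U ≃* U) hi hiχ
    rw [this]
    exact hχ

end Cfsg.Agent.Lib.Helper45.FTr
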