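import Mathlib
import Cfsg.Agent.Lib.Helper84.FTr.Core

/-!
# FTR module [CEN] (helper45): the centre of a fusion system is carried by an isomorphism of pairs
-/

set_option autoImplicit false

namespace Cfsg.Agent.Lib.Helper45.FTr

open Cfsg Cfsg.FusionSystem Cfsg.Agent.Lib.Helper84.FTr Cfsg.Agent.Lib.Helper87

variable {Ω : Type*} [Group Ω] {Ω' : Type*} [Group Ω'] {S : Subgroup Ω} {S' : Subgroup Ω'}

/-- the extension data of a central subgroup, transported, with a target only propositionally the join. -/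
theorem isCentral_im_aux {e : S ≃* S'} {T : Subgroup Ω} {E : FusionSystem T} {T' : Subgroup Ω'}
    {E' : FusionSystem T'} (h : Corr e E E') {P Q : Subgroup Ω} {φ : P →* Ω} {ψ : (P ⊔ Q : Subgroup Ω) →* Ω}
    (hψ : ψ ∈ E.Hom (P ⊔ Q))
    (hext : ∀ x : P, ψ (Subgroup.inclusion le_sup_left x) = φ x)
    (hfix : ∀ x : Q, ψ (Subgroup.inclusion le_sup_right x) = x)
    {φ' : im e P →* Ω'} (hi : InducedAlong (pairHom e) φ φ')
    (R' : Subgroup Ω') (hR : im e (P ⊔ Q) = R') (hPR : im e P ≤ R') (hQR : im e Q ≤ R') :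
    ∃ ψ' ∈ E'.Hom R', (∀ x : im e P, ψ' (Subgroup.inclusion hPR x) = φ' x) ∧
      ∀ x : im e Q, ψ' (Subgroup.inclusion hQR x) = x := by
  subst hR
  have hPQT : P ⊔ Q ≤ T := hom_le E hψ
  have hPQS : P ⊔ Q ≤ S := hPQT.trans h.le
  have hψS : ∀ x, ψ x ∈ S := fun x => h.le (hom_map_mem E hψ x)
  refine ⟨trMap e hPQS ψ hψS, h.trMap_mem hψ, ?_, ?_⟩
  · rintro ⟨y, hy⟩
    obtain ⟨x, hx, hxP, rfl⟩ := (mem_im_iff e P y).1 hy
    obtain ⟨hPS, hφS, hP', h1⟩ := hi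
    have hxPQ : x ∈ P ⊔ Q := (le_sup_left : P ≤ P ⊔ Q) hxP
    have ht := trMap_apply e hPQS ψ hψS ⟨x, hxPQ⟩ (hPR hy)
    have h1x := h1 ⟨x, hxP⟩
    show trMap e hPQS ψ hψS ⟨(e ⟨x, hx⟩ : Ω'), _⟩ = φ' ⟨(e ⟨x, hx⟩ : Ω'), hy⟩
    rw [ht]
    have e1 : φ' ⟨(e ⟨x, hx⟩ : Ω'), hy⟩ = (e ⟨φ ⟨x, hxP⟩, hφS ⟨x, hxP⟩⟩ : Ω') := h1x
    rw [e1]
    have e2 : ψ ⟨x, hxPQ⟩ = φ ⟨x, hxP⟩ := hext ⟨x, hxP⟩
    congr 2
    exact Subtype.ext e2
  · rintro ⟨y, hy⟩
    obtain ⟨x, hx, hxQ, rfl⟩ := (mem_im_iff e Q y).1 hy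
    have hxPQ : x ∈ P ⊔ Q := (le_sup_right : Q ≤ P ⊔ Q) hxQ
    have ht := trMap_apply e hPQS ψ hψS ⟨x, hxPQ⟩ (hQR hy)
    show trMap e hPQS ψ hψS ⟨(e ⟨x, hx⟩ : Ω'), _⟩ = (e ⟨x, hx⟩ : Ω')
    rw [ht]
    have e2 : ψ ⟨x, hxPQ⟩ = x := hfix ⟨x, hxQ⟩
    congr 2
    exact Subtype.ext e2

theorem im_sup (e : S ≃* S') {P Q : Subgroup Ω} (hP : P ≤ S) (hQ : Q ≤ S) :
    im e (P ⊔ Q) = im e P ⊔ im e Q := by
  apply le_antisymm
  · -- `P ⊔ Q ≤ im e.symm (im e P ⊔ im e Q)`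
    have h1 : P ⊔ Q ≤ im e.symm (im e P ⊔ im e Q) := by
      apply sup_le
      · calc P = im e.symm (im e P) := (im_symm_im e hP).symm
          _ ≤ _ := im_mono e.symm le_sup_left
      · calc Q = im e.symm (im e Q) := (im_symm_im e hQ).symm
          _ ≤ _ := im_mono e.symm le_sup_right
    calc im e (P ⊔ Q) ≤ im e (im e.symm (im e P ⊔ im e Q)) := im_mono e h1
      _ = im e P ⊔ im e Q := im_im_symm e (sup_le (im_le e P) (im_le e Q))
  · exact sup_le (im_mono e le_sup_left) (im_mono e le_sup_right)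

/-- central subgroups are carried to central subgroups. -/
theorem isCentral_im {e : S ≃* S'} {T : Subgroup Ω} {E : FusionSystem T} {T' : Subgroup Ω'}
    {E' : FusionSystem T'} (h : Corr e E E') {Q : Subgroup Ω} (hQ : E.IsCentral Q) :
    E'.IsCentral (im e Q) := by
  refine ⟨?_, ?_⟩
  · rw [h.eq_im]
    exact im_mono e hQ.1
  · intro P' φ' hφ'
    obtain ⟨P, φ, hφ, rfl, hi⟩ := h.exists_of_mem hφ'
    obtain ⟨ψ, hψ, hext, hfix⟩ := hQ.2 P φ hφ
    have hPS : P ≤ S := (hom_le E hφ).trans h.le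
    have hQS : Q ≤ S := hQ.1.trans h.le
    exact isCentral_im_aux h hψ hext hfix hi (im e P ⊔ im e Q) (im_sup e hPS hQS) le_sup_left
      le_sup_right

theorem center_le_im_symm {e : S ≃* S'} {T : Subgroup Ω} {E : FusionSystem T} {T' : Subgroup Ω'}
    {E' : FusionSystem T'} (h : Corr e E E') : E.center ≤ im e.symm E'.center := by
  apply sSup_le
  intro Q hQ
  have hQS : Q ≤ S := hQ.1.trans h.le
  calc Q = im e.symm (im e Q) := (im_symm_im e hQS).symm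
    _ ≤ im e.symm E'.center := im_mono e.symm (le_sSup (isCentral_im h hQ))

/-- MODULE [CEN] -/
theorem corr_center {e : S ≃* S'} {T : Subgroup Ω} {E : FusionSystem T} {T' : Subgroup Ω'}
    {E' : FusionSystem T'} (h : Corr e E E') : E'.center = im e E.center := by
  have hcS' : E'.center ≤ S' := by
    apply sSup_le
    intro Q hQ
    exact hQ.1.trans h.le'
  apply le_antisymm
  · have := center_le_im_symm h.symm
    rwa [MulEquiv.symm_symm] at this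
  · calc im e E.center ≤ im e (im e.symm E'.center) := im_mono e (center_le_im_symm h)
      _ = E'.center := im_im_symm e hcS'

end Cfsg.Agent.Lib.Helper45.FTr
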