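import Mathlib

/-!
# PF sec.10, T side, module [TS-REGLB] (helper45): counting the `Q`-conjugates of a complement
-/

set_option autoImplicit false

namespace Cfsg.Agent.Lib.Helper45.PFTenT

/-- MODULE [TS-REGLB] -/
theorem card_regular_ge {T : Type*} [Group T] [Finite T] (Q S : Subgroup T) [Q.Normal]
    (hQS : Q ⊓ S = ⊥) (hcop : (Nat.card S).Coprime (Nat.card Q)) :
    ∑ᶠ s : S, (Q ⊓ Subgroup.centralizer ({(s : T)} : Set T)).relIndex Q ≤
      Nat.card {t : T // (orderOf t).Coprime (Nat.card Q)} := by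
  classical
  let _ : Fintype T := Fintype.ofFinite T
  let _ : MulAction Q T := MulAction.compHom T ((MulAut.conj (G := T)).comp Q.subtype)
  have hsmul : ∀ (z : Q) (t : T), z • t = (z : T) * t * (z : T)⁻¹ := fun z t => rfl
  -- the stabilizer of `s` is `C_Q(s)`
  have hstab : ∀ s : T, MulAction.stabilizer Q s =
      (Q ⊓ Subgroup.centralizer ({s} : Set T)).subgroupOf Q := by
    intro s
    ext z
    rw [MulAction.mem_stabilizer_iff, hsmul, Subgroup.mem_subgroupOf, Subgroup.mem_inf,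
      Subgroup.mem_centralizer_singleton_iff]
    constructor
    · intro h
      refine ⟨z.2, ?_⟩
      calc (z : T) * s = ((z : T) * s * (z : T)⁻¹) * (z : T) := by group
        _ = s * (z : T) := by rw [h]
    · rintro ⟨-, h⟩
      rw [h]; group
  have hterm : ∀ s : S, (Q ⊓ Subgroup.centralizer ({(s : T)} : Set T)).relIndex Q =
      Nat.card (MulAction.orbit Q (s : T)) := by
    intro s
    rw [Subgroup.relIndex, ← hstab, MulAction.index_stabilizer, Nat.card_coe_set_eq]
  rw [finsum_eq_sum_of_fintype]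
  simp_rw [hterm]
  rw [← Nat.card_sigma]
  have hcopr : ∀ x : (Σ s : S, MulAction.orbit Q (s : T)),
      (orderOf ((x.2 : T))).Coprime (Nat.card Q) := by
    rintro ⟨s, t, z, rfl⟩
    have h1 : orderOf (z • (s : T)) = orderOf (s : T) := by
      show orderOf ((z : T) * (s : T) * (z : T)⁻¹) = orderOf (s : T)
      have : (z : T) * (s : T) * (z : T)⁻¹ = MulAut.conj (z : T) (s : T) := by
        simp [MulAut.conj_apply]
      rw [this, MulEquiv.orderOf_eq]
    show (orderOf (z • (s : T))).Coprime (Nat.card Q)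
    rw [h1]
    apply Nat.Coprime.coprime_dvd_left _ hcop
    have hdv := orderOf_dvd_natCard s
    rwa [← Subgroup.orderOf_coe] at hdv
  apply Nat.card_le_card_of_injective
    (fun x : (Σ s : S, MulAction.orbit Q (s : T)) =>
      (⟨(x.2 : T), hcopr x⟩ : {t : T // (orderOf t).Coprime (Nat.card Q)}))
  rintro ⟨s, t, z, hz⟩ ⟨s', t', z', hz'⟩ hEq
  have htt : t = t' := congrArg Subtype.val hEq
  have hss : s = s' := by
    have h1 : (z : T) * (s : T) * (z : T)⁻¹ = (z' : T) * (s' : T) * (z' : T)⁻¹ := by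
      have e1 : z • (s : T) = t := hz
      have e2 : z' • (s' : T) = t' := hz'
      rw [← hsmul, ← hsmul, e1, e2, htt]
    -- `s' = w s w⁻¹` with `w = z'⁻¹ z ∈ Q`
    have h2 : (s' : T) = ((z' : T)⁻¹ * (z : T)) * (s : T) * ((z' : T)⁻¹ * (z : T))⁻¹ := by
      calc (s' : T) = (z' : T)⁻¹ * ((z' : T) * (s' : T) * (z' : T)⁻¹) * (z' : T) := by group
        _ = (z' : T)⁻¹ * ((z : T) * (s : T) * (z : T)⁻¹) * (z' : T) := by rw [h1]
        _ = _ := by group
    have hw : (z' : T)⁻¹ * (z : T) ∈ Q := Q.mul_mem (Q.inv_mem z'.2) z.2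
    have h3 : (s : T)⁻¹ * (s' : T) ∈ Q := by
      rw [h2]
      have : (s : T)⁻¹ * (((z' : T)⁻¹ * (z : T)) * (s : T) * ((z' : T)⁻¹ * (z : T))⁻¹) =
          ((s : T)⁻¹ * ((z' : T)⁻¹ * (z : T)) * ((s : T)⁻¹)⁻¹) * ((z' : T)⁻¹ * (z : T))⁻¹ := by
        group
      rw [this]
      exact Q.mul_mem (Subgroup.Normal.conj_mem inferInstance _ hw _) (Q.inv_mem hw)
    have h4 : (s : T)⁻¹ * (s' : T) ∈ Q ⊓ S := ⟨h3, S.mul_mem (S.inv_mem s.2) s'.2⟩
    rw [hQS, Subgroup.mem_bot] at h4
    apply Subtype.ext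
    calc (s : T) = (s : T) * ((s : T)⁻¹ * (s' : T)) := by rw [h4, mul_one]
      _ = (s' : T) := by group
  subst hss
  subst htt
  rfl

end Cfsg.Agent.Lib.Helper45.PFTenT
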