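import Mathlib
import Cfsg.Agent.Lib.Helper16.PF13Defs
import Cfsg.Agent.Lib.Helper25.PF13AX

/-!
# PF sec.13, module [AXQ] (helper45, for helper16)

`axis_bound_crude`: `U` acts faithfully on `P = ⨆_w P₁^w`, each axis `P₁^w` of prime order `p`
is `U`-invariant, so `U` embeds into `∏_w Aut(P₁^w)`; `|U|` odd gives
`|U| ≤ ((p-1)/2)^q`.
Statement verbatim from `Cfsg/Agent/Lib/Helper16/PF13_MODULES.md`.
-/

set_option autoImplicit false

namespace Cfsg.Agent.Lib.Helper45.PF13

open Cfsg Cfsg.Agent.Lib.Helper24.PFCyc Cfsg.Agent.Lib.Helper4.PF Cfsg.Agent.Lib.Helper16.PF13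
open scoped Pointwise

universe u

variable {G : Type u} [Group G] [Fintype G] {S W₁ U W₂ : Subgroup G} [Fintype S]
  {mu : WChar W₁ W₂ → (↥S → ℂ)} {dl : WChar W₁ W₂ → ℂ} {η : WChar W₁ W₂ → (G → ℂ)}

/-- an odd divisor of `p - 1` (`p` odd) is at most `(p - 1) / 2` -/
theorem odd_dvd_pred_le_half {r p : ℕ} (hr : Odd r) (hp : Odd p) (hp1 : 1 < p)
    (hd : r ∣ p - 1) : r ≤ (p - 1) / 2 := by
  obtain ⟨k, hk⟩ := hd
  have heven : Even (p - 1) := by
    obtain ⟨m, hm⟩ := hp
    exact ⟨m, by omega⟩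
  have hkeven : Even k := by
    rw [hk] at heven
    rcases Nat.even_mul.mp heven with h | h
    · exact absurd h (Nat.not_even_iff_odd.mpr hr)
    · exact h
  obtain ⟨m, hm⟩ := hkeven
  have hm0 : 0 < m := by
    rcases Nat.eq_zero_or_pos m with h0 | h0
    · subst h0
      simp only [add_zero] at hm
      subst hm
      omega
    · exact h0
  have h2 : p - 1 = 2 * (r * m) := by rw [hk, hm]; ring
  rw [h2, Nat.mul_div_cancel_left _ (by norm_num : 0 < 2)]
  exact Nat.le_mul_of_pos_right r hm0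

/-- MODULE PF13-[AXQ] -/
theorem axis_bound_crude (h : PSide S W₁ U W₂ mu dl η)
    (hC : U ⊓ Subgroup.centralizer ((fittingHallOf S : Subgroup G) : Set G) = ⊥)
    {P₁ : Subgroup G} (hP₁ : P₁ ≤ fittingHallOf S) (hU : U ≤ Subgroup.normalizer (P₁ : Set G))
    (hcard : Nat.card P₁ = Nat.card W₂)
    (hsup : (⨆ w : ↥W₁, MulAut.conj (w : G) • P₁) = fittingHallOf S) :
    Nat.card U ≤ ((Nat.card W₂ - 1) / 2) ^ Nat.card W₁ := by
  classical
  -- `U` normalizes every axis
  have hUNw : ∀ w : ↥W₁, U ≤ Subgroup.normalizer ((MulAut.conj (w : G) • P₁ : Subgroup G) : Set G) := by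
    intro w a ha
    have hw' : (w : G)⁻¹ ∈ Subgroup.normalizer (U : Set G) :=
      h.hP.U_normal (Subgroup.inv_mem _ w.2)
    have ha' : (w : G)⁻¹ * a * (w : G) ∈ U := by
      have := (Subgroup.mem_normalizer_iff.mp hw' a).mp ha
      simpa using this
    have hn := Subgroup.mem_normalizer_iff.mp (hU ha')
    rw [Subgroup.mem_normalizer_iff]
    intro x
    rw [Subgroup.mem_pointwise_smul_iff_inv_smul_mem, Subgroup.mem_pointwise_smul_iff_inv_smul_mem]
    simp only [MulAut.smul_def, ← map_inv, MulAut.conj_apply, inv_inv]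
    rw [hn ((w : G)⁻¹ * x * (w : G))]
    have e : (w : G)⁻¹ * a * (w : G) * ((w : G)⁻¹ * x * (w : G)) * ((w : G)⁻¹ * a * (w : G))⁻¹ =
        (w : G)⁻¹ * (a * x * a⁻¹) * (w : G) := by group
    rw [e]
  have hcardw : ∀ w : ↥W₁, Nat.card ↥(MulAut.conj (w : G) • P₁ : Subgroup G) = Nat.card W₂ :=
    fun w => (Nat.card_congr (Subgroup.equivSMul (MulAut.conj (w : G)) P₁).toEquiv).symm.trans hcard
  have hoddU : Odd (Nat.card U) := Odd.of_dvd_nat h.hodd (Subgroup.card_subgroup_dvd_card U)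
  have hoddp : Odd (Nat.card W₂) := Odd.of_dvd_nat h.hodd (Subgroup.card_subgroup_dvd_card W₂)
  have hrel : ∀ w : ↥W₁,
      (U ⊓ Subgroup.centralizer ((MulAut.conj (w : G) • P₁ : Subgroup G) : Set G)).relIndex U ≤
        (Nat.card W₂ - 1) / 2 := by
    intro w
    apply odd_dvd_pred_le_half _ hoddp h.hp.one_lt
      (Cfsg.Agent.Lib.Helper25.PF13AX.relIndex_dvd U _ (hUNw w) h.hp (hcardw w))
    exact Odd.of_dvd_nat hoddU (Subgroup.relIndex_dvd_card _ _)
  -- the intersection of the kernels is trivial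
  have hinf : (⨅ w : ↥W₁,
      (U ⊓ Subgroup.centralizer ((MulAut.conj (w : G) • P₁ : Subgroup G) : Set G))) = ⊥ := by
    rw [eq_bot_iff, ← hC]
    intro x hx
    rw [Subgroup.mem_iInf] at hx
    refine Subgroup.mem_inf.mpr ⟨(Subgroup.mem_inf.mp (hx 1)).1, ?_⟩
    have hle : fittingHallOf S ≤ Subgroup.centralizer ({x} : Set G) := by
      rw [← hsup]
      apply iSup_le
      intro w y hy
      rw [Subgroup.mem_centralizer_iff]
      intro z hz
      rw [Set.mem_singleton_iff.mp hz]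
      exact ((Subgroup.mem_centralizer_iff.mp (Subgroup.mem_inf.mp (hx w)).2) y hy).symm
    rw [Subgroup.mem_centralizer_iff]
    intro y hy
    exact ((Subgroup.mem_centralizer_iff.mp (hle hy)) x rfl).symm
  let _ : Fintype ↥W₁ := Fintype.ofFinite _
  calc Nat.card U = (⊥ : Subgroup G).relIndex U := (Subgroup.relIndex_bot_left (H := U)).symm
    _ = (⨅ w : ↥W₁,
      (U ⊓ Subgroup.centralizer ((MulAut.conj (w : G) • P₁ : Subgroup G) : Set G))).relIndex U := by
        rw [hinf]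
    _ ≤ ∏ w : ↥W₁,
      (U ⊓ Subgroup.centralizer ((MulAut.conj (w : G) • P₁ : Subgroup G) : Set G)).relIndex U :=
        Subgroup.relIndex_iInf_le _
    _ ≤ ((Nat.card W₂ - 1) / 2) ^ (Finset.univ : Finset ↥W₁).card :=
        Finset.prod_le_pow_card _ _ _ (fun w _ => hrel w)
    _ = ((Nat.card W₂ - 1) / 2) ^ Nat.card W₁ := by
        rw [Finset.card_univ, ← Nat.card_eq_fintype_card]

end Cfsg.Agent.Lib.Helper45.PF13
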