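import Mathlib
import Cfsg.Agent.Lib.Helper16.PF13Defs
import Cfsg.Agent.Lib.Helper26.PFEightA
import Cfsg.Agent.Lib.Helper51.PFCycMuInd
import Cfsg.Agent.Lib.Helper75.Ito
import Cfsg.Agent.Lib.Helper81.IrrTwist

/-!
# PF sec.13, module [DEGDVD] (helper45, for helper16)

`degree_dvd_card`: for `θ = μ_ψ|_{S'}` of degree `u`, Itô's theorem for the abelian normal
subgroup `P` of `S' = P U` gives `u ∣ |S' : P| = |U|`.
Statement verbatim from `Cfsg/Agent/Lib/Helper16/PF13_MODULES.md`.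
-/

set_option autoImplicit false

namespace Cfsg.Agent.Lib.Helper45.PF13

open Cfsg Cfsg.Agent.Lib.Helper24.PFCyc Cfsg.Agent.Lib.Helper4.PF Cfsg.Agent.Lib.Helper16.PF13

universe u

variable {G : Type u} [Group G] [Fintype G] {S W₁ U W₂ : Subgroup G} [Fintype S]
  {mu : WChar W₁ W₂ → (↥S → ℂ)} {dl : WChar W₁ W₂ → ℂ} {η : WChar W₁ W₂ → (G → ℂ)}

/-- MODULE PF13-[DEGDVD] -/
theorem degree_dvd_card (h : PSide S W₁ U W₂ mu dl η) (ψ : WChar W₁ W₂) (hψ : TrivOn W₁ ψ)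
    (hψ1 : ψ ≠ 1) (u : ℕ) (hu : mu ψ 1 = (u : ℂ)) : u ∣ Nat.card U := by
  classical
  have hPK : fittingHallOf S ≤ ⁅S, S⁆ := h.hP.U_compl.1
  have hKS : (⁅S, S⁆ : Subgroup G) ≤ S := Subgroup.commutator_le_self S
  have hoddS : Odd (Nat.card S) := Odd.of_dvd_nat h.hodd (Subgroup.card_subgroup_dvd_card S)
  -- `θ` on `↥S'`
  let _ : Fintype ↥(⁅S, S⁆ : Subgroup G) := Fintype.ofFinite _
  have hθ := (Cfsg.Agent.Lib.Helper51.PFCyc.muSum_eq_indFun h.hP hoddS h.md ψ).1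
  have hθ' : IsIrrCharacter ↥(⁅S, S⁆ : Subgroup G)
      (fun k => mu ψ ⟨(k : G), hKS k.2⟩) :=
    Cfsg.Agent.Lib.Helper81.isIrrCharacter_comp_mulEquiv hθ (Subgroup.subgroupOfEquivOfLe hKS).symm
  have hdeg : charDegree (fun k : ↥(⁅S, S⁆ : Subgroup G) => mu ψ ⟨(k : G), hKS k.2⟩) = u := by
    unfold charDegree
    have e1 : (⟨((1 : ↥(⁅S, S⁆ : Subgroup G)) : G), hKS (1 : ↥(⁅S, S⁆ : Subgroup G)).2⟩ : ↥S) = 1 :=
      rfl
    simp only [e1, hu, Complex.natCast_re, Nat.floor_natCast]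
  -- Itô for `P ⊴ S'`
  have hAn : ((fittingHallOf S : Subgroup G).subgroupOf (⁅S, S⁆ : Subgroup G)).Normal := by
    constructor
    intro n hn g
    rw [Subgroup.mem_subgroupOf] at hn ⊢
    exact Cfsg.Agent.Lib.Helper26.PFEight.conj_mem_fittingHallOf S (hKS g.2) hn
  have hAc : ∀ a ∈ (fittingHallOf S : Subgroup G).subgroupOf (⁅S, S⁆ : Subgroup G),
      ∀ b ∈ (fittingHallOf S : Subgroup G).subgroupOf (⁅S, S⁆ : Subgroup G), a * b = b * a := by
    intro a ha b hb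
    apply Subtype.ext
    exact h.hPcomm a (Subgroup.mem_subgroupOf.mp ha) b (Subgroup.mem_subgroupOf.mp hb)
  have hito := Cfsg.Agent.Lib.Helper75.ito _ hAc _ hθ'
  rw [hdeg] at hito
  -- cardinalities
  have hidx := Subgroup.index_mul_card
    ((fittingHallOf S : Subgroup G).subgroupOf (⁅S, S⁆ : Subgroup G))
  have hcardA : Nat.card ↥((fittingHallOf S : Subgroup G).subgroupOf (⁅S, S⁆ : Subgroup G)) =
      Nat.card ↥(fittingHallOf S) :=
    Nat.card_congr (Subgroup.subgroupOfEquivOfLe hPK).toEquiv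
  have hcardK : Nat.card ↥(⁅S, S⁆ : Subgroup G) = Nat.card ↥(fittingHallOf S) * Nat.card ↥U :=
    Cfsg.Agent.Lib.Helper23.card_of_isComplIn h.hP.U_compl
  have hPpos : 0 < Nat.card ↥(fittingHallOf S) := Nat.card_pos
  rw [hcardA, hcardK] at hidx
  have hidxU : ((fittingHallOf S : Subgroup G).subgroupOf (⁅S, S⁆ : Subgroup G)).index =
      Nat.card ↥U := by
    apply Nat.eq_of_mul_eq_mul_left hPpos
    rw [mul_comm]
    exact hidx
  rw [hidxU] at hito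
  exact hito

end Cfsg.Agent.Lib.Helper45.PF13
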