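import Mathlib
import Cfsg.Prelude.Def_GeometricClasses
import Cfsg.Agent.Lib.Helper99.AschDefs

/-!
# BHR-[P4] (helper45, for helper99's Aschbacher project, second sheet)

Properness of the tensor-product and tensor-wreath subgroups: neither contains `SL_n`.
-/

set_option autoImplicit false

namespace Cfsg.Agent.Lib.Helper45.BhrP4

open Cfsg Cfsg.Geo
open scoped MatrixGroups Matrix Kronecker

variable {F : Type*} [Field F]

/-- the transvection `1 + E_{xy}` as an element of `GL` -/
noncomputable def transvGL {κ : Type} [Fintype κ] [DecidableEq κ] (x y : κ) (hxy : x ≠ y) : GL κ F :=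
  Matrix.GeneralLinearGroup.mkOfDetNeZero (Matrix.transvection x y (1 : F)) (by
    rw [Matrix.det_transvection_of_ne _ _ hxy]; exact one_ne_zero)

theorem coe_transvGL {κ : Type} [Fintype κ] [DecidableEq κ] (x y : κ) (hxy : x ≠ y) :
    ((transvGL x y hxy : GL κ F) : Matrix κ κ F) = Matrix.transvection x y (1 : F) := rfl

theorem det_transvGL {κ : Type} [Fintype κ] [DecidableEq κ] (x y : κ) (hxy : x ≠ y) :
    Matrix.GeneralLinearGroup.det (transvGL x y hxy : GL κ F) = 1 := by
  apply Units.ext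
  change ((transvGL x y hxy : GL κ F) : Matrix κ κ F).det = 1
  rw [coe_transvGL, Matrix.det_transvection_of_ne _ _ hxy]

/-- determinant is invariant under `glReindex` -/
theorem det_glReindex {ι κ : Type} [Fintype ι] [DecidableEq ι] [Fintype κ] [DecidableEq κ]
    (e : κ ≃ ι) (g : GL κ F) :
    Matrix.GeneralLinearGroup.det (glReindex e g : GL ι F) = Matrix.GeneralLinearGroup.det g := by
  apply Units.ext
  change (Matrix.reindexAlgEquiv F F e (g : Matrix κ κ F)).det = (g : Matrix κ κ F).det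
  exact Matrix.det_reindexAlgEquiv F F e _

/-- If `SL ≤ conj_P (reindex S₀)` then every determinant-one element of the model group lies in
`S₀`. -/
theorem mem_of_sl_le {ι κ : Type} [Fintype ι] [DecidableEq ι] [Fintype κ] [DecidableEq κ]
    (e : ι ≃ κ) (P : GL ι F) (S₀ : Subgroup (GL κ F))
    (h : specialLinear ι F ≤ (S₀.map (glReindex e.symm).toMonoidHom).map (MulAut.conj P).toMonoidHom)
    (t : GL κ F) (ht : Matrix.GeneralLinearGroup.det t = 1) : t ∈ S₀ := by
  have hmem : P * glReindex e.symm t * P⁻¹ ∈ specialLinear ι F := by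
    change _ ∈ (Matrix.GeneralLinearGroup.det : GL ι F →* Fˣ).ker
    rw [MonoidHom.mem_ker, map_mul, map_mul, map_inv, det_glReindex, ht, mul_one, mul_inv_cancel]
  obtain ⟨_, ⟨k, hk, rfl⟩, hk'⟩ := h hmem
  have h1 : glReindex e.symm k = glReindex e.symm t := by
    have : P * glReindex e.symm k * P⁻¹ = P * glReindex e.symm t * P⁻¹ := hk'
    simpa using this
  have h2 : k = t := (glReindex (F := F) e.symm).injective h1
  rw [← h2]; exact hk


/-! ### Decomposable vectors -/

/-- The decomposable vectors of the `t`-fold tensor power of `F^m`. -/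
def Dec (m t : ℕ) (F : Type*) [Field F] : Set ((Fin t → Fin m) → F) :=
  {v | ∃ u : Fin t → Fin m → F, ∀ x, v x = ∏ i, u i (x i)}

theorem pureTensor_mulVec_mem_dec {m t : ℕ} (g : GL (Fin t → Fin m) F) (hg : IsPureTensor m t g)
    (v : (Fin t → Fin m) → F) (hv : v ∈ Dec m t F) :
    (g : Matrix (Fin t → Fin m) (Fin t → Fin m) F) *ᵥ v ∈ Dec m t F := by
  obtain ⟨gs, hgs⟩ := hg
  obtain ⟨u, hu⟩ := hv
  refine ⟨fun i k => ∑ j, (gs i : Matrix (Fin m) (Fin m) F) k j * u i j, fun x => ?_⟩
  rw [Fintype.prod_sum]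
  simp only [Matrix.mulVec, dotProduct]
  apply Finset.sum_congr rfl
  intro y _
  rw [hgs, hu, ← Finset.prod_mul_distrib]

theorem factorPerm_mulVec_mem_dec {m t : ℕ} (g : GL (Fin t → Fin m) F)
    (hg : IsFactorPermutation m t g)
    (v : (Fin t → Fin m) → F) (hv : v ∈ Dec m t F) :
    (g : Matrix (Fin t → Fin m) (Fin t → Fin m) F) *ᵥ v ∈ Dec m t F := by
  obtain ⟨σ, hσ⟩ := hg
  obtain ⟨u, hu⟩ := hv
  refine ⟨fun j => u (σ.symm j), fun x => ?_⟩
  have h1 : ((g : Matrix (Fin t → Fin m) (Fin t → Fin m) F) *ᵥ v) x = v (x ∘ σ) := by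
    simp only [Matrix.mulVec, dotProduct, hσ]
    simp
  rw [h1, hu]
  rw [← Equiv.prod_comp σ (fun j => u (σ.symm j) (x j))]
  simp

/-- The subgroup of `GL` mapping decomposable vectors to decomposable vectors (a subgroup because
`GL` is finite). -/
def decStab (m t : ℕ) (F : Type*) [Field F] [Fintype F] : Subgroup (GL (Fin t → Fin m) F) where
  carrier := {g | ∀ v ∈ Dec m t F,
    (g : Matrix (Fin t → Fin m) (Fin t → Fin m) F) *ᵥ v ∈ Dec m t F}
  one_mem' := fun v hv => by simpa using hv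
  mul_mem' := by
    intro a b ha hb v hv
    rw [Units.val_mul, ← Matrix.mulVec_mulVec]
    exact ha _ (hb v hv)
  inv_mem' := by
    intro a ha
    have hpow : ∀ k : ℕ, ∀ v ∈ Dec m t F,
        ((a ^ k : GL (Fin t → Fin m) F) : Matrix (Fin t → Fin m) (Fin t → Fin m) F) *ᵥ v ∈
          Dec m t F := by
      intro k
      induction k with
      | zero => intro v hv; simpa using hv
      | succ k ih =>
        intro v hv
        rw [pow_succ, Units.val_mul, ← Matrix.mulVec_mulVec]
        exact ih _ (ha v hv)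
    have hinv : a⁻¹ = a ^ (orderOf a - 1) := by
      apply inv_eq_of_mul_eq_one_right
      rw [← pow_succ', Nat.sub_add_cancel (orderOf_pos a), pow_orderOf_eq_one]
    intro v hv
    change ((a⁻¹ : GL (Fin t → Fin m) F) : Matrix _ _ F) *ᵥ v ∈ Dec m t F
    rw [hinv]
    exact hpow _ v hv

theorem tensorWreathStandard_le_decStab [Fintype F] (m t : ℕ) :
    tensorWreathStandard m t F ≤ decStab m t F := by
  unfold tensorWreathStandard
  rw [Subgroup.closure_le]
  rintro g (hg | hg)
  · exact fun v hv => pureTensor_mulVec_mem_dec g hg v hv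
  · exact fun v hv => factorPerm_mulVec_mem_dec g hg v hv

/-- `δ_{(0,…,0)} + δ_{(1,…,1)}` is not decomposable. -/
theorem not_dec {m t : ℕ} (hm : 2 ≤ m) (ht : 2 ≤ t) :
    (fun x : Fin t → Fin m =>
      (if x = (fun _ => (⟨1, by omega⟩ : Fin m)) then (1 : F) else 0) +
      (if x = (fun _ => (⟨0, by omega⟩ : Fin m)) then (1 : F) else 0)) ∉ Dec m t F := by
  rintro ⟨u, hu⟩
  have h01 : (⟨0, by omega⟩ : Fin m) ≠ ⟨1, by omega⟩ := by
    intro h'; simp [Fin.ext_iff] at h'
  have i0 : Fin t := ⟨0, by omega⟩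
  have hne : (fun _ : Fin t => (⟨0, by omega⟩ : Fin m)) ≠ (fun _ => (⟨1, by omega⟩ : Fin m)) :=
    fun h' => h01 (congrFun h' i0)
  -- all `u i 0 ≠ 0`
  have h0 : ∀ i, u i ⟨0, by omega⟩ ≠ 0 := by
    have := hu (fun _ => (⟨0, by omega⟩ : Fin m))
    beta_reduce at this
    rw [if_neg hne, if_pos rfl, zero_add] at this
    intro i hi
    have hz : ∏ i, u i ⟨0, by omega⟩ = 0 := Finset.prod_eq_zero (Finset.mem_univ i) hi
    rw [← this] at hz
    exact one_ne_zero hz
  have h1 : ∀ i, u i ⟨1, by omega⟩ ≠ 0 := by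
    have := hu (fun _ => (⟨1, by omega⟩ : Fin m))
    beta_reduce at this
    rw [if_pos rfl, if_neg hne.symm, add_zero] at this
    intro i hi
    have hz : ∏ i, u i ⟨1, by omega⟩ = 0 := Finset.prod_eq_zero (Finset.mem_univ i) hi
    rw [← this] at hz
    exact one_ne_zero hz
  -- the mixed point
  set z : Fin t → Fin m := fun i => if i = (⟨0, by omega⟩ : Fin t) then ⟨1, by omega⟩ else ⟨0, by omega⟩
    with hz
  have hz1 : z ≠ (fun _ => (⟨1, by omega⟩ : Fin m)) := by
    intro h'
    have := congrFun h' (⟨1, by omega⟩ : Fin t)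
    simp [hz, Fin.ext_iff] at this
  have hz0 : z ≠ (fun _ => (⟨0, by omega⟩ : Fin m)) := by
    intro h'
    have := congrFun h' (⟨0, by omega⟩ : Fin t)
    simp [hz, Fin.ext_iff] at this
  have := hu z
  beta_reduce at this
  rw [if_neg hz1, if_neg hz0, add_zero] at this
  have hprod : ∏ i, u i (z i) ≠ 0 := by
    rw [Finset.prod_ne_zero_iff]
    intro i _
    by_cases hi : i = (⟨0, by omega⟩ : Fin t)
    · simp only [hz, hi, if_true]; exact h1 _
    · simp only [hz, hi, if_false]; exact h0 _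
  exact hprod this.symm

end Cfsg.Agent.Lib.Helper45.BhrP4

namespace Cfsg.Agent.Lib.Helper99.Asch

open Cfsg Cfsg.Geo Cfsg.Agent.Lib.Helper45.BhrP4
open scoped MatrixGroups Matrix Kronecker

variable {n : ℕ} {F : Type*} [Field F] [Fintype F]

/-- BHR-[P4], first half -/
theorem not_sl_le_tensorProductSubgroup (n₁ n₂ : ℕ) (h1 : 2 ≤ n₁) (h2 : 2 ≤ n₂)
    (e : Fin n ≃ Fin n₁ × Fin n₂) (P : GL (Fin n) F) :
    ¬ specialLinear (Fin n) F ≤ tensorProductSubgroup n₁ n₂ e P := by
  intro h
  have h0 : (⟨0, by omega⟩ : Fin n₁) ≠ ⟨1, by omega⟩ := by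
    intro h'; simp [Fin.ext_iff] at h'
  have h0' : (⟨0, by omega⟩ : Fin n₂) ≠ ⟨1, by omega⟩ := by
    intro h'; simp [Fin.ext_iff] at h'
  set x : Fin n₁ × Fin n₂ := (⟨0, by omega⟩, ⟨0, by omega⟩) with hx
  set y : Fin n₁ × Fin n₂ := (⟨1, by omega⟩, ⟨1, by omega⟩) with hy
  have hxy : x ≠ y := by
    intro h'; exact h0 (Prod.ext_iff.1 h').1
  obtain ⟨a, b, hab⟩ := mem_of_sl_le e P (kroneckerSubgroup n₁ n₂ F) h (transvGL x y hxy)
    (det_transvGL x y hxy)
  rw [coe_transvGL] at hab
  -- entries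
  have e1 := congrFun (congrFun hab x) y
  have e2 := congrFun (congrFun hab x) (⟨1, by omega⟩, ⟨0, by omega⟩)
  have e3 := congrFun (congrFun hab x) x
  simp only [Matrix.transvection, Matrix.add_apply, Matrix.one_apply, Matrix.single_apply,
    Matrix.kroneckerMap_apply, hx, hy, Prod.mk.injEq] at e1 e2 e3
  simp [Fin.ext_iff] at e1 e2 e3
  rcases e2 with e2 | e2
  · rw [e2] at e1; simp at e1
  · rw [e2] at e3; simp at e3


/-- BHR-[P4], second half -/
theorem not_sl_le_tensorWreathSubgroup (m t : ℕ) (hm : 2 ≤ m) (ht : 2 ≤ t)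
    (e : Fin n ≃ (Fin t → Fin m)) (P : GL (Fin n) F) :
    ¬ specialLinear (Fin n) F ≤ tensorWreathSubgroup m t e P := by
  intro h
  set x : Fin t → Fin m := fun _ => ⟨0, by omega⟩ with hx
  set y : Fin t → Fin m := fun _ => ⟨1, by omega⟩ with hy
  have hxy : x ≠ y := by
    intro h'
    have := congrFun h' (⟨0, by omega⟩ : Fin t)
    simp [hx, hy, Fin.ext_iff] at this
  have hmem := mem_of_sl_le e P (tensorWreathStandard m t F) h (transvGL x y hxy)
    (det_transvGL x y hxy)
  have hstab := tensorWreathStandard_le_decStab m t hmem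
  -- `δ_y` is decomposable
  have hdec : (Pi.single y (1 : F) : (Fin t → Fin m) → F) ∈ Dec m t F := by
    refine ⟨fun _ => Pi.single (⟨1, by omega⟩ : Fin m) 1, fun z => ?_⟩
    simp only [Pi.single_apply]
    rw [Fintype.prod_ite_zero]
    simp only [Finset.prod_const_one]
    congr 1
    simp [hy, funext_iff]
  have himg := hstab _ hdec
  rw [coe_transvGL, Matrix.mulVec_single_one] at himg
  apply not_dec (F := F) hm ht
  convert himg using 1
  funext z
  simp only [Matrix.col_apply, Matrix.transvection, Matrix.add_apply, Matrix.one_apply,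
    Matrix.single_apply]
  simp [hx, hy, eq_comm]

end Cfsg.Agent.Lib.Helper99.Asch
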