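/-
helper45: project ASCHSP (helper23, S5662): module ASCHSP-[MINUS]
`Cfsg.Agent.Lib.Helper23.AschSp.isOfMinusType_of_sympOut` (exact sheet statement).

An absolutely irreducible 2-group `R₀` with scalar commutators and scalars `±1` inside the isometry group
of a symplectic form on `F^n`, `n = 2^k`, has no elementary abelian subgroup of order `2^(k+1)`.
-/
import Mathlib
import Cfsg.Prelude.Def_GeometricClasses
import Cfsg.Agent.Lib.Helper99.AschDefs
import Cfsg.Agent.Lib.Helper23.AschSpDefs
import Cfsg.Agent.Lib.Helper47.AschBasis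
import Cfsg.Agent.Lib.Helper37.JointEigen

set_option autoImplicit false

namespace Cfsg.Agent.Lib.Helper45.AschSpMinus

open Cfsg Cfsg.Geo Cfsg.Agent.Lib.Helper99.Asch Cfsg.Agent.Lib.Helper23.AschSp
open scoped MatrixGroups Matrix

variable {n : ℕ} {F : Type*} [Field F]

/-- finite sums in the right argument of a bilinear form -/
theorem form_sum_right {f : (Fin n → F) → (Fin n → F) → F} (hb : IsBilinearForm f) {κ : Type*}
    (s : Finset κ) (c : κ → F) (x : κ → Fin n → F) (v : Fin n → F) :
    f v (∑ l ∈ s, c l • x l) = ∑ l ∈ s, c l * f v (x l) := by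
  classical
  induction s using Finset.induction_on with
  | empty =>
    have h := hb.smul_right 0 v 0
    simpa using h
  | insert a s ha ih =>
    rw [Finset.sum_insert ha, Finset.sum_insert ha, hb.add_right, hb.smul_right, ih]

/-- Core: a linearly independent family of pairwise commuting involutive isometries of a symplectic form on
`F^n` (characteristic not two) has fewer than `n` members. -/
theorem card_lt_of_linearIndependent_invol (hn : 0 < n) (h2 : (2 : F) ≠ 0)
    {f : (Fin n → F) → (Fin n → F) → F} (hf : IsSymplecticForm f)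
    {κ : Type*} [Finite κ] (M : κ → Matrix (Fin n) (Fin n) F)
    (hc : ∀ i j, M i * M j = M j * M i) (hsq : ∀ i, M i * M i = 1)
    (hiso : ∀ i u v, f (M i *ᵥ u) (M i *ᵥ v) = f u v)
    (hli : LinearIndependent F M) : Nat.card κ < n := by
  classical
  obtain ⟨b, hb⟩ := Cfsg.Agent.Lib.Helper37.exists_eigenbasis_matrix h2 M hc hsq
  choose μ hμ using hb
  have hbne : ∀ k, b k ≠ 0 := fun k => b.ne_zero k
  -- the eigenvalues are ±1
  have hμsq : ∀ i k, μ i k * μ i k = 1 := by
    intro i k
    have h1 : M i *ᵥ (M i *ᵥ b k) = b k := by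
      rw [Matrix.mulVec_mulVec, hsq, Matrix.one_mulVec]
    rw [hμ, Matrix.mulVec_smul, hμ, smul_smul] at h1
    have h3 : (μ i k * μ i k - 1) • b k = 0 := by
      rw [sub_smul, h1, one_smul, sub_self]
    rcases smul_eq_zero.1 h3 with h | h
    · exact sub_eq_zero.1 h
    · exact absurd h (hbne k)
  -- non-orthogonal eigenvectors have the same character
  have key : ∀ k l, f (b k) (b l) ≠ 0 → ∀ i, μ i k = μ i l := by
    intro k l hkl i
    have h1 := hiso i (b k) (b l)
    rw [hμ, hμ, hf.bilinear.smul_left, hf.bilinear.smul_right, ← mul_assoc] at h1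
    have h3 : μ i k * μ i l = 1 := by
      have h4 : (μ i k * μ i l - 1) * f (b k) (b l) = 0 := by
        rw [sub_mul, h1, one_mul, sub_self]
      rcases mul_eq_zero.1 h4 with h | h
      · exact sub_eq_zero.1 h
      · exact absurd h hkl
    calc μ i k = μ i k * (μ i l * μ i l) := by rw [hμsq, mul_one]
      _ = (μ i k * μ i l) * μ i l := by ring
      _ = μ i l := by rw [h3, one_mul]
  -- every eigenvector has a partner
  have hπ : ∀ k, ∃ l, l ≠ k ∧ f (b k) (b l) ≠ 0 := by
    intro k
    obtain ⟨x, hx⟩ := (hf.nondegenerate (b k) (hbne k)).2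
    rw [← b.sum_repr x, form_sum_right hf.bilinear] at hx
    obtain ⟨l, -, hl⟩ := Finset.exists_ne_zero_of_sum_ne_zero hx
    have hl' : f (b k) (b l) ≠ 0 := right_ne_zero_of_mul hl
    refine ⟨l, ?_, hl'⟩
    rintro rfl
    exact hl' (hf.alternating _)
  choose π hπ1 hπ2 using hπ
  -- the diagonal map
  let D : Matrix (Fin n) (Fin n) F →ₗ[F] (Fin n → F) :=
    { toFun := fun s k => b.repr (s *ᵥ b k) k
      map_add' := by
        intro s s'
        funext k
        simp [Matrix.add_mulVec]
      map_smul' := by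
        intro c s
        funext k
        simp [Matrix.smul_mulVec] }
  have hDapp : ∀ s k, D s k = b.repr (s *ᵥ b k) k := fun _ _ => rfl
  have hD : ∀ i k, D (M i) k = μ i k := by
    intro i k
    rw [hDapp, hμ]
    simp
  -- elements of the span are diagonal
  have hdiag : ∀ s ∈ Submodule.span F (Set.range M), ∀ k, s *ᵥ b k = D s k • b k := by
    intro s hs
    induction hs using Submodule.span_induction with
    | mem x hx =>
      obtain ⟨i, rfl⟩ := hx
      intro k
      rw [hD, hμ]
    | zero =>
      intro k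
      simp
    | add x y _ _ hx hy =>
      intro k
      rw [Matrix.add_mulVec, hx, hy, map_add, Pi.add_apply, add_smul]
    | smul c x _ hx =>
      intro k
      rw [Matrix.smul_mulVec, hx, map_smul, Pi.smul_apply, smul_eq_mul, mul_smul]
  have hdisj : Disjoint (Submodule.span F (Set.range M)) (LinearMap.ker D) := by
    rw [Submodule.disjoint_def]
    intro s hs hker
    rw [LinearMap.mem_ker] at hker
    have h0 : ∀ k, s *ᵥ b k = 0 := by
      intro k
      rw [hdiag s hs k, hker, Pi.zero_apply, zero_smul]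
    have h1 : Matrix.toLin' s = 0 := by
      apply b.ext
      intro k
      rw [Matrix.toLin'_apply, h0, LinearMap.zero_apply]
    have h3 : Matrix.toLin' s = Matrix.toLin' (0 : Matrix (Fin n) (Fin n) F) := by
      rw [h1, map_zero]
    exact Matrix.toLin'.injective h3
  have hli' : LinearIndependent F (D ∘ M) := hli.map hdisj
  -- the subspace of partner-symmetric vectors
  let U : Submodule F (Fin n → F) :=
    { carrier := {x | ∀ k, x (π k) = x k}
      add_mem' := by
        intro x y hx hy k
        have hx' : ∀ k, x (π k) = x k := hx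
        have hy' : ∀ k, y (π k) = y k := hy
        rw [Pi.add_apply, Pi.add_apply, hx', hy']
      zero_mem' := by
        intro k
        rfl
      smul_mem' := by
        intro c x hx k
        have hx' : ∀ k, x (π k) = x k := hx
        rw [Pi.smul_apply, Pi.smul_apply, hx'] }
  have hUmem : ∀ x, x ∈ U ↔ ∀ k, x (π k) = x k := fun _ => Iff.rfl
  have hU : ∀ i, (D ∘ M) i ∈ U := by
    intro i
    rw [hUmem]
    intro k
    rw [Function.comp_apply, hD, hD]
    exact (key k (π k) (hπ2 k) i).symm
  have hUtop : U ≠ ⊤ := by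
    intro h
    have h1 : (Pi.single (⟨0, hn⟩ : Fin n) (1 : F) : Fin n → F) ∈ U := by
      rw [h]
      trivial
    rw [hUmem] at h1
    have h3 := h1 ⟨0, hn⟩
    rw [Pi.single_eq_same, Pi.single_eq_of_ne (hπ1 _)] at h3
    exact zero_ne_one h3
  have : Fintype κ := Fintype.ofFinite κ
  have hcard : Module.finrank F (Submodule.span F (Set.range (D ∘ M))) = Fintype.card κ :=
    finrank_span_eq_card hli'
  have hle : Submodule.span F (Set.range (D ∘ M)) ≤ U :=
    Submodule.span_le.2 (Set.range_subset_iff.2 hU)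
  have h1 : Module.finrank F (Submodule.span F (Set.range (D ∘ M))) ≤ Module.finrank F U :=
    Submodule.finrank_mono hle
  have h3 : Module.finrank F U < Module.finrank F (Fin n → F) := Submodule.finrank_lt hUtop
  rw [Module.finrank_fin_fun] at h3
  rw [Nat.card_eq_fintype_card]
  omega

/-- `|F|` odd gives `2 ≠ 0` in `F` -/
theorem two_ne_zero_of_not_dvd [Fintype F] (h : ¬ 2 ∣ Fintype.card F) : (2 : F) ≠ 0 := by
  intro h0
  apply h
  have h1 : ringChar F = 2 :=
    CharP.ringChar_of_prime_eq_zero Nat.prime_two (by exact_mod_cast h0)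
  have h3 := FiniteField.even_card_iff_char_two.1 h1
  exact Nat.dvd_of_mod_eq_zero h3

end Cfsg.Agent.Lib.Helper45.AschSpMinus

namespace Cfsg.Agent.Lib.Helper23.AschSp

open Cfsg Cfsg.Geo Cfsg.Agent.Lib.Helper99.Asch
open scoped MatrixGroups Matrix Kronecker

variable {n m : ℕ} {F : Type*} [Field F] [Fintype F] {f : (Fin n → F) → (Fin n → F) → F}

/-- ASCHSP-[MINUS] (exact sheet statement) -/
theorem isOfMinusType_of_sympOut (hf : IsSymplecticForm f) (H R₀ : Subgroup (GL (Fin n) F))
    (hR₀ : SympOut H R₀ 2 2) (hle : R₀ ≤ isoGL f) (k : ℕ) (hk : n = 2 ^ k) : IsOfMinusType k R₀ := by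
  classical
  intro A hA hA2
  by_contra hcard
  rw [not_lt] at hcard
  have hn : 0 < n := by
    rw [hk]
    positivity
  have h2 : (2 : F) ≠ 0 := Cfsg.Agent.Lib.Helper45.AschSpMinus.two_ne_zero_of_not_dvd hR₀.coprime
  let k0 : Fin n := ⟨0, hn⟩
  -- the scalar elements of `A`
  let ZA : Subgroup A := ((scalars (Fin n) F).subgroupOf R₀).subgroupOf A
  have hZA : ∀ z : A, z ∈ ZA ↔ ((z : R₀) : GL (Fin n) F) ∈ scalars (Fin n) F := by
    intro z
    simp only [ZA, Subgroup.mem_subgroupOf]
  -- the transversal
  let t : A ⧸ ZA → GL (Fin n) F := fun q => (((Quotient.out q : A) : R₀) : GL (Fin n) F)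
  have htR : ∀ q, t q ∈ R₀ := fun q => ((Quotient.out q : A) : R₀).2
  have ht : ∀ q q', q ≠ q' → (t q)⁻¹ * t q' ∉ scalars (Fin n) F := by
    intro q q' hne hmem
    apply hne
    rw [← QuotientGroup.out_eq' q, ← QuotientGroup.out_eq' q', QuotientGroup.eq, hZA]
    simpa [t] using hmem
  have hli := linearIndependent_of_inequivalent hn R₀ hR₀.absIrred hR₀.commScalar t htR ht
  have hcomm : ∀ q q', ((t q : GL (Fin n) F) : Matrix (Fin n) (Fin n) F) * (t q' : GL (Fin n) F)
      = (t q' : GL (Fin n) F) * (t q : GL (Fin n) F) := by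
    intro q q'
    have h1 : (Quotient.out q : A) * (Quotient.out q' : A) = Quotient.out q' * Quotient.out q :=
      hA.is_comm.comm _ _
    have h3 : t q * t q' = t q' * t q := by
      have := congrArg (fun x : A => (((x : A) : R₀) : GL (Fin n) F)) h1
      simpa [t] using this
    rw [← Units.val_mul, h3, Units.val_mul]
  have hsq : ∀ q, ((t q : GL (Fin n) F) : Matrix (Fin n) (Fin n) F) * (t q : GL (Fin n) F) = 1 := by
    intro q
    have h1 : ((Quotient.out q : A) : R₀) * ((Quotient.out q : A) : R₀) = 1 :=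
      hA2 _ (Quotient.out q : A).2
    have h3 : t q * t q = 1 := by
      have := congrArg (fun x : R₀ => ((x : R₀) : GL (Fin n) F)) h1
      simpa [t] using this
    rw [← Units.val_mul, h3, Units.val_one]
  have hiso : ∀ q u v, f (((t q : GL (Fin n) F) : Matrix (Fin n) (Fin n) F) *ᵥ u)
      (((t q : GL (Fin n) F) : Matrix (Fin n) (Fin n) F) *ᵥ v) = f u v := by
    intro q u v
    exact (mem_isoGL.1 (hle (htR q))) u v
  have hcore := Cfsg.Agent.Lib.Helper45.AschSpMinus.card_lt_of_linearIndependent_invol hn h2 hf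
    (fun q => ((t q : GL (Fin n) F) : Matrix (Fin n) (Fin n) F)) hcomm hsq hiso hli
  -- at most two scalars in `A`
  have hZcard : Nat.card ZA ≤ 2 := by
    have hval : ∀ z : ZA, ((((z : A) : R₀) : GL (Fin n) F) : Matrix (Fin n) (Fin n) F) k0 k0 = 1 ∨
        ((((z : A) : R₀) : GL (Fin n) F) : Matrix (Fin n) (Fin n) F) k0 k0 = -1 := by
      intro z
      obtain ⟨c, hc⟩ := (mem_scalars_iff _).1 ((hZA z).1 z.2)
      have h1 : ((z : A) : R₀) * ((z : A) : R₀) = 1 := hA2 _ (z : A).2
      have h3 : ((((z : A) : R₀) : GL (Fin n) F) : Matrix (Fin n) (Fin n) F) *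
          ((((z : A) : R₀) : GL (Fin n) F) : Matrix (Fin n) (Fin n) F) = 1 := by
        have := congrArg (fun x : R₀ => (((x : R₀) : GL (Fin n) F) : Matrix (Fin n) (Fin n) F)) h1
        simpa using this
      rw [hc] at h3 ⊢
      have h4 := congrFun (congrFun h3 k0) k0
      have h6 : ((c : F) • (1 : Matrix (Fin n) (Fin n) F)) k0 k0 = (c : F) := by
        rw [Matrix.smul_apply, Matrix.one_apply_eq, smul_eq_mul, mul_one]
      rw [h6]
      simp only [Matrix.mul_smul, Matrix.smul_apply, Matrix.one_apply_eq,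
        smul_eq_mul, mul_one] at h4
      have h5 : ((c : F) - 1) * ((c : F) + 1) = 0 := by
        ring_nf
        ring_nf at h4
        rw [h4]
        ring
      rcases mul_eq_zero.1 h5 with h | h
      · left
        exact sub_eq_zero.1 h
      · right
        exact eq_neg_of_add_eq_zero_left h
    let g : ZA → (({1, -1} : Finset F) : Type _) := fun z =>
      ⟨((((z : A) : R₀) : GL (Fin n) F) : Matrix (Fin n) (Fin n) F) k0 k0, by
        rcases hval z with h | h
        · rw [h]
          simp
        · rw [h]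
          simp⟩
    have hg : Function.Injective g := by
      intro z z' hzz'
      have h1 : ((((z : A) : R₀) : GL (Fin n) F) : Matrix (Fin n) (Fin n) F) k0 k0 =
          ((((z' : A) : R₀) : GL (Fin n) F) : Matrix (Fin n) (Fin n) F) k0 k0 :=
        congrArg Subtype.val hzz'
      obtain ⟨c, hc⟩ := (mem_scalars_iff _).1 ((hZA z).1 z.2)
      obtain ⟨c', hc'⟩ := (mem_scalars_iff _).1 ((hZA z').1 z'.2)
      rw [hc, hc'] at h1
      simp only [Matrix.smul_apply, Matrix.one_apply_eq, smul_eq_mul, mul_one] at h1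
      apply Subtype.ext
      apply Subtype.ext
      apply Subtype.ext
      apply Units.ext
      rw [hc, hc', h1]
    calc Nat.card ZA ≤ Nat.card (({1, -1} : Finset F) : Type _) := Nat.card_le_card_of_injective g hg
      _ = ({1, -1} : Finset F).card := by rw [Nat.card_eq_fintype_card, Fintype.card_coe]
      _ ≤ 2 := Finset.card_le_two
  have hmul : Nat.card A = Nat.card (A ⧸ ZA) * Nat.card ZA := Subgroup.card_eq_card_quotient_mul_card_subgroup ZA
  have hpow : 2 ^ (k + 1) = 2 * n := by
    rw [hk, pow_succ]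
    ring
  have h5 : Nat.card (A ⧸ ZA) * Nat.card ZA ≤ (n - 1) * 2 :=
    Nat.mul_le_mul (by omega) hZcard
  omega

end Cfsg.Agent.Lib.Helper23.AschSp
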