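/-
helper45: project ASCHSP (helper23, S5662): module ASCHSP-[C6]
`Cfsg.Agent.Lib.Helper23.AschSp.sgeo_of_sympOut_prime` (exact sheet statement).
-/
import Mathlib
import Cfsg.Prelude.Def_GeometricClasses
import Cfsg.Agent.Lib.Helper99.AschDefs
import Cfsg.Agent.Lib.Helper23.AschSpDefs
import Cfsg.Agent.Lib.Helper1.AschC6
import Cfsg.Agent.Lib.Helper45.AschSpMinus

set_option autoImplicit false

namespace Cfsg.Agent.Lib.Helper45.AschSpC6

open Cfsg Cfsg.Geo Cfsg.Agent.Lib.Helper99.Asch Cfsg.Agent.Lib.Helper23.AschSp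
open scoped MatrixGroups Matrix

variable {n : ℕ} {F : Type*} [Field F]

/-- isometries are similitudes -/
theorem isoGL_le_similarityGroup (f : (Fin n → F) → (Fin n → F) → F) :
    isoGL f ≤ similarityGroup f := by
  intro g hg
  refine ⟨1, fun u v => ?_⟩
  rw [Units.val_one, one_mul]
  exact (mem_isoGL.1 hg) u v

end Cfsg.Agent.Lib.Helper45.AschSpC6

namespace Cfsg.Agent.Lib.Helper23.AschSp

open Cfsg Cfsg.Geo Cfsg.Agent.Lib.Helper99.Asch
open scoped MatrixGroups Matrix Kronecker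

variable {n m : ℕ} {F : Type*} [Field F] [Fintype F] {f : (Fin n → F) → (Fin n → F) → F}

/-- ASCHSP-[C6] (exact sheet statement, sheet v2: `SpC6 m f M` records `2 ^ k = 2 * m`) -/
theorem sgeo_of_sympOut_prime (hf : IsSymplecticForm f) (hnm : n = 2 * m) (H R₀ : Subgroup (GL (Fin n) F)) (hH : H ≤ isoGL f)
    (hR₀ : SympOut H R₀ 2 2) (hle : R₀ ≤ isoGL f) (p : ℕ) (hp : p.Prime) (hF : Fintype.card F = p) :
    SGeo m f H := by
  have : Fact (2 : ℕ).Prime := ⟨Nat.prime_two⟩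
  obtain ⟨j, hj⟩ := (IsPGroup.iff_card).1 hR₀.symplecticType.pGroup
  have hcard : Nat.card R₀ = 2 ^ 1 * n ^ 2 := by
    rw [hR₀.card_eq, Fintype.card_fin, pow_one]
  obtain ⟨k, hk, hk2⟩ := Cfsg.Agent.Lib.Helper1.AschC6.pow_decomp Nat.prime_two (hcard.symm.trans hj)
  have hodd : Odd p := by
    rw [← hF]
    exact Nat.odd_iff.2 (Nat.two_dvd_ne_zero.1 hR₀.coprime)
  refine SGeo.of_c6 (M := subgroupNormalizer R₀ ⊓ isoGL f)
    ⟨R₀, p, k, hR₀.symplecticType, hR₀.absIrred,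
      hle.trans (Cfsg.Agent.Lib.Helper45.AschSpC6.isoGL_le_similarityGroup f), hp, hodd, hF, ?_,
      hR₀.card_center, isOfMinusType_of_sympOut hf H R₀ hR₀ hle k hk, by rw [← hk, hnm], rfl⟩
    (le_inf (Cfsg.Agent.Lib.Helper1.AschC6.le_subgroupNormalizer_of_nrm H R₀ hR₀.nrm) hH)
  rw [hcard, hk2]

end Cfsg.Agent.Lib.Helper23.AschSp
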