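import Mathlib
import Cfsg.Prelude.Def_GeometricClasses
import Cfsg.Agent.Lib.Helper99.AschDefs
import Cfsg.Agent.Lib.Helper39.AschBurnside
import Cfsg.Agent.Lib.Helper47.AschBasis

/-!
# ASCH-[RTWO] (helper45 hedge, for helper99's Aschbacher project)

The symplectic-type analysis for `r = 2`.
-/

set_option autoImplicit false

namespace Cfsg.Agent.Lib.Helper45.AschRTwo

open Cfsg Cfsg.Geo Cfsg.Agent.Lib.Helper99.Asch
open scoped MatrixGroups Matrix Kronecker

variable {n : ℕ} {F : Type*} [Field F]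

/-- scalar matrices are central in `GL` -/
theorem scalar_comm {g : GL (Fin n) F} (hg : g ∈ scalars (Fin n) F) (x : GL (Fin n) F) :
    g * x = x * g := by
  obtain ⟨c, hc⟩ := (mem_scalars_iff g).1 hg
  apply Units.ext
  rw [Units.val_mul, Units.val_mul, hc, Matrix.smul_mul, Matrix.mul_smul, Matrix.one_mul,
    Matrix.mul_one]

/-- the scalar matrix `c • 1` as an element of `GL` -/
noncomputable def scalarGL (c : Fˣ) : GL (Fin n) F :=
  Units.map (Matrix.scalar (Fin n) : F →+* Matrix (Fin n) (Fin n) F).toMonoidHom c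

theorem scalarGL_mem (c : Fˣ) : (scalarGL c : GL (Fin n) F) ∈ scalars (Fin n) F := ⟨c, rfl⟩

theorem coe_scalarGL (c : Fˣ) :
    ((scalarGL c : GL (Fin n) F) : Matrix (Fin n) (Fin n) F) = (c : F) • 1 := by
  simp [scalarGL, Matrix.smul_one_eq_diagonal]

theorem exists_eq_scalarGL {g : GL (Fin n) F} (hg : g ∈ scalars (Fin n) F) :
    ∃ c : Fˣ, g = scalarGL c := by
  obtain ⟨c, hc⟩ := hg
  exact ⟨c, hc.symm⟩

theorem scalarGL_injective (hn : 0 < n) :
    Function.Injective (scalarGL : Fˣ → GL (Fin n) F) := by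
  intro c d h
  have h1 := congrArg (fun g : GL (Fin n) F => (g : Matrix (Fin n) (Fin n) F) ⟨0, hn⟩ ⟨0, hn⟩) h
  simp only [coe_scalarGL, Matrix.smul_apply, Matrix.one_apply_eq, smul_eq_mul, mul_one] at h1
  exact Units.ext h1

/-- If `S` acts absolutely irreducibly, anything centralising `S` is scalar. -/
theorem mem_scalars_of_comm (hn : 0 < n) (S : Subgroup (GL (Fin n) F))
    (hS : ActsAbsolutelyIrreducibly (matrixSet S)) (g : GL (Fin n) F)
    (hg : ∀ x ∈ S, g * x = x * g) : g ∈ scalars (Fin n) F := by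
  obtain ⟨c, hc⟩ := hS.2 (g : Matrix (Fin n) (Fin n) F) (by
    rintro s ⟨x, hx, rfl⟩
    have := congrArg (fun g : GL (Fin n) F => (g : Matrix (Fin n) (Fin n) F)) (hg x hx)
    simpa using this)
  have hc0 : c ≠ 0 := by
    rintro rfl
    rw [zero_smul] at hc
    have hdet : IsUnit (g : Matrix (Fin n) (Fin n) F).det :=
      (Matrix.isUnit_iff_isUnit_det _).1 g.isUnit
    rw [hc] at hdet
    have : Nonempty (Fin n) := ⟨⟨0, hn⟩⟩
    simp at hdet
  rw [mem_scalars_iff]
  exact ⟨Units.mk0 c hc0, hc⟩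

/-- An absolutely irreducible non-scalar subgroup is nonabelian. -/
theorem exists_not_comm (hn : 0 < n) (S : Subgroup (GL (Fin n) F))
    (hS : ActsAbsolutelyIrreducibly (matrixSet S)) (hne : ¬ S ≤ scalars (Fin n) F) :
    ∃ x ∈ S, ∃ y ∈ S, x * y ≠ y * x := by
  by_contra hcon
  push Not at hcon
  apply hne
  intro x hx
  exact mem_scalars_of_comm hn S hS x (fun y hy => hcon x hx y hy)


/-! ### Abstract group theory -/

theorem comm_sq_eq_one {G : Type*} [Group G] (x y : G)
    (hc : x * y * x⁻¹ * y⁻¹ ∈ Subgroup.center G) (hx : x ^ 2 ∈ Subgroup.center G) :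
    (x * y * x⁻¹ * y⁻¹) ^ 2 = 1 := by
  obtain ⟨c, hcdef⟩ : ∃ c : G, c = x * y * x⁻¹ * y⁻¹ := ⟨_, rfl⟩
  rw [← hcdef] at hc ⊢
  have h1 : x ^ 2 * y * (x ^ 2)⁻¹ * y⁻¹ = x * c * y * x⁻¹ * y⁻¹ := by
    rw [hcdef, pow_two]; group
  have h2 : x * c = c * x := Subgroup.mem_center_iff.1 hc x
  have h3 : x ^ 2 * y = y * x ^ 2 := (Subgroup.mem_center_iff.1 hx y).symm
  calc c ^ 2 = c * (x * y * x⁻¹ * y⁻¹) := by rw [pow_two, ← hcdef]
    _ = (c * x) * y * x⁻¹ * y⁻¹ := by group
    _ = x * c * y * x⁻¹ * y⁻¹ := by rw [h2]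
    _ = x ^ 2 * y * (x ^ 2)⁻¹ * y⁻¹ := h1.symm
    _ = y * x ^ 2 * (x ^ 2)⁻¹ * y⁻¹ := by rw [h3]
    _ = 1 := by group

theorem mul_pow_four_of_central {G : Type*} [Group G] (x y : G)
    (hc : x * y * x⁻¹ * y⁻¹ ∈ Subgroup.center G) (hx : x ^ 2 ∈ Subgroup.center G) :
    (x * y) ^ 4 = x ^ 4 * y ^ 4 := by
  have hc2 := comm_sq_eq_one x y hc hx
  obtain ⟨c, hcdef⟩ : ∃ c : G, c = x * y * x⁻¹ * y⁻¹ := ⟨_, rfl⟩
  rw [← hcdef] at hc hc2
  have hd : c⁻¹ ∈ Subgroup.center G := (Subgroup.center G).inv_mem hc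
  have e1 : (x * y) ^ 2 = x * c⁻¹ * x * y * y := by rw [hcdef, pow_two]; group
  have e2 : x * c⁻¹ = c⁻¹ * x := Subgroup.mem_center_iff.1 hd x
  have e3 : (x * y) ^ 2 = c⁻¹ * (x ^ 2 * y ^ 2) := by
    rw [e1, e2]; simp only [pow_two, mul_assoc]
  have k1 : Commute c⁻¹ (x ^ 2 * y ^ 2) := (Subgroup.mem_center_iff.1 hd _).symm
  have k2 : Commute (x ^ 2) (y ^ 2) := (Subgroup.mem_center_iff.1 hx _).symm
  calc (x * y) ^ 4 = ((x * y) ^ 2) ^ 2 := by rw [← pow_mul]
    _ = (c⁻¹) ^ 2 * ((x ^ 2) ^ 2 * (y ^ 2) ^ 2) := by rw [e3, k1.mul_pow, k2.mul_pow]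
    _ = x ^ 4 * y ^ 4 := by
      rw [inv_pow, hc2, inv_one, one_mul, ← pow_mul, ← pow_mul]

/-- In a group where every element squares to `1`, any two elements commute. -/
theorem comm_of_sq_eq_one {G : Type*} [Group G] (h : ∀ g : G, g ^ 2 = 1) (a b : G) :
    a * b = b * a := by
  have ha : a⁻¹ = a := by
    rw [inv_eq_iff_mul_eq_one, ← pow_two]; exact h a
  have hb : b⁻¹ = b := by
    rw [inv_eq_iff_mul_eq_one, ← pow_two]; exact h b
  have hab : (a * b)⁻¹ = a * b := by
    rw [inv_eq_iff_mul_eq_one, ← pow_two]; exact h (a * b)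
  calc a * b = (a * b)⁻¹ := hab.symm
    _ = b⁻¹ * a⁻¹ := mul_inv_rev a b
    _ = b * a := by rw [ha, hb]

/-- Conjugation by an element normalising `R`, as an automorphism of `R`. -/
def conjAut {G : Type*} [Group G] (R : Subgroup G) (h : G)
    (h1 : ∀ x ∈ R, h * x * h⁻¹ ∈ R) (h2 : ∀ x ∈ R, h⁻¹ * x * h ∈ R) : ↥R ≃* ↥R where
  toFun x := ⟨h * x * h⁻¹, h1 x x.2⟩
  invFun x := ⟨h⁻¹ * x * h, h2 x x.2⟩
  left_inv x := by ext; simp [mul_assoc]
  right_inv x := by ext; simp [mul_assoc]
  map_mul' x y := by ext; simp [mul_assoc]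

/-- The counting lemma: the fourth-power map `N → Z` has kernel `R` and image inside the squares
of `Z`, which have index at least `2`. -/
theorem two_mul_card_le {G : Type*} [Group G] [Finite G] (N Z R : Subgroup G)
    (hZc : Z ≤ Subgroup.center G) (hRN : R ≤ N) (hR : ∀ x ∈ N, x ^ 4 = 1 → x ∈ R)
    (hR' : ∀ x ∈ R, x ^ 4 = 1)
    (hsq : ∀ x ∈ N, x ^ 2 ∈ Z) (hmul : ∀ x ∈ N, ∀ y ∈ N, (x * y) ^ 4 = x ^ 4 * y ^ 4)
    (ζ : G) (hζZ : ζ ∈ Z) (hζ1 : ζ ≠ 1) (hζ2 : ζ ^ 2 = 1) :
    2 * Nat.card N ≤ Nat.card R * Nat.card Z := by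
  classical
  have hpow4 : ∀ x ∈ N, x ^ 4 ∈ Z := fun x hx => by
    have : x ^ 4 = (x ^ 2) ^ 2 := by rw [← pow_mul]
    rw [this]; exact Z.pow_mem (hsq x hx) 2
  let φ : ↥N →* ↥Z :=
    { toFun := fun x => ⟨(x : G) ^ 4, hpow4 x x.2⟩
      map_one' := by ext; simp
      map_mul' := fun x y => by ext; simpa using hmul x x.2 y y.2 }
  let ψ : ↥Z →* ↥Z :=
    { toFun := fun z => z ^ 2
      map_one' := by simp
      map_mul' := fun z w => by
        have : Commute z w := by
          have := Subgroup.mem_center_iff.1 (hZc z.2) (w : G)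
          exact Subtype.ext this.symm
        exact this.mul_pow 2 }
  have hrange : φ.range ≤ ψ.range := by
    rintro _ ⟨x, rfl⟩
    refine ⟨⟨(x : G) ^ 2, hsq x x.2⟩, ?_⟩
    ext
    change ((x : G) ^ 2) ^ 2 = (x : G) ^ 4
    rw [← pow_mul]
  have hker : φ.ker = R.subgroupOf N := by
    ext x
    rw [MonoidHom.mem_ker, Subgroup.mem_subgroupOf]
    constructor
    · intro hx
      have : (x : G) ^ 4 = 1 := congrArg Subtype.val hx
      exact hR x x.2 this
    · intro hx
      exact Subtype.ext (hR' x hx)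
  have h1 : Nat.card R * Nat.card φ.range = Nat.card N := by
    rw [← Subgroup.index_ker, hker,
      ← Nat.card_congr (Subgroup.subgroupOfEquivOfLe hRN).toEquiv]
    exact Subgroup.card_mul_index _
  have h2 : Nat.card ψ.ker * Nat.card ψ.range = Nat.card Z := by
    rw [← Subgroup.index_ker]
    exact Subgroup.card_mul_index _
  have h3 : 2 ≤ Nat.card ψ.ker := by
    have : 1 < Nat.card ψ.ker := by
      rw [Subgroup.one_lt_card_iff_ne_bot]
      intro hbot
      have hmem : (⟨ζ, hζZ⟩ : ↥Z) ∈ ψ.ker := by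
        rw [MonoidHom.mem_ker]
        exact Subtype.ext hζ2
      rw [hbot, Subgroup.mem_bot] at hmem
      exact hζ1 (congrArg Subtype.val hmem)
    omega
  have h4 : Nat.card φ.range ≤ Nat.card ψ.range := Subgroup.card_le_of_le hrange
  calc 2 * Nat.card N = Nat.card R * (2 * Nat.card φ.range) := by rw [← h1]; ring
    _ ≤ Nat.card R * (Nat.card ψ.ker * Nat.card ψ.range) :=
        Nat.mul_le_mul_left _ (Nat.mul_le_mul h3 h4)
    _ = Nat.card R * Nat.card Z := by rw [h2]

/-- A finite cyclic group all of whose elements satisfy `a ^ k = 1` has order dividing `k`. -/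
theorem card_dvd_of_isCyclic {A : Type*} [Group A] [IsCyclic A] (k : ℕ)
    (h : ∀ a : A, a ^ k = 1) : Nat.card A ∣ k := by
  rw [← IsCyclic.exponent_eq_card]
  exact Monoid.exponent_dvd_of_forall_pow_eq_one h


/-! ### The scalars form a cyclic group of order `q - 1` -/

/-- `c ↦ c • 1` as a monoid hom `Fˣ →* GL`. -/
noncomputable def scalarHom (n : ℕ) (F : Type*) [Field F] : Fˣ →* GL (Fin n) F :=
  Units.map (Matrix.scalar (Fin n) : F →+* Matrix (Fin n) (Fin n) F).toMonoidHom

theorem scalarHom_apply (c : Fˣ) : scalarHom n F c = scalarGL c := rfl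

theorem scalarHom_range : (scalarHom n F).range = scalars (Fin n) F := rfl

theorem isCyclic_scalars [Finite F] : IsCyclic ↥(scalars (Fin n) F) := by
  rw [← scalarHom_range]
  exact isCyclic_of_surjective (scalarHom n F).rangeRestrict
    (scalarHom n F).rangeRestrict_surjective

theorem card_scalars [Finite F] (hn : 0 < n) :
    Nat.card ↥(scalars (Fin n) F) = Nat.card F - 1 := by
  rw [← scalarHom_range, ← Nat.card_units]
  exact (Nat.card_congr (MonoidHom.ofInjective (f := scalarHom n F)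
    (scalarGL_injective hn)).toEquiv).symm

/-- the statement of ASCH-[BASIS] `card_eq_of_commScalar`, as a hypothesis -/
def BasisCard (n : ℕ) (F : Type*) [Field F] : Prop :=
  ∀ S : Subgroup (GL (Fin n) F), ActsAbsolutelyIrreducibly (matrixSet S) → CommScalar S →
    Nat.card S = Nat.card (S ⊓ scalars (Fin n) F : Subgroup (GL (Fin n) F)) * n ^ 2


/-! ### The main construction -/

/-- The subgroup `R = {x ∈ N | x ^ 4 = 1}`. -/
def fourTorsion (N : Subgroup (GL (Fin n) F)) (hab : CommScalar N)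
    (hexp : ∀ x ∈ N, x ^ 2 ∈ scalars (Fin n) F) : Subgroup (GL (Fin n) F) where
  carrier := {x | x ∈ N ∧ x ^ 4 = 1}
  one_mem' := ⟨N.one_mem, one_pow 4⟩
  mul_mem' := by
    rintro x y ⟨hx, hx4⟩ ⟨hy, hy4⟩
    refine ⟨N.mul_mem hx hy, ?_⟩
    have hcen : scalars (Fin n) F ≤ Subgroup.center (GL (Fin n) F) := fun z hz =>
      Subgroup.mem_center_iff.2 (fun g => (scalar_comm hz g).symm)
    rw [mul_pow_four_of_central x y (hcen (hab x hx y hy)) (hcen (hexp x hx)), hx4, hy4, one_mul]
  inv_mem' := by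
    rintro x ⟨hx, hx4⟩
    exact ⟨N.inv_mem hx, by rw [inv_pow, hx4, inv_one]⟩

theorem mem_fourTorsion {N : Subgroup (GL (Fin n) F)} {hab : CommScalar N}
    {hexp : ∀ x ∈ N, x ^ 2 ∈ scalars (Fin n) F} {x : GL (Fin n) F} :
    x ∈ fourTorsion N hab hexp ↔ x ∈ N ∧ x ^ 4 = 1 := Iff.rfl

theorem sympOut_two_of_basis [Fintype F] (hbasis : BasisCard n F) (hn : 3 ≤ n)
    (H N : Subgroup (GL (Fin n) F)) (hNAI : NAI H)
    (hN : IsMinNrm H N) (hab : CommScalar N)
    (hexp : ∀ x ∈ N, x ^ 2 ∈ scalars (Fin n) F) :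
    ∃ R : Subgroup (GL (Fin n) F), SympOut H R 2 2 ∨ SympOut H R 2 4 := by
  classical
  have hn0 : 0 < n := by omega
  obtain ⟨Z, hZ⟩ : ∃ Z : Subgroup (GL (Fin n) F), Z = scalars (Fin n) F := ⟨_, rfl⟩
  have hZcen : scalars (Fin n) F ≤ Subgroup.center (GL (Fin n) F) := fun z hz =>
    Subgroup.mem_center_iff.2 (fun g => (scalar_comm hz g).symm)
  -- `N` is absolutely irreducible
  have hNabs : ActsAbsolutelyIrreducibly (matrixSet N) :=
    (hNAI N hN.nrm).resolve_left hN.not_le
  -- `-1 ≠ 1` in `F`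
  obtain ⟨x₀, hx₀, y₀, hy₀, hxy₀⟩ := exists_not_comm hn0 N hNabs hN.not_le
  have hneg : (-1 : F) ≠ 1 := by
    have hcZ := hab x₀ hx₀ y₀ hy₀
    have hc2 := comm_sq_eq_one x₀ y₀ (hZcen hcZ) (hZcen (hexp x₀ hx₀))
    obtain ⟨γ, hγ⟩ := exists_eq_scalarGL hcZ
    have hγ2 : γ ^ 2 = 1 := by
      apply scalarGL_injective (F := F) hn0
      rw [← scalarHom_apply, map_pow, scalarHom_apply, ← hγ, hc2, ← scalarHom_apply, map_one]
    have hγ1 : γ ≠ 1 := by
      rintro rfl
      apply hxy₀
      have h1 : x₀ * y₀ * x₀⁻¹ * y₀⁻¹ = 1 := by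
        rw [hγ, ← scalarHom_apply, map_one]
      calc x₀ * y₀ = (x₀ * y₀ * x₀⁻¹ * y₀⁻¹) * (y₀ * x₀) := by group
        _ = y₀ * x₀ := by rw [h1, one_mul]
    intro h
    apply hγ1
    have h2 : ((γ : F) - 1) * ((γ : F) + 1) = 0 := by
      have : ((γ ^ 2 : Fˣ) : F) = 1 := by rw [hγ2]; rfl
      rw [Units.val_pow_eq_pow_val] at this
      linear_combination this
    rcases mul_eq_zero.1 h2 with h3 | h3
    · exact Units.ext (by rw [Units.val_one]; linear_combination h3)
    · exact Units.ext (by rw [Units.val_one]; linear_combination h3 + h)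
  -- the scalar `-1`
  set ζ : GL (Fin n) F := scalarGL (-1 : Fˣ) with hζ
  have hζZ : ζ ∈ scalars (Fin n) F := scalarGL_mem _
  have hζ1 : ζ ≠ 1 := by
    intro h
    have : (-1 : Fˣ) = 1 := by
      apply scalarGL_injective (F := F) hn0
      rw [← hζ, h, ← scalarHom_apply, map_one]
    exact hneg (congrArg Units.val this)
  have hζ2 : ζ ^ 2 = 1 := by
    rw [hζ, ← scalarHom_apply, ← map_pow]
    simp
  -- the subgroup `R`
  set R := fourTorsion N hab hexp with hR
  have hRN : R ≤ N := fun x hx => hx.1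
  have hR4 : ∀ x ∈ R, x ^ 4 = 1 := fun x hx => hx.2
  have hRnrm : Nrm H R := fun h hh x hx =>
    ⟨hN.nrm h hh x hx.1, by rw [conj_pow, hx.2, mul_one, mul_inv_cancel]⟩
  have hRcs : CommScalar R := fun x hx y hy => hab x hx.1 y hy.1
  -- `M = R ⊓ Z` is cyclic of order `2` or `4`
  have hMcyc : IsCyclic ↥(R ⊓ scalars (Fin n) F) := by
    have := isCyclic_scalars (n := n) (F := F)
    exact isCyclic_of_injective (Subgroup.inclusion (inf_le_right : R ⊓ scalars (Fin n) F ≤ _))
      (Subgroup.inclusion_injective _)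
  have hMdvd : Nat.card ↥(R ⊓ scalars (Fin n) F) ∣ 4 := by
    apply card_dvd_of_isCyclic
    intro a
    exact Subtype.ext (hR4 a a.2.1)
  have hζM : ζ ∈ R ⊓ scalars (Fin n) F := by
    refine ⟨⟨hN.scalars_le hζZ, ?_⟩, hζZ⟩
    have : ζ ^ 4 = (ζ ^ 2) ^ 2 := by rw [← pow_mul]
    rw [this, hζ2, one_pow]
  have hMne : Nat.card ↥(R ⊓ scalars (Fin n) F) ≠ 1 := by
    intro h1
    rw [Subgroup.card_eq_one] at h1
    rw [h1, Subgroup.mem_bot] at hζM
    exact hζ1 hζM
  have hMcases : Nat.card ↥(R ⊓ scalars (Fin n) F) = 2 ∨ Nat.card ↥(R ⊓ scalars (Fin n) F) = 4 := by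
    have hle : Nat.card ↥(R ⊓ scalars (Fin n) F) ≤ 4 := Nat.le_of_dvd (by norm_num) hMdvd
    have hpos : 0 < Nat.card ↥(R ⊓ scalars (Fin n) F) := Nat.card_pos
    interval_cases h : Nat.card ↥(R ⊓ scalars (Fin n) F)
    · exact absurd rfl hMne
    · left; rfl
    · norm_num at hMdvd
    · right; rfl
  -- `R` is not scalar
  have hRne : ¬ R ≤ scalars (Fin n) F := by
    intro hle
    have hcount := two_mul_card_le N (scalars (Fin n) F) R hZcen hRN (fun x hx h4 => ⟨hx, h4⟩)
      hR4 hexp (fun x hx y hy =>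
        mul_pow_four_of_central x y (hZcen (hab x hx y hy)) (hZcen (hexp x hx)))
      ζ hζZ hζ1 hζ2
    have hNcard := hbasis N hNabs hab
    rw [inf_eq_right.2 hN.scalars_le] at hNcard
    rw [hNcard] at hcount
    have hZpos : 0 < Nat.card ↥(scalars (Fin n) F) := Nat.card_pos
    have h2 : 2 * n ^ 2 ≤ Nat.card R := by
      have : Nat.card ↥(scalars (Fin n) F) * (2 * n ^ 2) ≤
          Nat.card ↥(scalars (Fin n) F) * Nat.card R := by
        calc Nat.card ↥(scalars (Fin n) F) * (2 * n ^ 2)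
            = 2 * (Nat.card ↥(scalars (Fin n) F) * n ^ 2) := by ring
          _ ≤ Nat.card R * Nat.card ↥(scalars (Fin n) F) := hcount
          _ = Nat.card ↥(scalars (Fin n) F) * Nat.card R := by ring
      exact Nat.le_of_mul_le_mul_left this hZpos
    have hRM : R ⊓ scalars (Fin n) F = R := inf_eq_left.2 hle
    rw [hRM] at hMdvd
    have h4 : Nat.card R ≤ 4 := Nat.le_of_dvd (by norm_num) hMdvd
    have : 9 ≤ n ^ 2 := by nlinarith
    omega
  -- `R` is absolutely irreducible
  have hRabs : ActsAbsolutelyIrreducibly (matrixSet R) := (hNAI R hRnrm).resolve_left hRne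
  -- the centre of `R`
  have hcenter : Subgroup.center ↥R = (scalars (Fin n) F).subgroupOf R := by
    ext x
    rw [Subgroup.mem_center_iff, Subgroup.mem_subgroupOf]
    constructor
    · intro hx
      apply mem_scalars_of_comm hn0 R hRabs
      intro y hy
      have := hx ⟨y, hy⟩
      exact (congrArg Subtype.val this).symm
    · intro hx g
      exact Subtype.ext (scalar_comm hx (g : GL (Fin n) F)).symm
  have hcardcenter : Nat.card (Subgroup.center ↥R) = Nat.card ↥(R ⊓ scalars (Fin n) F) := by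
    rw [hcenter, inf_comm, ← Subgroup.inf_subgroupOf_right]
    exact Nat.card_congr (Subgroup.subgroupOfEquivOfLe inf_le_right).toEquiv
  -- `N` is nonabelian, `R` is nonabelian
  obtain ⟨x₁, hx₁, y₁, hy₁, hxy₁⟩ := exists_not_comm hn0 R hRabs hRne
  -- assemble, for `z = |R ⊓ Z|`
  have hmain : ∀ z : ℕ, Nat.card ↥(R ⊓ scalars (Fin n) F) = z → SympOut H R 2 z := by
    intro z hz
    refine
      { prime := Nat.prime_two
        coprime := ?_
        nrm := hRnrm
        absIrred := hRabs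
        commScalar := hRcs
        symplecticType :=
          { prime := Nat.prime_two
            pGroup := ?_
            cyclic_of_characteristic := ?_
            exponent_eq := ?_ }
        card_center := by rw [hcardcenter, hz]
        dvd := ?_
        scalar_pow := ?_
        card_eq := ?_ }
    · -- `q` is odd
      intro h2
      have hchar : ringChar F = 2 := by
        rw [FiniteField.even_card_iff_char_two]
        exact Nat.mod_eq_zero_of_dvd h2
      have : ((ringChar F : ℕ) : F) = 0 := CharP.cast_eq_zero F (ringChar F)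
      rw [hchar] at this
      apply hneg
      have h2' : (2 : F) = 0 := by exact_mod_cast this
      linear_combination -h2'
    · -- `R` is a `2`-group
      intro g
      exact ⟨2, Subtype.ext (by simpa using hR4 g g.2)⟩
    · -- characteristic abelian subgroups are cyclic
      intro A hA hAc
      -- the image `A'` of `A` in `GL` is normalised by `H`
      have hA'nrm : Nrm H (A.map R.subtype) := by
        rintro h hh _ ⟨a, ha, rfl⟩
        have h1 : ∀ x ∈ R, h * x * h⁻¹ ∈ R := fun x hx => hRnrm h hh x hx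
        have h2 : ∀ x ∈ R, h⁻¹ * x * h ∈ R := fun x hx => by
          have := hRnrm h⁻¹ (H.inv_mem hh) x hx
          simpa using this
        have hfix := hA.fixed (conjAut R h h1 h2)
        have : a ∈ A.comap (conjAut R h h1 h2).toMonoidHom := by rw [hfix]; exact ha
        exact ⟨_, this, rfl⟩
      -- `A' ⊔ Z` is `H`-normalised, between `Z` and `N`
      have hsupnrm : Nrm H (A.map R.subtype ⊔ scalars (Fin n) F) := by
        intro h hh x hx
        have hconj : (A.map R.subtype ⊔ scalars (Fin n) F).map (MulAut.conj h).toMonoidHom ≤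
            A.map R.subtype ⊔ scalars (Fin n) F := by
          rw [Subgroup.map_sup]
          apply sup_le_sup
          · rintro _ ⟨y, hy, rfl⟩
            exact hA'nrm h hh y hy
          · rintro _ ⟨y, hy, rfl⟩
            exact (scalars_normal (ι := Fin n) (F := F)).conj_mem y hy h
        exact hconj ⟨x, hx, rfl⟩
      have hA'N : A.map R.subtype ≤ N := by
        rintro _ ⟨a, _, rfl⟩
        exact hRN a.2
      rcases hN.minimal (A.map R.subtype ⊔ scalars (Fin n) F) le_sup_right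
          (sup_le hA'N hN.scalars_le) hsupnrm with hcase | hcase
      · -- `A' ≤ Z`: cyclic
        have hA'Z : A.map R.subtype ≤ scalars (Fin n) F := by
          rw [← hcase]; exact le_sup_left
        have := isCyclic_scalars (n := n) (F := F)
        let f : ↥A →* ↥(scalars (Fin n) F) :=
          { toFun := fun a => ⟨((a : ↥R) : GL (Fin n) F), hA'Z ⟨a, a.2, rfl⟩⟩
            map_one' := rfl
            map_mul' := fun a b => rfl }
        apply isCyclic_of_injective f
        intro a b hab'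
        have : ((a : ↥R) : GL (Fin n) F) = ((b : ↥R) : GL (Fin n) F) :=
          congrArg (fun z : ↥(scalars (Fin n) F) => (z : GL (Fin n) F)) hab'
        exact Subtype.ext (Subtype.ext this)
      · -- `A' Z = N` would make `N` abelian
        exfalso
        apply hxy₀
        have hK : A.map R.subtype ⊔ scalars (Fin n) F ≤
            Subgroup.centralizer ((A.map R.subtype ⊔ scalars (Fin n) F : Subgroup _) : Set _) := by
          apply sup_le
          · rw [Subgroup.le_centralizer_iff]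
            apply sup_le
            · rintro _ ⟨a, ha, rfl⟩
              rw [Subgroup.mem_centralizer_iff]
              rintro _ ⟨b, hb, rfl⟩
              have := hAc.is_comm.comm ⟨b, hb⟩ ⟨a, ha⟩
              have h' := congrArg (fun t : ↥A => ((t : ↥R) : GL (Fin n) F)) this
              simpa using h'
            · intro z hz
              rw [Subgroup.mem_centralizer_iff]
              intro b _
              exact (scalar_comm hz b).symm
          · intro z hz
            rw [Subgroup.mem_centralizer_iff]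
            intro b _
            exact (scalar_comm hz b).symm
        rw [hcase] at hK
        have := hK hx₀
        rw [Subgroup.mem_centralizer_iff] at this
        exact (this y₀ hy₀).symm
    · -- exponent `4`
      have hgcd : Nat.gcd 2 2 = 2 := by norm_num
      rw [hgcd]
      have hdvd : Monoid.exponent ↥R ∣ 4 :=
        Monoid.exponent_dvd_of_forall_pow_eq_one (fun g => Subtype.ext (hR4 g g.2))
      have hnot2 : ¬ Monoid.exponent ↥R ∣ 2 := by
        intro h2
        have hall : ∀ g : ↥R, g ^ 2 = 1 :=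
          fun g => (Monoid.exponent_dvd_iff_forall_pow_eq_one).1 h2 g
        apply hxy₁
        have := comm_of_sq_eq_one hall ⟨x₁, hx₁⟩ ⟨y₁, hy₁⟩
        exact congrArg Subtype.val this
      have hdvd' : Monoid.exponent ↥R ∣ 2 ^ 2 := by norm_num; exact hdvd
      obtain ⟨m, hm, hme⟩ := (Nat.dvd_prime_pow Nat.prime_two).1 hdvd'
      interval_cases m
      · exfalso; apply hnot2; rw [hme]; norm_num
      · exfalso; apply hnot2; rw [hme]; norm_num
      · rw [hme]; norm_num
    · -- `z ∣ q - 1`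
      rw [← hz, ← Nat.card_eq_fintype_card, ← card_scalars hn0]
      exact Subgroup.card_dvd_of_le inf_le_right
    · -- scalars of `R` have `z`-th power `1`
      intro x hxR hxZ
      have := pow_card_eq_one' (G := ↥(R ⊓ scalars (Fin n) F)) (x := ⟨x, hxR, hxZ⟩)
      rw [hz] at this
      exact congrArg Subtype.val this
    · -- `|R| = z n²`
      rw [hbasis R hRabs hRcs, hz, Fintype.card_fin]
  refine ⟨R, ?_⟩
  rcases hMcases with h2 | h4
  · exact Or.inl (hmain 2 h2)
  · exact Or.inr (hmain 4 h4)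

end Cfsg.Agent.Lib.Helper45.AschRTwo

namespace Cfsg.Agent.Lib.Helper99.Asch

open Cfsg Cfsg.Geo
open scoped MatrixGroups Matrix Kronecker

variable {n : ℕ} {F : Type*} [Field F] [Fintype F]

/-- ASCH-[RTWO] -/
theorem sympOut_two_h45 (hn : 3 ≤ n) (H N : Subgroup (GL (Fin n) F)) (hNAI : NAI H)
    (hN : IsMinNrm H N) (hab : CommScalar N)
    (hexp : ∀ x ∈ N, x ^ 2 ∈ scalars (Fin n) F) :
    ∃ R : Subgroup (GL (Fin n) F), SympOut H R 2 2 ∨ SympOut H R 2 4 := by
  refine Cfsg.Agent.Lib.Helper45.AschRTwo.sympOut_two_of_basis ?_ hn H N hNAI hN hab hexp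
  intro S hS hc
  exact Cfsg.Agent.Lib.Helper47.AschBasis.card_eq_of_commScalar_of_span (by omega) S hS hc
    (span_eq_top_of_absIrred S hS)

end Cfsg.Agent.Lib.Helper99.Asch
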