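/-
helper45: project ASCHSP (helper23, S5662): module ASCHSP-[R0]
`Cfsg.Agent.Lib.Helper23.AschSp.exists_sympOut_iso` (exact sheet statement): the isometries in the symplectic-type
group `R` form again a group of symplectic type, with centre `±1`.
-/
import Mathlib
import Cfsg.Prelude.Def_GeometricClasses
import Cfsg.Agent.Lib.Helper99.AschDefs
import Cfsg.Agent.Lib.Helper23.AschSpDefs
import Cfsg.Agent.Lib.Helper47.AschKronNormFinal
import Cfsg.Agent.Lib.Helper45.AschRTwo
import Cfsg.Agent.Lib.Helper45.AschSpC6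

set_option autoImplicit false

namespace Cfsg.Agent.Lib.Helper45.AschSpR0

open Cfsg Cfsg.Geo Cfsg.Agent.Lib.Helper99.Asch Cfsg.Agent.Lib.Helper23.AschSp
open Cfsg.Agent.Lib.Helper45.AschRTwo
open scoped MatrixGroups Matrix

variable {n : ℕ} {F : Type*} [Field F] {f : (Fin n → F) → (Fin n → F) → F}

/-- a nondegenerate form on a space of positive dimension has a nonzero value -/
theorem exists_form_ne_zero (hn : 0 < n) (hnd : IsNondegenerateForm f) : ∃ u v, f u v ≠ 0 := by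
  have h1 : (Pi.single (⟨0, hn⟩ : Fin n) (1 : F) : Fin n → F) ≠ 0 := by
    intro h
    have h3 := congrFun h ⟨0, hn⟩
    rw [Pi.single_eq_same, Pi.zero_apply] at h3
    exact one_ne_zero h3
  obtain ⟨x, hx⟩ := (hnd _ h1).1
  exact ⟨x, _, hx⟩

/-- the multiplier of a similitude -/
noncomputable def multFun (f : (Fin n → F) → (Fin n → F) → F) (g : similarityGroup f) : Fˣ :=
  Classical.choose g.2

theorem multFun_spec (g : similarityGroup f) (u v : Fin n → F) :
    f (((g : GL (Fin n) F) : Matrix (Fin n) (Fin n) F) *ᵥ u)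
      (((g : GL (Fin n) F) : Matrix (Fin n) (Fin n) F) *ᵥ v) = (multFun f g : F) * f u v :=
  Classical.choose_spec g.2 u v

theorem multFun_unique (h0 : ∃ u v, f u v ≠ 0) (g : similarityGroup f) (c : Fˣ)
    (hc : ∀ u v, f (((g : GL (Fin n) F) : Matrix (Fin n) (Fin n) F) *ᵥ u)
      (((g : GL (Fin n) F) : Matrix (Fin n) (Fin n) F) *ᵥ v) = (c : F) * f u v) :
    multFun f g = c := by
  obtain ⟨u, v, huv⟩ := h0
  have h1 := multFun_spec g u v
  rw [hc u v] at h1
  exact Units.ext (mul_right_cancel₀ huv h1).symm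

/-- the multiplier homomorphism of the similarity group of a nonzero form -/
noncomputable def multHom (f : (Fin n → F) → (Fin n → F) → F) (h0 : ∃ u v, f u v ≠ 0) :
    similarityGroup f →* Fˣ :=
  MonoidHom.mk' (multFun f) (by
    intro a b
    apply multFun_unique h0
    intro u v
    rw [Subgroup.coe_mul, Units.val_mul, ← Matrix.mulVec_mulVec, ← Matrix.mulVec_mulVec,
      multFun_spec (f := f) a, multFun_spec (f := f) b, Units.val_mul, mul_assoc])

theorem multHom_apply (h0 : ∃ u v, f u v ≠ 0) (g : similarityGroup f) :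
    multHom f h0 g = multFun f g := rfl

theorem multHom_eq_one_iff (h0 : ∃ u v, f u v ≠ 0) (g : similarityGroup f) :
    multHom f h0 g = 1 ↔ (g : GL (Fin n) F) ∈ isoGL f := by
  rw [multHom_apply, mem_isoGL]
  constructor
  · intro h u v
    rw [multFun_spec (f := f) g, h, Units.val_one, one_mul]
  · intro h
    apply multFun_unique h0
    intro u v
    rw [h, Units.val_one, one_mul]

/-- scalar matrices are similitudes of a bilinear form -/
theorem scalars_le_similarityGroup (hb : IsBilinearForm f) :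
    scalars (Fin n) F ≤ similarityGroup f := by
  intro g hg
  obtain ⟨c, hc⟩ := (mem_scalars_iff g).1 hg
  refine ⟨c * c, fun u v => ?_⟩
  rw [hc, Matrix.smul_mulVec, Matrix.one_mulVec, Matrix.smul_mulVec, Matrix.one_mulVec,
    hb.smul_left, hb.smul_right, Units.val_mul, mul_assoc]

/-- scalar isometries of a nonzero bilinear form square to one -/
theorem sq_eq_one_of_scalar_isometry (hb : IsBilinearForm f) (h0 : ∃ u v, f u v ≠ 0)
    (x : GL (Fin n) F) (hx : x ∈ isoGL f) (hxs : x ∈ scalars (Fin n) F) : x ^ 2 = 1 := by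
  obtain ⟨u, v, huv⟩ := h0
  obtain ⟨c, hc⟩ := (mem_scalars_iff x).1 hxs
  have h1 := (mem_isoGL.1 hx) u v
  rw [hc, Matrix.smul_mulVec, Matrix.one_mulVec, Matrix.smul_mulVec, Matrix.one_mulVec,
    hb.smul_left, hb.smul_right] at h1
  have hcc : (c : F) * c = 1 := by
    have h3 : ((c : F) * c - 1) * f u v = 0 := by linear_combination h1
    rcases mul_eq_zero.1 h3 with h | h
    · linear_combination h
    · exact absurd h huv
  apply Units.ext
  rw [Units.val_pow_eq_pow_val, hc, smul_pow, one_pow, pow_two, hcc, one_smul, Units.val_one]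

/-- ASCHSP-[R0], for any even centre order `z`. -/
theorem sympOut_inf_isoGL [Fintype F] (hf : IsSymplecticForm f) (hn : 4 ≤ n)
    (H N R : Subgroup (GL (Fin n) F))
    (hH : H ≤ isoGL f) (hNAI : NAIz H) (hN : IsMinNrm H N) (hRN : R ≤ N)
    (z : ℕ) (hz : 2 ≤ z) (hz2 : 2 ∣ z) (hR : SympOut H R 2 z) :
    SympOut H (R ⊓ isoGL f) 2 2 := by
  classical
  have hn0 : 0 < n := by omega
  have h0 : ∃ u v, f u v ≠ 0 := exists_form_ne_zero hn0 hf.nondegenerate
  have hR₀R : R ⊓ isoGL f ≤ R := inf_le_left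
  -- `x ^ 4 = 1` on `R`
  have hR4 : ∀ x ∈ R, x ^ 4 = 1 := by
    intro x hx
    have h1 := Monoid.pow_exponent_eq_one (⟨x, hx⟩ : ↥R)
    rw [hR.symplecticType.exponent_eq] at h1
    have h3 : (2 * Nat.gcd 2 2) = 4 := by norm_num
    rw [h3] at h1
    exact congrArg Subtype.val h1
  have hnrm : Nrm H (R ⊓ isoGL f) := fun h hh x hx =>
    ⟨hR.nrm h hh x hx.1,
      (isoGL f).mul_mem ((isoGL f).mul_mem (hH hh) hx.2) ((isoGL f).inv_mem (hH hh))⟩
  have hle_sup : R ⊓ isoGL f ≤ H ⊔ scalars (Fin n) F := hR₀R.trans (hRN.trans hN.le_sup)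
  have hRsim : R ≤ similarityGroup f :=
    hRN.trans (hN.le_sup.trans (sup_le
      (hH.trans (Cfsg.Agent.Lib.Helper45.AschSpC6.isoGL_le_similarityGroup f))
      (scalars_le_similarityGroup hf.bilinear)))
  have hRcs : CommScalar (R ⊓ isoGL f) := fun x hx y hy => hR.commScalar x hx.1 y hy.1
  -- the multiplier on `R`
  let φ : ↥R →* Fˣ := (multHom f h0).comp (Subgroup.inclusion hRsim)
  have hφker : ∀ x : ↥R, x ∈ φ.ker ↔ (x : GL (Fin n) F) ∈ isoGL f := by
    intro x
    rw [MonoidHom.mem_ker, MonoidHom.comp_apply, multHom_eq_one_iff]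
    rfl
  have hcard_ker : Nat.card φ.ker = Nat.card ↥(R ⊓ isoGL f) :=
    Nat.card_congr
      { toFun := fun x => ⟨((x : ↥R) : GL (Fin n) F), (x : ↥R).2, (hφker x).1 x.2⟩
        invFun := fun y => ⟨⟨(y : GL (Fin n) F), y.2.1⟩, (hφker _).2 y.2.2⟩
        left_inv := fun x => rfl
        right_inv := fun y => rfl }
  have hrange : Nat.card φ.range ∣ 4 := by
    apply card_dvd_of_isCyclic
    rintro ⟨_, x, rfl⟩
    apply Subtype.ext
    rw [Subgroup.coe_pow, Subgroup.coe_one, ← map_pow]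
    have h1 : x ^ 4 = 1 := Subtype.ext (hR4 x x.2)
    rw [h1, map_one]
  have hmul : Nat.card φ.ker * Nat.card φ.range = Nat.card ↥R := by
    rw [← Subgroup.index_ker]
    exact Subgroup.card_mul_index φ.ker
  have hRcard : Nat.card ↥R = z * n ^ 2 := by
    rw [hR.card_eq, Fintype.card_fin]
  have h8 : 8 ≤ Nat.card ↥(R ⊓ isoGL f) := by
    rw [← hcard_ker]
    have h1 : Nat.card φ.range ≤ 4 := Nat.le_of_dvd (by norm_num) hrange
    have h3 : 32 ≤ z * n ^ 2 := by nlinarith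
    rw [hRcard] at hmul
    nlinarith
  -- the scalars of `R₀`
  have hsc2 : ∀ x ∈ R ⊓ isoGL f, x ∈ scalars (Fin n) F → x ^ 2 = 1 := fun x hx hxs =>
    sq_eq_one_of_scalar_isometry hf.bilinear h0 x hx.2 hxs
  have hMcyc : IsCyclic ↥((R ⊓ isoGL f) ⊓ scalars (Fin n) F) := by
    have := isCyclic_scalars (n := n) (F := F)
    exact isCyclic_of_injective
      (Subgroup.inclusion (inf_le_right : (R ⊓ isoGL f) ⊓ scalars (Fin n) F ≤ _))
      (Subgroup.inclusion_injective _)
  have hMdvd : Nat.card ↥((R ⊓ isoGL f) ⊓ scalars (Fin n) F) ∣ 2 := by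
    apply card_dvd_of_isCyclic
    intro a
    exact Subtype.ext (hsc2 a a.2.1 a.2.2)
  -- `R₀` is not scalar
  have hne : ¬ R ⊓ isoGL f ≤ scalars (Fin n) F := by
    intro hle
    have hRM : (R ⊓ isoGL f) ⊓ scalars (Fin n) F = R ⊓ isoGL f := inf_eq_left.2 hle
    rw [hRM] at hMdvd
    have h2 : Nat.card ↥(R ⊓ isoGL f) ≤ 2 := Nat.le_of_dvd (by norm_num) hMdvd
    omega
  have habs : ActsAbsolutelyIrreducibly (matrixSet (R ⊓ isoGL f)) :=
    (hNAI _ hle_sup hnrm).resolve_left hne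
  obtain ⟨x₁, hx₁, y₁, hy₁, hxy₁⟩ := exists_not_comm hn0 _ habs hne
  -- a nontrivial scalar in `R₀`
  have hMcard : Nat.card ↥((R ⊓ isoGL f) ⊓ scalars (Fin n) F) = 2 := by
    have hne1 : Nat.card ↥((R ⊓ isoGL f) ⊓ scalars (Fin n) F) ≠ 1 := by
      intro h1
      rw [Subgroup.card_eq_one] at h1
      have hc : x₁ * y₁ * x₁⁻¹ * y₁⁻¹ ∈ (R ⊓ isoGL f) ⊓ scalars (Fin n) F :=
        ⟨(R ⊓ isoGL f).mul_mem ((R ⊓ isoGL f).mul_mem ((R ⊓ isoGL f).mul_mem hx₁ hy₁)
          ((R ⊓ isoGL f).inv_mem hx₁)) ((R ⊓ isoGL f).inv_mem hy₁), hRcs x₁ hx₁ y₁ hy₁⟩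
      rw [h1, Subgroup.mem_bot] at hc
      apply hxy₁
      calc x₁ * y₁ = (x₁ * y₁ * x₁⁻¹ * y₁⁻¹) * (y₁ * x₁) := by group
        _ = y₁ * x₁ := by rw [hc, one_mul]
    have hle : Nat.card ↥((R ⊓ isoGL f) ⊓ scalars (Fin n) F) ≤ 2 := Nat.le_of_dvd (by norm_num) hMdvd
    have hpos : 0 < Nat.card ↥((R ⊓ isoGL f) ⊓ scalars (Fin n) F) := Nat.card_pos
    omega
  -- the centre of `R₀`
  have hcenter : Subgroup.center ↥(R ⊓ isoGL f) = (scalars (Fin n) F).subgroupOf (R ⊓ isoGL f) := by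
    ext x
    rw [Subgroup.mem_center_iff, Subgroup.mem_subgroupOf]
    constructor
    · intro hx
      apply mem_scalars_of_comm hn0 _ habs
      intro y hy
      have := hx ⟨y, hy⟩
      exact (congrArg Subtype.val this).symm
    · intro hx g
      exact Subtype.ext (scalar_comm hx (g : GL (Fin n) F)).symm
  have hcardcenter : Nat.card (Subgroup.center ↥(R ⊓ isoGL f)) =
      Nat.card ↥((R ⊓ isoGL f) ⊓ scalars (Fin n) F) := by
    rw [hcenter]
    exact Nat.card_congr
      { toFun := fun x => ⟨((x : ↥(R ⊓ isoGL f)) : GL (Fin n) F), (x : ↥(R ⊓ isoGL f)).2,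
          Subgroup.mem_subgroupOf.1 x.2⟩
        invFun := fun y => ⟨⟨(y : GL (Fin n) F), y.2.1⟩, Subgroup.mem_subgroupOf.2 y.2.2⟩
        left_inv := fun x => rfl
        right_inv := fun y => rfl }
  refine
    { prime := Nat.prime_two
      coprime := hR.coprime
      nrm := hnrm
      absIrred := habs
      commScalar := hRcs
      symplecticType :=
        { prime := Nat.prime_two
          pGroup := hR.symplecticType.pGroup.to_le hR₀R
          cyclic_of_characteristic := ?_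
          exponent_eq := ?_ }
      card_center := by rw [hcardcenter, hMcard]
      dvd := ?_
      scalar_pow := hsc2
      card_eq := ?_ }
  · -- characteristic abelian subgroups are cyclic
    intro A hA hAc
    have hA'nrm : Nrm H (A.map (R ⊓ isoGL f).subtype) := by
      rintro h hh _ ⟨a, ha, rfl⟩
      have h1 : ∀ x ∈ R ⊓ isoGL f, h * x * h⁻¹ ∈ R ⊓ isoGL f := fun x hx => hnrm h hh x hx
      have h2 : ∀ x ∈ R ⊓ isoGL f, h⁻¹ * x * h ∈ R ⊓ isoGL f := fun x hx => by
        have := hnrm h⁻¹ (H.inv_mem hh) x hx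
        simpa using this
      have hfix := hA.fixed (conjAut (R ⊓ isoGL f) h h1 h2)
      have : a ∈ A.comap (conjAut (R ⊓ isoGL f) h h1 h2).toMonoidHom := by rw [hfix]; exact ha
      exact ⟨_, this, rfl⟩
    have hA'le : A.map (R ⊓ isoGL f).subtype ≤ H ⊔ scalars (Fin n) F := by
      rintro _ ⟨a, _, rfl⟩
      exact hle_sup a.2
    have hA'Z : A.map (R ⊓ isoGL f).subtype ≤ scalars (Fin n) F := by
      rcases hNAI _ hA'le hA'nrm with h | h
      · exact h
      · intro x hx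
        apply mem_scalars_of_comm hn0 _ h
        intro y hy
        obtain ⟨a, ha, rfl⟩ := hx
        obtain ⟨b, hb, rfl⟩ := hy
        have := hAc.is_comm.comm ⟨a, ha⟩ ⟨b, hb⟩
        have h' := congrArg (fun t : ↥A => ((t : ↥(R ⊓ isoGL f)) : GL (Fin n) F)) this
        simpa using h'
    have := isCyclic_scalars (n := n) (F := F)
    let g : ↥A →* ↥(scalars (Fin n) F) :=
      { toFun := fun a => ⟨((a : ↥(R ⊓ isoGL f)) : GL (Fin n) F), hA'Z ⟨a, a.2, rfl⟩⟩
        map_one' := rfl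
        map_mul' := fun a b => rfl }
    apply isCyclic_of_injective g
    intro a b hab'
    have : ((a : ↥(R ⊓ isoGL f)) : GL (Fin n) F) = ((b : ↥(R ⊓ isoGL f)) : GL (Fin n) F) :=
      congrArg (fun z : ↥(scalars (Fin n) F) => (z : GL (Fin n) F)) hab'
    exact Subtype.ext (Subtype.ext this)
  · -- exponent `4`
    have hgcd : Nat.gcd 2 2 = 2 := by norm_num
    rw [hgcd]
    have hdvd : Monoid.exponent ↥(R ⊓ isoGL f) ∣ 4 :=
      Monoid.exponent_dvd_of_forall_pow_eq_one (fun g => Subtype.ext (hR4 g g.2.1))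
    have hnot2 : ¬ Monoid.exponent ↥(R ⊓ isoGL f) ∣ 2 := by
      intro h2
      have hall : ∀ g : ↥(R ⊓ isoGL f), g ^ 2 = 1 :=
        fun g => (Monoid.exponent_dvd_iff_forall_pow_eq_one).1 h2 g
      apply hxy₁
      have := comm_of_sq_eq_one hall ⟨x₁, hx₁⟩ ⟨y₁, hy₁⟩
      exact congrArg Subtype.val this
    have hdvd' : Monoid.exponent ↥(R ⊓ isoGL f) ∣ 2 ^ 2 := by norm_num; exact hdvd
    obtain ⟨m, hm, hme⟩ := (Nat.dvd_prime_pow Nat.prime_two).1 hdvd'
    interval_cases m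
    · exfalso; apply hnot2; rw [hme]; norm_num
    · exfalso; apply hnot2; rw [hme]; norm_num
    · rw [hme]; norm_num
  · -- `2 ∣ q - 1`
    exact hz2.trans hR.dvd
  · -- `|R₀| = 2 n²`
    rw [card_eq_of_commScalar hn0 _ habs hRcs, hMcard, Fintype.card_fin]

end Cfsg.Agent.Lib.Helper45.AschSpR0

namespace Cfsg.Agent.Lib.Helper23.AschSp

open Cfsg Cfsg.Geo Cfsg.Agent.Lib.Helper99.Asch
open scoped MatrixGroups Matrix Kronecker

variable {n m : ℕ} {F : Type*} [Field F] [Fintype F] {f : (Fin n → F) → (Fin n → F) → F}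

/-- ASCHSP-[R0] (exact sheet statement) -/
theorem exists_sympOut_iso (hf : IsSymplecticForm f) (hn : 4 ≤ n) (H N R : Subgroup (GL (Fin n) F))
    (hH : H ≤ isoGL f) (hNAI : NAIz H) (hN : IsMinNrm H N)
    (_hexp : ∀ x ∈ N, x ^ 2 ∈ scalars (Fin n) F) (hRN : R ≤ N)
    (hR : SympOut H R 2 2 ∨ SympOut H R 2 4) :
    ∃ R₀ : Subgroup (GL (Fin n) F), R₀ ≤ isoGL f ∧ SympOut H R₀ 2 2 := by
  refine ⟨R ⊓ isoGL f, inf_le_right, ?_⟩
  rcases hR with h | h
  · exact Cfsg.Agent.Lib.Helper45.AschSpR0.sympOut_inf_isoGL hf hn H N R hH hNAI hN hRN 2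
      (le_refl 2) (dvd_refl 2) h
  · exact Cfsg.Agent.Lib.Helper45.AschSpR0.sympOut_inf_isoGL hf hn H N R hH hNAI hN hRN 4
      (by norm_num) (by norm_num) h

end Cfsg.Agent.Lib.Helper23.AschSp
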