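import Cfsg.Agent.Lib.Helper85.Suz2Defs

/-!
# SUZ2-[ABSQ] (helper45, sheet of helper85): central elements killed by `2 ^ k` are squares
-/

set_option autoImplicit false

namespace Cfsg.Agent.Lib.Helper45.Suz2

open Cfsg.Agent.Lib.Helper19.Suz Cfsg.Agent.Lib.Helper85.Suz2

universe u

variable {P : Type u} [Group P] {Y : Subgroup (MulAut P)}

/-- the subgroup of `2 ^ k`-th powers of central elements -/
def powCenter (P : Type u) [Group P] (k : ℕ) : Subgroup P where
  carrier := {w | ∃ z ∈ Subgroup.center P, z ^ (2 ^ k) = w}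
  one_mem' := ⟨1, Subgroup.one_mem _, one_pow _⟩
  mul_mem' := by
    rintro _ _ ⟨z, hz, rfl⟩ ⟨z', hz', rfl⟩
    refine ⟨z * z', Subgroup.mul_mem _ hz hz', ?_⟩
    have hc : Commute z z' := (Subgroup.mem_center_iff.mp hz z').symm
    exact hc.mul_pow _
  inv_mem' := by
    rintro _ ⟨z, hz, rfl⟩
    exact ⟨z⁻¹, Subgroup.inv_mem _ hz, inv_pow _ _⟩

theorem mem_powCenter {k : ℕ} {w : P} :
    w ∈ powCenter P k ↔ ∃ z ∈ Subgroup.center P, z ^ (2 ^ k) = w := Iff.rfl

theorem powCenter_eq_Z0 (h : SHyp P Y) (k : ℕ)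
    (hk : ∀ z ∈ Subgroup.center P, z ^ (2 ^ (k + 1)) = 1)
    (hex : ∃ z ∈ Subgroup.center P, z ^ (2 ^ k) ≠ 1) : powCenter P k = Z0 P := by
  apply h.Z0_irred
  · intro w hw
    obtain ⟨z, hz, rfl⟩ := mem_powCenter.mp hw
    refine ⟨Subgroup.pow_mem _ hz _, ?_⟩
    rw [← pow_add, ← two_mul, ← pow_succ']
    exact hk z hz
  · intro a _ w hw
    obtain ⟨z, hz, rfl⟩ := mem_powCenter.mp hw
    exact mem_powCenter.mpr ⟨a z, aut_mem_center a hz, by rw [map_pow]⟩
  · obtain ⟨z, hz, hz1⟩ := hex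
    intro hbot
    have : z ^ (2 ^ k) ∈ powCenter P k := mem_powCenter.mpr ⟨z, hz, rfl⟩
    rw [hbot, Subgroup.mem_bot] at this
    exact hz1 this

/-- [ABSQ] -/
theorem SHyp.center_sq_surj (h : SHyp P Y) (k : ℕ)
    (hk : ∀ z ∈ Subgroup.center P, z ^ (2 ^ (k + 1)) = 1)
    (y : P) (hy : y ∈ Subgroup.center P) (hyk : y ^ (2 ^ k) = 1)
    (hex : ∃ z ∈ Subgroup.center P, z ^ (2 ^ k) ≠ 1) :
    ∃ c ∈ Subgroup.center P, c * c = y := by
  have hH := powCenter_eq_Z0 h k hk hex
  -- the induction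
  have key : ∀ j : ℕ, j ≤ k → ∀ y ∈ Subgroup.center P, y ^ (2 ^ j) = 1 →
      ∃ c ∈ Subgroup.center P, c * c = y := by
    intro j
    induction j with
    | zero =>
      intro _ y _ hy1
      rw [pow_zero, pow_one] at hy1
      exact ⟨1, Subgroup.one_mem _, by rw [hy1, mul_one]⟩
    | succ j ih =>
      intro hj y hy hy1
      have hjk : j ≤ k := Nat.le_of_succ_le hj
      by_cases hw : y ^ (2 ^ j) = 1
      · exact ih hjk y hy hw
      · -- w = y^(2^j) is an involution of Z0
        have hwZ : y ^ (2 ^ j) ∈ Z0 P := by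
          refine ⟨Subgroup.pow_mem _ hy _, ?_⟩
          rw [← pow_add, ← two_mul, ← pow_succ']
          exact hy1
        rw [← hH] at hwZ
        obtain ⟨v, hv, hvw⟩ := mem_powCenter.mp hwZ
        -- k - j ≥ 1
        obtain ⟨d, hd⟩ : ∃ d, k = j + 1 + d := Nat.exists_eq_add_of_le hj
        have hvc : ∀ g : P, g * v = v * g := fun g => (Subgroup.mem_center_iff.mp hv g)
        have hyc : ∀ g : P, g * y = y * g := fun g => (Subgroup.mem_center_iff.mp hy g)
        set t := v ^ (2 ^ d) with ht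
        have htc : t ∈ Subgroup.center P := Subgroup.pow_mem _ hv _
        have htc' : ∀ g : P, g * t = t * g := fun g => (Subgroup.mem_center_iff.mp htc g)
        -- y' = y * (t*t)⁻¹
        have hy' : y * (t * t)⁻¹ ∈ Subgroup.center P :=
          Subgroup.mul_mem _ hy (Subgroup.inv_mem _ (Subgroup.mul_mem _ htc htc))
        have hcomm : Commute y (t * t)⁻¹ := by
          have : Commute y (t * t) := (hyc (t * t)).symm
          exact this.inv_right
        have htt : (t * t) ^ (2 ^ j) = v ^ (2 ^ k) := by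
          rw [ht, ← pow_add, ← two_mul, ← pow_succ', ← pow_mul, ← pow_add, hd]
          congr 2
          omega
        have hy'1 : (y * (t * t)⁻¹) ^ (2 ^ j) = 1 := by
          rw [hcomm.mul_pow, inv_pow, htt, hvw, mul_inv_cancel]
        obtain ⟨c', hc', hcc'⟩ := ih hjk _ hy' hy'1
        refine ⟨c' * t, Subgroup.mul_mem _ hc' htc, ?_⟩
        have hc'c : ∀ g : P, g * c' = c' * g := fun g => (Subgroup.mem_center_iff.mp hc' g)
        calc c' * t * (c' * t) = c' * (t * c') * t := by group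
          _ = c' * (c' * t) * t := by rw [← htc' c']
          _ = (c' * c') * (t * t) := by group
          _ = y := by rw [hcc', inv_mul_cancel_right]
  exact key k le_rfl y hy hyk

end Cfsg.Agent.Lib.Helper45.Suz2
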