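import Cfsg.Agent.Lib.Helper45.Suz2AltFormNT
import Cfsg.Agent.Lib.Helper92.Suz2NTOrd
import Cfsg.Agent.Lib.Helper92.Suz2NTThree

/-!
# SUZ2-[L] (helper45): `alt_form_zero`, final form (statement of helper85's skeleton)
-/

set_option autoImplicit false

namespace Cfsg.Agent.Lib.Helper45.Suz2

open Cfsg.Agent.Lib.Helper19.Suz Cfsg.Agent.Lib.Helper85.Suz2

variable {F : Type*} [Field F] [Fintype F] {lam : F} {n e : ℕ}

/-- [L] -/
theorem alt_form_zero (L : LamArith F lam n e) (B : F → F → F)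
    (hadd1 : ∀ x x' y, B (x + x') y = B x y + B x' y)
    (hadd2 : ∀ x y y', B x (y + y') = B x y + B x y')
    (halt : ∀ x, B x x = 0)
    (hlam : ∀ x y, B (lam * x) (lam * y) = lam * B x y) : ∀ x y, B x y = 0 :=
  alt_form_zero_of_nt
    (fun n e m hn he hm k hk => Cfsg.Agent.Lib.Helper92.Suz2.nt_ord n e m hn he hm k hk)
    (fun n e m hn he hm i j hij hj => Cfsg.Agent.Lib.Helper92.Suz2.nt_three n e m hn he hm i j hij hj)
    L B hadd1 hadd2 halt hlam

end Cfsg.Agent.Lib.Helper45.Suz2
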