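import Mathlib
import Cfsg.Agent.Lib.Helper32.AbCentDefs
import Cfsg.Agent.Lib.Helper21.StronglyEmbedded
import Cfsg.Agent.Lib.Helper53.SL2Multiplier
import Cfsg.Agent.Lib.Helper53.SteinbergSL2Iso

/-!
# S2202 module [A4] (helper45), core: an odd extension of `SL₂(2^a)` with abelian involution
centralizers and noncyclic Sylow 2-subgroups splits as a direct product (with [A2] as a hypothesis)
-/

set_option autoImplicit false

namespace Cfsg.Agent.Lib.Helper45.AbCent

open Cfsg Cfsg.Agent.Lib.Helper32.AbCent Cfsg.Agent.Lib.Helper21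
open scoped MatrixGroups

section lift

variable {G : Type*} [Group G] {S : Type*} [Group S]

/-- involutions lift through a surjection with odd kernel -/
theorem exists_involution_lift (ρ : G →* S) (hker : Odd (Nat.card ρ.ker)) {s : S}
    (hs : orderOf s = 2) (x : G) (hx : ρ x = s) : ∃ t : G, orderOf t = 2 ∧ ρ t = s := by
  obtain ⟨k, hk⟩ := hker
  have hss : s * s = 1 := inv_mul_self hs
  have hs1 : s ≠ 1 := inv_ne_one hs
  have hρt : ρ (x ^ Nat.card ρ.ker) = s := by
    rw [map_pow, hx, hk, pow_succ, pow_mul, pow_two, hss, one_pow, one_mul]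
  refine ⟨x ^ Nat.card ρ.ker, orderOf_eq_two_of ?_ ?_, hρt⟩
  · intro h1
    rw [h1, map_one] at hρt
    exact hs1 hρt.symm
  · have hx2 : x * x ∈ ρ.ker := by
      rw [MonoidHom.mem_ker, map_mul, hx, hss]
    have h1 : (⟨x * x, hx2⟩ : ρ.ker) ^ Nat.card ρ.ker = 1 := pow_card_eq_one'
    have h2 : (x * x) ^ Nat.card ρ.ker = 1 := by
      have := congrArg Subtype.val h1
      simpa using this
    rw [← (Commute.refl x).mul_pow]
    exact h2

end lift

section sl2

variable {F : Type*} [Field F] [CharP F 2]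

open Cfsg.Agent.Lib.Helper53.Steinberg in
/-- in characteristic `2`, `SL₂(F)` is generated by its involutions -/
theorem sl2_closure_involutions :
    Subgroup.closure {s : SL(2, F) | orderOf s = 2} = ⊤ := by
  have h2 : (2 : F) = 0 := by
    have := CharP.cast_eq_zero F 2
    simpa using this
  have hx : ∀ t : F, xM t ∈ Subgroup.closure {s : SL(2, F) | orderOf s = 2} := by
    intro t
    by_cases ht : xM t = 1
    · rw [ht]; exact Subgroup.one_mem _
    · apply Subgroup.subset_closure
      apply orderOf_eq_two_of ht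
      apply sl2ext <;> simp [xM_val]
      rw [← two_mul, h2, zero_mul]
  have hy : ∀ t : F, yM t ∈ Subgroup.closure {s : SL(2, F) | orderOf s = 2} := by
    intro t
    by_cases ht : yM t = 1
    · rw [ht]; exact Subgroup.one_mem _
    · apply Subgroup.subset_closure
      apply orderOf_eq_two_of ht
      apply sl2ext <;> simp [yM_val]
      rw [← two_mul, h2, zero_mul]
  rw [eq_top_iff]
  intro M _
  have hM := mem_closure_xM_yM M
  refine (Subgroup.closure_le _).2 ?_ hM
  rintro g (⟨t, rfl⟩ | ⟨t, rfl⟩)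
  · exact hx t
  · exact hy t

end sl2

section main

variable {G : Type*} [Group G] [Finite G]

/-- an `r`-group with `r` odd is not a generalised quaternion group -/
theorem not_quaternion_of_odd {R : Type*} [Group R] [Finite R] {r : ℕ} [Fact r.Prime] (hr : r ≠ 2)
    (hR : IsPGroup r R) (n : ℕ) (e : R ≃* QuaternionGroup n) : False := by
  have h4 : (e.symm (QuaternionGroup.xa 0)) ^ 4 = 1 := by
    rw [← map_pow, QuaternionGroup.xa_pow_four, map_one]
  have hne : e.symm (QuaternionGroup.xa 0) ≠ 1 := by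
    intro h
    have : QuaternionGroup.xa (0 : ZMod (2 * n)) = 1 := by
      have := congrArg e h
      rwa [e.apply_symm_apply, map_one] at this
    rw [QuaternionGroup.one_def] at this
    cases this
  obtain ⟨k, hk⟩ := hR (e.symm (QuaternionGroup.xa 0))
  have hcop : Nat.Coprime (r ^ k) 4 := by
    have h2 : Nat.Coprime r 2 := by
      rw [Nat.coprime_primes Fact.out Nat.prime_two]
      exact hr
    have : Nat.Coprime r 4 := by
      have h22 : (4 : ℕ) = 2 ^ 2 := by norm_num
      rw [h22]
      exact Nat.Coprime.pow_right 2 h2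
    exact Nat.Coprime.pow_left k this
  have hd1 : orderOf (e.symm (QuaternionGroup.xa 0)) ∣ r ^ k := orderOf_dvd_of_pow_eq_one hk
  have hd2 : orderOf (e.symm (QuaternionGroup.xa 0)) ∣ 4 := orderOf_dvd_of_pow_eq_one h4
  have : orderOf (e.symm (QuaternionGroup.xa 0)) = 1 := Nat.eq_one_of_dvd_coprimes hcop hd1 hd2
  exact hne (orderOf_eq_one_iff.1 this)

theorem split_of_surjective_core {F : Type} [Field F] [Fintype F] [CharP F 2]
    (hA2 : ∀ (T : Sylow 2 G), ¬ IsCyclic (T : Subgroup G) → ∀ (K : Subgroup G) [K.Normal],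
      Odd (Nat.card K) → K ≤ Subgroup.centralizer ((T : Subgroup G) : Set G))
    (hG : InvCentAb G) (T : Sylow 2 G)
    (hnc : ¬ IsCyclic (T : Subgroup G)) (ρ : G →* SL(2, F)) (hρ : Function.Surjective ρ)
    (hker : Odd (Nat.card ρ.ker)) :
    ∃ (A : Type) (_ : CommGroup A) (_ : Finite A), Odd (Nat.card A) ∧
      Nonempty (G ≃* SL(2, F) × A) := by
  classical
  have : Fact (Nat.Prime 2) := ⟨Nat.prime_two⟩
  -- `N` commutes with every involution
  have hNinv : ∀ n ∈ ρ.ker, ∀ t : G, orderOf t = 2 → t * n = n * t := by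
    intro n hn t ht
    have hz : IsPGroup 2 (Subgroup.zpowers t) := by
      apply IsPGroup.of_card (n := 1)
      rw [Nat.card_zpowers, ht, pow_one]
    obtain ⟨T', hT'⟩ := hz.exists_le_sylow
    have hnc' : ¬ IsCyclic (T' : Subgroup G) := by
      intro hc
      exact hnc (((Sylow.equiv T T').isCyclic).2 hc)
    have := hA2 T' hnc' ρ.ker hker hn
    rw [Subgroup.mem_centralizer_iff] at this
    exact this t (hT' (Subgroup.mem_zpowers t))
  -- an involution exists
  obtain ⟨t₀, ht₀⟩ : ∃ t₀ : G, orderOf t₀ = 2 := by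
    have h2 : 2 ∣ Nat.card (T : Subgroup G) := by
      obtain ⟨k, hk⟩ := T.isPGroup'.exists_card_eq
      rcases k with _ | k
      · exfalso
        apply hnc
        rw [pow_zero] at hk
        have : Subsingleton (T : Subgroup G) := (Nat.card_eq_one_iff_unique.1 hk).1
        exact isCyclic_of_subsingleton
      · rw [hk, pow_succ]; exact dvd_mul_left 2 _
    obtain ⟨x, hx⟩ := exists_prime_orderOf_dvd_card' 2 h2
    exact ⟨x, by rw [Subgroup.orderOf_coe]; exact hx⟩
  -- `N` is abelian
  have hNab : ∀ a ∈ ρ.ker, ∀ b ∈ ρ.ker, a * b = b * a := by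
    intro a ha b hb
    have hc := hG t₀ ht₀
    have ha' : a ∈ Subgroup.centralizer ({t₀} : Set G) := by
      rw [Subgroup.mem_centralizer_singleton_iff]
      exact (hNinv a ha t₀ ht₀).symm
    have hb' : b ∈ Subgroup.centralizer ({t₀} : Set G) := by
      rw [Subgroup.mem_centralizer_singleton_iff]
      exact (hNinv b hb t₀ ht₀).symm
    have := hc.is_comm.comm (⟨a, ha'⟩ : Subgroup.centralizer ({t₀} : Set G)) ⟨b, hb'⟩
    exact congrArg Subtype.val this
  -- `L`, the subgroup generated by the involutions, maps onto `SL₂(F)`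
  set L : Subgroup G := Subgroup.closure {t : G | orderOf t = 2} with hLdef
  have hLmap : L.map ρ = ⊤ := by
    rw [hLdef, MonoidHom.map_closure, eq_top_iff, ← sl2_closure_involutions (F := F)]
    apply Subgroup.closure_mono
    intro s hs
    obtain ⟨x, hx⟩ := hρ s
    obtain ⟨t, ht, hts⟩ := exists_involution_lift ρ hker hs x hx
    exact ⟨t, ht, hts⟩
  have hLsurj : ∀ g : G, ∃ l ∈ L, ρ l = ρ g := by
    intro g
    have : ρ g ∈ L.map ρ := by rw [hLmap]; exact Subgroup.mem_top _
    obtain ⟨l, hl, hlg⟩ := this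
    exact ⟨l, hl, hlg⟩
  -- `N` centralizes `L`
  have hNL : ∀ n ∈ ρ.ker, ∀ l ∈ L, l * n = n * l := by
    intro n hn l hl
    have hle : L ≤ Subgroup.centralizer ({n} : Set G) := by
      rw [hLdef, Subgroup.closure_le]
      intro t ht
      rw [SetLike.mem_coe, Subgroup.mem_centralizer_singleton_iff]
      exact hNinv n hn t ht
    have := hle hl
    rw [Subgroup.mem_centralizer_singleton_iff] at this
    exact this
  -- `N` is central
  have hNcen : ∀ n ∈ ρ.ker, ∀ g : G, g * n = n * g := by
    intro n hn g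
    obtain ⟨l, hl, hlg⟩ := hLsurj g
    have hm : l⁻¹ * g ∈ ρ.ker := by
      rw [MonoidHom.mem_ker, map_mul, map_inv, hlg, inv_mul_cancel]
    have h1 := hNL n hn l hl
    have h2 := hNab (l⁻¹ * g) hm n hn
    calc g * n = l * ((l⁻¹ * g) * n) := by group
      _ = l * (n * (l⁻¹ * g)) := by rw [h2]
      _ = (l * n) * (l⁻¹ * g) := by group
      _ = (n * l) * (l⁻¹ * g) := by rw [h1]
      _ = n * g := by group
  -- `L ⊓ N = ⊥`
  have hLN : ∀ z ∈ L, z ∈ ρ.ker → z = 1 := by
    intro z hzL hzN
    by_contra hz1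
    have hoz : orderOf z ≠ 1 := fun h => hz1 (orderOf_eq_one_iff.1 h)
    obtain ⟨r, hr, hrz⟩ := Nat.exists_prime_and_dvd hoz
    have : Fact r.Prime := ⟨hr⟩
    have hoz0 : orderOf z ≠ 0 := (orderOf_pos z).ne'
    set z' := z ^ (orderOf z / r) with hz'
    have hoz' : orderOf z' = r := orderOf_pow_orderOf_div hoz0 hrz
    have hz'L : z' ∈ L := L.pow_mem hzL _
    have hz'N : z' ∈ ρ.ker := ρ.ker.pow_mem hzN _
    have hr2 : r ≠ 2 := by
      intro h
      have hd : orderOf (⟨z', hz'N⟩ : ρ.ker) ∣ Nat.card ρ.ker := orderOf_dvd_natCard _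
      rw [Subgroup.orderOf_mk, hoz', h] at hd
      obtain ⟨k, hk⟩ := hker
      omega
    -- a Sylow `r`-subgroup containing `z'`
    have hzp : IsPGroup r (Subgroup.zpowers z') := by
      apply IsPGroup.of_card (n := 1)
      rw [Nat.card_zpowers, hoz', pow_one]
    obtain ⟨R, hR⟩ := hzp.exists_le_sylow
    have hz'R : z' ∈ (R : Subgroup G) := hR (Subgroup.mem_zpowers z')
    -- `R` is commutative
    have hcyc : IsCyclic ((R : Subgroup G).map ρ) := by
      rcases Cfsg.Agent.Lib.Helper53.SL2Mult.cyclic_or_quaternion_of_ne_char 2 r hr2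
        ((R : Subgroup G).map ρ) (R.isPGroup'.map ρ) with h | ⟨n, ⟨e⟩⟩
      · exact h
      · exact (not_quaternion_of_odd hr2 (R.isPGroup'.map ρ) n e).elim
    have hRcomm : IsMulCommutative (R : Subgroup G) := by
      apply MonoidHom.isMulCommutative_of_isCyclic_of_ker_le_center (ρ.subgroupMap (R : Subgroup G))
      intro x hx
      rw [MonoidHom.mem_ker] at hx
      have hx' : ρ (x : G) = 1 := by
        have := congrArg Subtype.val hx
        simpa using this
      rw [Subgroup.mem_center_iff]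
      intro y
      apply Subtype.ext
      exact hNcen (x : G) hx' (y : G)
    let _ : CommGroup (R : Subgroup G) :=
      { (inferInstance : Group (R : Subgroup G)) with mul_comm := hRcomm.is_comm.comm }
    -- the transfer into `R`
    let V : G →* (R : Subgroup G) := MonoidHom.transfer (MonoidHom.id (R : Subgroup G))
    have hVz : V z' = ⟨z' ^ (R : Subgroup G).index, (R : Subgroup G).pow_mem hz'R _⟩ := by
      have := MonoidHom.transfer_eq_pow (MonoidHom.id (R : Subgroup G)) z' (by
        intro k g₀ _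
        have hc : g₀ * z' ^ k = z' ^ k * g₀ := hNcen (z' ^ k) (ρ.ker.pow_mem hz'N k) g₀
        calc g₀⁻¹ * z' ^ k * g₀ = g₀⁻¹ * (z' ^ k * g₀) := by group
          _ = g₀⁻¹ * (g₀ * z' ^ k) := by rw [hc]
          _ = z' ^ k := by group)
      exact this
    have hVinv : ∀ t : G, orderOf t = 2 → V t = 1 := by
      intro t ht
      have h1 : (V t) ^ 2 = 1 := by
        rw [← map_pow, pow_two, inv_mul_self ht, map_one]
      have hd1 : orderOf (V t) ∣ 2 := orderOf_dvd_of_pow_eq_one h1
      obtain ⟨k, hk⟩ := R.isPGroup' (V t)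
      have hd2 : orderOf (V t) ∣ r ^ k := orderOf_dvd_of_pow_eq_one hk
      have hcop : Nat.Coprime (r ^ k) 2 := by
        apply Nat.Coprime.pow_left
        rw [Nat.coprime_primes hr Nat.prime_two]
        exact hr2
      exact orderOf_eq_one_iff.1 (Nat.eq_one_of_dvd_coprimes hcop hd2 hd1)
    have hLker : L ≤ V.ker := by
      rw [hLdef, Subgroup.closure_le]
      intro t ht
      exact hVinv t ht
    have hVz1 : V z' = 1 := hLker hz'L
    rw [hVz] at hVz1
    have hpow : z' ^ (R : Subgroup G).index = 1 := congrArg Subtype.val hVz1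
    have hdvd : r ∣ (R : Subgroup G).index := by
      have hd := orderOf_dvd_of_pow_eq_one hpow
      rwa [hoz'] at hd
    exact R.not_dvd_index hdvd
  -- the isomorphisms
  let _ : CommGroup ρ.ker :=
    { (inferInstance : Group ρ.ker) with
      mul_comm := fun a b => Subtype.ext (hNab a a.2 b b.2) }
  -- `L ≃* SL₂(F)`
  have hρL : Function.Bijective (ρ.comp L.subtype) := by
    constructor
    · rw [injective_iff_map_eq_one]
      intro l hl
      apply Subtype.ext
      exact hLN l l.2 hl
    · intro s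
      obtain ⟨g, hg⟩ := hρ s
      obtain ⟨l, hl, hlg⟩ := hLsurj g
      exact ⟨⟨l, hl⟩, by rw [← hg, ← hlg]; rfl⟩
  let e₂ : L ≃* SL(2, F) := MulEquiv.ofBijective (ρ.comp L.subtype) hρL
  -- `L × N ≃* G`
  let Θ : L × ρ.ker →* G := MonoidHom.noncommCoprod L.subtype ρ.ker.subtype
    (fun l n => hNL n n.2 l l.2)
  have hΘ : Function.Bijective Θ := by
    constructor
    · rw [injective_iff_map_eq_one]
      rintro ⟨l, n⟩ hln
      have hln' : (l : G) * (n : G) = 1 := hln
      have hl : (l : G) = (n : G)⁻¹ := eq_inv_of_mul_eq_one_left hln'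
      have hlN : (l : G) ∈ ρ.ker := by rw [hl]; exact ρ.ker.inv_mem n.2
      have hl1 : (l : G) = 1 := hLN l l.2 hlN
      have hn1 : (n : G) = 1 := by rw [hl1, one_mul] at hln'; exact hln'
      exact Prod.ext (Subtype.ext hl1) (Subtype.ext hn1)
    · intro g
      obtain ⟨l, hl, hlg⟩ := hLsurj g
      have hm : l⁻¹ * g ∈ ρ.ker := by
        rw [MonoidHom.mem_ker, map_mul, map_inv, hlg, inv_mul_cancel]
      refine ⟨(⟨l, hl⟩, ⟨l⁻¹ * g, hm⟩), ?_⟩
      show l * (l⁻¹ * g) = g
      group
  let e₁ : L × ρ.ker ≃* G := MulEquiv.ofBijective Θ hΘ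
  refine ⟨Shrink.{0} ρ.ker, inferInstance, inferInstance, ?_, ⟨?_⟩⟩
  · rw [Nat.card_congr (Shrink.mulEquiv : Shrink.{0} ρ.ker ≃* ρ.ker).toEquiv]
    exact hker
  · exact e₁.symm.trans (MulEquiv.prodCongr e₂ (Shrink.mulEquiv : Shrink.{0} ρ.ker ≃* ρ.ker).symm)

end main

end Cfsg.Agent.Lib.Helper45.AbCent
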