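import Mathlib
import Cfsg.Agent.Lib.Helper32.AbCentDefs
import Cfsg.Agent.Lib.Helper21.StronglyEmbedded
import Cfsg.Agent.Lib.Helper5.SL2Sylow

/-!
# S2202 module [II-4] (helper45), core: the assembly of case (II), with [II-1], [II-2], [II-3] as hypotheses
-/

set_option autoImplicit false

namespace Cfsg.Agent.Lib.Helper45.AbCent

open Cfsg Cfsg.Agent.Lib.Helper32.AbCent Cfsg.Agent.Lib.Helper21
open scoped MatrixGroups

variable {G : Type*} [Group G] [Finite G] {H M : Subgroup G}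

/-- an involution of a product with an odd commutative group lives in the first factor -/
theorem involution_prod_odd {S A : Type*} [Group S] [CommGroup A] [Finite A] (hA : Odd (Nat.card A))
    {x : S × A} (hx : orderOf x = 2) : x.2 = 1 ∧ orderOf x.1 = 2 := by
  have h2 : x.2 = 1 := by
    have hx2 : x ^ 2 = 1 := by rw [← hx]; exact pow_orderOf_eq_one x
    have h1 : x.2 ^ 2 = 1 := by
      have := congrArg Prod.snd hx2
      simpa using this
    have hd1 : orderOf x.2 ∣ 2 := orderOf_dvd_of_pow_eq_one h1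
    have hd2 : orderOf x.2 ∣ Nat.card A := orderOf_dvd_natCard x.2
    have hodd : Odd (orderOf x.2) := Odd.of_dvd_nat hA hd2
    have : orderOf x.2 = 1 := by
      rcases (Nat.dvd_prime Nat.prime_two).1 hd1 with h | h
      · exact h
      · rw [h] at hodd; exact absurd hodd (by decide)
    exact orderOf_eq_one_iff.1 this
  refine ⟨h2, ?_⟩
  have := Prod.orderOf x
  rw [hx, h2, orderOf_one, Nat.lcm_one_right] at this
  exact this.symm

/-- a noncyclic `2`-group has order divisible by `4` -/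
theorem four_dvd_card_of_not_cyclic {T : Type*} [Group T] [Finite T] (hT : IsPGroup 2 T)
    (hnc : ¬ IsCyclic T) : 4 ∣ Nat.card T := by
  obtain ⟨k, hk⟩ := hT.exists_card_eq
  rcases k with _ | _ | k
  · exfalso
    apply hnc
    rw [pow_zero] at hk
    have : Subsingleton T := (Nat.card_eq_one_iff_unique.1 hk).1
    exact isCyclic_of_subsingleton
  · exfalso
    apply hnc
    rw [zero_add, pow_one] at hk
    have : Fact (Nat.Prime 2) := ⟨Nat.prime_two⟩
    exact isCyclic_of_prime_card hk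
  · rw [hk]
    exact ⟨2 ^ k, by ring⟩

theorem caseII_false_core {F : Type*} [Field F] [Fintype F] [CharP F 2] {A : Type*} [CommGroup A]
    [Finite A]
    (hII1 : ∀ {L : Subgroup G}, IsStronglyEmbedded H → H ≤ L → L ≠ ⊤ → IsStronglyEmbedded L)
    (hII2 : ∀ (s t : SL(2, F)), orderOf s = 2 → orderOf t = 2 → ∃ g : SL(2, F), g * s * g⁻¹ = t)
    (hII3 : 2 < Fintype.card F → ∀ (t : SL(2, F)), orderOf t = 2 → ∀ (X : Subgroup SL(2, F)),
      Odd (Nat.card X) →
      (∀ g : SL(2, F), ∃ x ∈ X, ∃ c : SL(2, F), c * t = t * c ∧ g = x * c) → False)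
    (hA : Odd (Nat.card A)) (hH : IsStronglyEmbedded H) (hML : M ≤ H)
    (hcent : ∀ t ∈ H, orderOf t = 2 → ∀ g : G, g * t = t * g → g ∈ M)
    (hcomm : ∀ x ∈ M, ∀ y ∈ M, x * y = y * x)
    (T : Sylow 2 G) (hTH : (T : Subgroup G) ≤ M) (hnc : ¬ IsCyclic (T : Subgroup G))
    (L : Subgroup G) (hL : L ≠ ⊤) (hM : M ≤ L) (hLH : ¬ L ≤ H)
    (φ : L ≃* SL(2, F) × A) : False := by
  classical
  have h4 : 4 ∣ Nat.card (T : Subgroup G) := four_dvd_card_of_not_cyclic T.isPGroup' hnc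
  have hTL : (T : Subgroup G) ≤ L := hTH.trans hM
  have hcardL : Nat.card L = Nat.card SL(2, F) * Nat.card A := by
    rw [Nat.card_congr φ.toEquiv, Nat.card_prod]
  -- (a) `2 < |F|`
  have hF : 2 < Fintype.card F := by
    have hq : 2 ≤ Fintype.card F := Fintype.one_lt_card
    rcases Nat.lt_or_ge 2 (Fintype.card F) with h | h
    · exact h
    · exfalso
      have hq2 : Fintype.card F = 2 := le_antisymm h hq
      have h6 : Nat.card SL(2, F) = 6 := by
        rw [Cfsg.Agent.Lib.Helper5.card_SL2, hq2]; norm_num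
      have hdvd : 4 ∣ 6 * Nat.card A := by
        rw [← h6, ← hcardL]
        exact h4.trans (Subgroup.card_dvd_of_le hTL)
      obtain ⟨a, ha⟩ := hA
      rw [ha] at hdvd
      omega
  -- an involution `t ∈ T`
  obtain ⟨t, htT, ht⟩ : ∃ t ∈ (T : Subgroup G), orderOf t = 2 := by
    have : Fact (Nat.Prime 2) := ⟨Nat.prime_two⟩
    have h2 : 2 ∣ Nat.card (T : Subgroup G) := (by decide : 2 ∣ 4).trans h4
    obtain ⟨x, hx⟩ := exists_prime_orderOf_dvd_card' 2 h2
    exact ⟨x, x.2, by rw [Subgroup.orderOf_coe]; exact hx⟩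
  have htM : t ∈ M := hTH htT
  have htH : t ∈ H := hML htM
  have htL : t ∈ L := hM htM
  have hordL : ∀ (x : G) (hx : x ∈ L), orderOf x = 2 → orderOf (⟨x, hx⟩ : L) = 2 := by
    intro x hx h
    rw [← h, ← Subgroup.orderOf_coe]
  have hinv : ∀ (x : G) (hx : x ∈ L), orderOf x = 2 →
      (φ ⟨x, hx⟩).2 = 1 ∧ orderOf (φ ⟨x, hx⟩).1 = 2 := by
    intro x hx h
    apply involution_prod_odd hA
    rw [MulEquiv.orderOf_eq]
    exact hordL x hx h
  -- conjugacy of involutions inside `L`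
  have hconjL : ∀ (s : G) (hs : s ∈ L), orderOf s = 2 → ∃ l ∈ L, l * t * l⁻¹ = s := by
    intro s hs hs2
    obtain ⟨ht2, hto⟩ := hinv t htL ht
    obtain ⟨hs2', hso⟩ := hinv s hs hs2
    obtain ⟨g, hg⟩ := hII2 _ _ hto hso
    refine ⟨(φ.symm (g, 1) : L), (φ.symm (g, 1)).2, ?_⟩
    have : φ.symm (g, 1) * ⟨t, htL⟩ * (φ.symm (g, 1))⁻¹ = (⟨s, hs⟩ : L) := by
      apply φ.injective
      rw [map_mul, map_mul, map_inv, φ.apply_symm_apply]
      apply Prod.ext
      · simpa using hg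
      · simp [ht2, hs2']
    exact congrArg Subtype.val this
  -- (b) `H ≤ L`
  have hHL : H ≤ L := by
    intro h hh
    have hs2 : orderOf (h * t * h⁻¹) = 2 := orderOf_conj_eq_two ht h
    have hsH : h * t * h⁻¹ ∈ H := H.mul_mem (H.mul_mem hh htH) (H.inv_mem hh)
    have hsM : h * t * h⁻¹ ∈ M := hcent _ hsH hs2 _ rfl
    obtain ⟨l, hlL, hl⟩ := hconjL _ (hM hsM) hs2
    have hc : (l⁻¹ * h) * t = t * (l⁻¹ * h) := by
      have : t = l⁻¹ * (h * t * h⁻¹) * l := by rw [← hl]; group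
      calc (l⁻¹ * h) * t = l⁻¹ * (h * t * h⁻¹) * l * (l⁻¹ * h) := by group
        _ = t * (l⁻¹ * h) := by rw [← this]
    have : l⁻¹ * h ∈ L := hM (hcent t htH ht _ hc)
    have h2 : h = l * (l⁻¹ * h) := by group
    rw [h2]
    exact L.mul_mem hlL this
  -- (c) `L` is strongly embedded; an involution `u ∉ L`
  have hLse : IsStronglyEmbedded L := hII1 hH hHL hL
  obtain ⟨u, hu, huL⟩ : ∃ u : G, orderOf u = 2 ∧ u ∉ L := by
    obtain ⟨g, hg⟩ : ∃ g : G, g ∉ L := by
      by_contra hcon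
      exact hL (eq_top_iff.2 fun x _ => by
        by_contra hx
        exact hcon ⟨x, hx⟩)
    have hne : (QuotientGroup.mk 1 : G ⧸ L) ≠ QuotientGroup.mk g := by
      intro heq
      apply hg
      have := QuotientGroup.eq.1 heq
      simpa using this
    have hcard := se_card_swapping hLse hne
    obtain ⟨t₀, ht₀L, ht₀⟩ := se_exists_involution hLse
    have : Nonempty {t : G // orderOf t = 2 ∧ t ∈ L} := ⟨⟨t₀, ht₀, ht₀L⟩⟩
    have hpos : 0 < Nat.card {t : G // orderOf t = 2 ∧ t ∈ L} := Nat.card_pos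
    rw [← hcard] at hpos
    obtain ⟨⟨i, hi2, hi⟩⟩ := (Nat.card_pos_iff.1 hpos).1
    refine ⟨i, hi2, ?_⟩
    intro hiL
    apply hne
    rw [← hi]
    exact ((smul_mk_one_eq_iff i).2 hiL).symm
  -- (d), (e)
  let ψ : L →* SL(2, F) := (MonoidHom.fst _ _).comp φ.toMonoidHom
  let D : Subgroup L := (L ⊓ L.map (MulAut.conj u).toMonoidHom).subgroupOf L
  have hDodd : Odd (Nat.card D) := by
    have : Nat.card D = Nat.card ↥(L ⊓ L.map (MulAut.conj u).toMonoidHom) :=
      Nat.card_congr (Subgroup.subgroupOfEquivOfLe inf_le_left).toEquiv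
    rw [this]
    exact hLse.2.2 u huL
  have hXodd : Odd (Nat.card (D.map ψ)) := Odd.of_dvd_nat hDodd (Subgroup.card_map_dvd D ψ)
  obtain ⟨ht2, hto⟩ := hinv t htL ht
  apply hII3 hF (ψ ⟨t, htL⟩) hto (D.map ψ) hXodd
  intro g
  -- `l` a preimage of `g`
  have hl2 : orderOf ((φ.symm (g, 1) : L) * t * ((φ.symm (g, 1) : L) : G)⁻¹) = 2 :=
    orderOf_conj_eq_two ht _
  have hlL : ((φ.symm (g, 1) : L) : G) ∈ L := (φ.symm (g, 1)).2
  have hsL : ((φ.symm (g, 1) : L) : G) * t * ((φ.symm (g, 1) : L) : G)⁻¹ ∈ L :=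
    L.mul_mem (L.mul_mem hlL htL) (L.inv_mem hlL)
  obtain ⟨d, hd, hdt⟩ := se_involutions_conj_in_inter hLse hu huL ht htL hl2 hsL
  have hdL : d ∈ L := hd.1
  set l : G := ((φ.symm (g, 1) : L) : G) with hl
  have hc : (d⁻¹ * l) * t = t * (d⁻¹ * l) := by
    have : t = d⁻¹ * (l * t * l⁻¹) * d := by rw [← hdt]; group
    calc (d⁻¹ * l) * t = d⁻¹ * (l * t * l⁻¹) * d * (d⁻¹ * l) := by group
      _ = t * (d⁻¹ * l) := by rw [← this]
  have hyM : d⁻¹ * l ∈ M := hcent t htH ht _ hc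
  have hyL : d⁻¹ * l ∈ L := hM hyM
  refine ⟨ψ ⟨d, hdL⟩, ⟨⟨d, hdL⟩, ?_, rfl⟩, ψ ⟨d⁻¹ * l, hyL⟩, ?_, ?_⟩
  · show (⟨d, hdL⟩ : L) ∈ D
    rw [Subgroup.mem_subgroupOf]
    exact hd
  · rw [← map_mul, ← map_mul]
    congr 1
    exact Subtype.ext hc
  · rw [← map_mul]
    have h1 : (⟨d, hdL⟩ : L) * ⟨d⁻¹ * l, hyL⟩ = φ.symm (g, 1) := by
      apply Subtype.ext
      show d * (d⁻¹ * l) = l
      group
    rw [h1]
    show g = (φ (φ.symm (g, 1))).1
    rw [φ.apply_symm_apply]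

end Cfsg.Agent.Lib.Helper45.AbCent
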