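import Mathlib
import Cfsg.Agent.Lib.Helper45.AbCentII4Core
import Cfsg.Agent.Lib.Helper29.AbCentII1
import Cfsg.Agent.Lib.Helper33.AbCentSL2

/-!
# S2202 module [II-4] (helper45): case (II) is impossible
-/

set_option autoImplicit false

namespace Cfsg.Agent.Lib.Helper45.AbCent

open Cfsg Cfsg.Agent.Lib.Helper32.AbCent
open scoped MatrixGroups

variable {G : Type*} [Group G] [Finite G] {H M : Subgroup G}

/-- MODULE [II-4] -/
theorem caseII_false {F : Type*} [Field F] [Fintype F] [CharP F 2] {A : Type*} [CommGroup A] [Finite A]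
    (hA : Odd (Nat.card A)) (hH : IsStronglyEmbedded H) (hML : M ≤ H)
    (hcent : ∀ t ∈ H, orderOf t = 2 → ∀ g : G, g * t = t * g → g ∈ M)
    (hcomm : ∀ x ∈ M, ∀ y ∈ M, x * y = y * x)
    (T : Sylow 2 G) (hTH : (T : Subgroup G) ≤ M) (hnc : ¬ IsCyclic (T : Subgroup G))
    (L : Subgroup G) (hL : L ≠ ⊤) (hM : M ≤ L) (hLH : ¬ L ≤ H)
    (φ : L ≃* SL(2, F) × A) : False :=
  caseII_false_core
    (fun hH' hHL hL' => Cfsg.Agent.Lib.Helper29.AbCent.se_of_le hH' hHL hL')
    (fun s t hs ht => Cfsg.Agent.Lib.Helper33.AbCent.sl2_involutions_conj s t hs ht)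
    (fun hF t ht X hX hfac => Cfsg.Agent.Lib.Helper33.AbCent.sl2_no_odd_factorization hF t ht X hX hfac)
    hA hH hML hcent hcomm T hTH hnc L hL hM hLH φ

end Cfsg.Agent.Lib.Helper45.AbCent
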