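import Mathlib
import Cfsg.Agent.Lib.Helper94.UDec.Core

/-!
# UDEC-[DIL] (helper45, sheet of helper94, S5655 part 2): the torus element of a hyperbolic pair
-/

set_option autoImplicit false
set_option linter.unusedSectionVars false
set_option linter.unusedVariables false

namespace Cfsg.Agent.Lib.Helper45.UDec

open Cfsg.Agent.Lib.Helper94 Cfsg.Agent.Lib.Helper94.SympData Cfsg.Agent.Lib.Helper94.UDec Module

variable {K V : Type*} [Field K] [AddCommGroup V] [Module K V] [FiniteDimensional K V]
variable {σ : K →+* K} {h : V → V → K}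

section ELT
variable (F : FCtx σ h)
include F

/-- [DIL] the torus element of a hyperbolic pair -/
theorem ex_dil {e f : V} (hee : h e e = 0) (hff : h f f = 0) (hef : h e f = 1) {ζ : K}
    (hζ : ζ ≠ 0) :
    ∃ g : V ≃ₗ[K] V, g ∈ UG h ∧ ((LinearEquiv.det g : Kˣ) : K) = ζ / σ ζ ∧
      ∀ x, g x = x + ((ζ - 1) * h x f) • e + (((σ ζ)⁻¹ - 1) * h x e) • f := by
  have hH := F.herm
  have hfe : h f e = 1 := by rw [hH.conj e f, hef, map_one]
  have hs0 : σ ζ ≠ 0 := by
    intro h0
    apply hζ
    have := F.invol ζ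
    rw [h0, map_zero] at this
    exact this.symm
  set f1 : Module.Dual K V := (ζ - 1) • hH.hfun f with hf1
  set f2 : Module.Dual K V := ((σ ζ)⁻¹ - 1) • hH.hfun e with hf2
  have hf1e : f1 e = ζ - 1 := by
    rw [hf1, LinearMap.smul_apply, HermData.hfun_apply, smul_eq_mul, hef, mul_one]
  have hf2f : f2 f = (σ ζ)⁻¹ - 1 := by
    rw [hf2, LinearMap.smul_apply, HermData.hfun_apply, smul_eq_mul, hfe, mul_one]
  have hu1 : IsUnit (1 + f1 e) := by
    rw [hf1e]; exact IsUnit.mk0 _ (by simpa using hζ)
  have hu2 : IsUnit (1 + f2 f) := by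
    rw [hf2f]; exact IsUnit.mk0 _ (by simpa using hs0)
  have hform : ∀ x, (LinearEquiv.dilatransvection hu1 * LinearEquiv.dilatransvection hu2) x =
      x + ((ζ - 1) * h x f) • e + (((σ ζ)⁻¹ - 1) * h x e) • f := by
    intro x
    rw [LinearEquiv.mul_apply, LinearEquiv.dilatransvection.apply,
      LinearEquiv.dilatransvection.apply]
    simp only [hf1, hf2, LinearMap.smul_apply, HermData.hfun_apply, smul_eq_mul, hH.add_left,
      hH.smul_left, hff, mul_zero, add_zero]
    abel
  refine ⟨LinearEquiv.dilatransvection hu1 * LinearEquiv.dilatransvection hu2, ?_, ?_, hform⟩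
  · intro x y
    rw [hform x, hform y]
    have hyf : σ (h y f) = h f y := (hH.conj y f).symm
    have hye : σ (h y e) = h e y := (hH.conj y e).symm
    have hss : σ (σ ζ) = ζ := F.invol ζ
    simp only [hH.add_left, hH.add_right, hH.smul_left, hH.smul_right, hee, hff, hef, hfe,
      map_mul, map_sub, map_one, map_inv₀, hss, hyf, hye, mul_zero, mul_one, add_zero]
    field_simp
    ring
  · rw [map_mul, Units.val_mul, LinearEquiv.coe_det, LinearEquiv.coe_det,
      LinearEquiv.dilatransvection.coe_toLinearMap, LinearEquiv.dilatransvection.coe_toLinearMap,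
      LinearMap.transvection.det, LinearMap.transvection.det, hf1e, hf2f]
    field_simp
    ring

end ELT

end Cfsg.Agent.Lib.Helper45.UDec
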