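import Cfsg.Agent.Lib.Helper36.Tri.GeoDefs
import Cfsg.Agent.Lib.Helper36.MaxTS

/-!
# TRI8 module [G-B] (helper45): lines collinear with two disjoint lines of a maximal totally
singular 4-space (`nbr_ms`) and lines commuting with all of them (`star_ms`)
-/

set_option autoImplicit false

namespace Cfsg.Agent.Lib.Helper45.Tri

open Cfsg.Agent.Lib.Helper36 Cfsg.Agent.Lib.Helper36.AutO Cfsg.Agent.Lib.Helper36.Tri Module
open Cfsg.Agent.Lib.Helper13 hiding isoGroup mem_isoGroup

variable {F V : Type*} [Field F] [AddCommGroup V] [Module F V]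

local notation "pol" => QuadraticMap.polar

/-- a 2-generated subspace meeting two disjoint subspaces nontrivially lies in their sum -/
theorem span_pair_le_sup {L L' : Submodule F V} (hdisj : ¬ LMeet L L') {k₁ k₂ : V}
    (h1 : LMeet (Submodule.span F {k₁, k₂}) L) (h2 : LMeet (Submodule.span F {k₁, k₂}) L') :
    Submodule.span F {k₁, k₂} ≤ L ⊔ L' := by
  obtain ⟨x, hx0, hxK, hxL⟩ := h1
  obtain ⟨x', hx'0, hx'K, hx'L'⟩ := h2
  obtain ⟨α₁, α₂, rfl⟩ := Submodule.mem_span_pair.mp hxK
  obtain ⟨β₁, β₂, hx'⟩ := Submodule.mem_span_pair.mp hx'K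
  -- the determinant is nonzero
  have hdet : α₁ * β₂ - α₂ * β₁ ≠ 0 := by
    intro hdet
    have e1 : β₂ • (α₁ • k₁ + α₂ • k₂) - α₂ • x' = 0 := by
      rw [← hx']
      simp only [smul_add, smul_smul]
      have : β₂ * α₁ = α₂ * β₁ := by linear_combination hdet
      rw [this]
      have : β₂ * α₂ = α₂ * β₂ := mul_comm _ _
      rw [this]
      abel
    have e2 : β₁ • (α₁ • k₁ + α₂ • k₂) - α₁ • x' = 0 := by
      rw [← hx']
      simp only [smul_add, smul_smul]
      have : β₁ * α₂ = α₁ * β₂ := by linear_combination -hdet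
      rw [this]
      have : β₁ * α₁ = α₁ * β₁ := mul_comm _ _
      rw [this]
      abel
    apply hdisj
    refine ⟨x', hx'0, ?_, hx'L'⟩
    by_cases hα₂ : α₂ = 0
    · have hα₁ : α₁ ≠ 0 := by
        intro hα₁
        apply hx0
        rw [hα₁, hα₂, zero_smul, zero_smul, add_zero]
      have : x' = α₁⁻¹ • (β₁ • (α₁ • k₁ + α₂ • k₂)) := by
        have h3 : α₁ • x' = β₁ • (α₁ • k₁ + α₂ • k₂) := (sub_eq_zero.mp e2).symm
        rw [← h3, smul_smul, inv_mul_cancel₀ hα₁, one_smul]
      rw [this]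
      exact L.smul_mem _ (L.smul_mem _ hxL)
    · have : x' = α₂⁻¹ • (β₂ • (α₁ • k₁ + α₂ • k₂)) := by
        have h3 : α₂ • x' = β₂ • (α₁ • k₁ + α₂ • k₂) := (sub_eq_zero.mp e1).symm
        rw [← h3, smul_smul, inv_mul_cancel₀ hα₂, one_smul]
      rw [this]
      exact L.smul_mem _ (L.smul_mem _ hxL)
  have hxM : α₁ • k₁ + α₂ • k₂ ∈ L ⊔ L' := Submodule.mem_sup_left hxL
  have hx'M : x' ∈ L ⊔ L' := Submodule.mem_sup_right hx'L'
  rw [Submodule.span_le]
  intro k hk
  rcases hk with rfl | hk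
  · have : k = (α₁ * β₂ - α₂ * β₁)⁻¹ • (β₂ • (α₁ • k + α₂ • k₂) - α₂ • x') := by
      rw [← hx']
      have : β₂ • (α₁ • k + α₂ • k₂) - α₂ • (β₁ • k + β₂ • k₂) = (α₁ * β₂ - α₂ * β₁) • k := by
        simp only [smul_add, smul_smul, sub_smul]
        have : β₂ * α₂ = α₂ * β₂ := mul_comm _ _
        rw [this, mul_comm β₂ α₁]
        abel
      rw [this, smul_smul, inv_mul_cancel₀ hdet, one_smul]
    rw [this]
    exact Submodule.smul_mem _ _ (Submodule.sub_mem _ (Submodule.smul_mem _ _ hxM)
      (Submodule.smul_mem _ _ hx'M))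
  · rw [Set.mem_singleton_iff] at hk
    subst hk
    have : k = (α₁ * β₂ - α₂ * β₁)⁻¹ • (α₁ • x' - β₁ • (α₁ • k₁ + α₂ • k)) := by
      rw [← hx']
      have : α₁ • (β₁ • k₁ + β₂ • k) - β₁ • (α₁ • k₁ + α₂ • k) = (α₁ * β₂ - α₂ * β₁) • k := by
        simp only [smul_add, smul_smul, sub_smul]
        rw [mul_comm β₁ α₁, mul_comm β₁ α₂]
        abel
      rw [this, smul_smul, inv_mul_cancel₀ hdet, one_smul]
    rw [this]
    exact Submodule.smul_mem _ _ (Submodule.sub_mem _ (Submodule.smul_mem _ _ hx'M)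
      (Submodule.smul_mem _ _ hxM))

/-- **[G-B]**, first part -/
theorem nbr_ms {Q : QuadraticForm F V} {a b a' b' j₁ j₂ : V} (h : IsLine Q a b) (h' : IsLine Q a' b')
    (hdisj : ¬ LMeet (Submodule.span F {a, b}) (Submodule.span F {a', b'})) (hj : IsLine Q j₁ j₂)
    (h1 : LColl Q (Submodule.span F {j₁, j₂}) (Submodule.span F {a, b}))
    (h2 : LColl Q (Submodule.span F {j₁, j₂}) (Submodule.span F {a', b'})) :
    Submodule.span F {j₁, j₂} ≤ Submodule.span F {a, b} ⊔ Submodule.span F {a', b'} :=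
  span_pair_le_sup hdisj h1.2 h2.2

theorem pol_self_of_Q {Q : QuadraticForm F V} {x : V} (hx : Q x = 0) : pol (⇑Q) x x = 0 := by
  have h1 : Q (x + x) = 4 * Q x := by
    have : x + x = (2 : F) • x := (two_smul F x).symm
    rw [this, QuadraticMap.map_smul, smul_eq_mul]; ring
  unfold QuadraticMap.polar
  rw [h1, hx]; ring

/-- the core of `star_ms`: the case `K ⊥ L`, `K` meets `L'` -/
theorem star_ms_core [FiniteDimensional F V] {Q : QuadraticForm F V}
    {a b a' b' k₁ k₂ : V} (h : IsLine Q a b) (h' : IsLine Q a' b')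
    (hperp : LPerp Q (Submodule.span F {a, b}) (Submodule.span F {a', b'}))
    (hdisj : ¬ LMeet (Submodule.span F {a, b}) (Submodule.span F {a', b'})) (hk : IsLine Q k₁ k₂)
    (hMperp : perp Q (Submodule.span F {a, b} ⊔ Submodule.span F {a', b'}) =
      Submodule.span F {a, b} ⊔ Submodule.span F {a', b'})
    (hL : LPerp Q (Submodule.span F {k₁, k₂}) (Submodule.span F {a, b}))
    (hL' : LMeet (Submodule.span F {k₁, k₂}) (Submodule.span F {a', b'}))
    (hN : ∀ j₁ j₂ : V, IsLine Q j₁ j₂ →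
      LColl Q (Submodule.span F {j₁, j₂}) (Submodule.span F {a, b}) →
      LColl Q (Submodule.span F {j₁, j₂}) (Submodule.span F {a', b'}) →
      LComm Q (Submodule.span F {k₁, k₂}) (Submodule.span F {j₁, j₂})) :
    Submodule.span F {k₁, k₂} ≤ Submodule.span F {a, b} ⊔ Submodule.span F {a', b'} := by
  set L := Submodule.span F {a, b} with hLdef
  set L' := Submodule.span F {a', b'} with hL'def
  set K := Submodule.span F {k₁, k₂} with hKdef
  have haL : a ∈ L := Submodule.subset_span (by simp)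
  have hbL : b ∈ L := Submodule.subset_span (by simp)
  have ha'L' : a' ∈ L' := Submodule.subset_span (by simp)
  have hb'L' : b' ∈ L' := Submodule.subset_span (by simp)
  -- it suffices to show that `K` meets `L`
  by_contra hKM
  have hnomeet : ¬ LMeet K L := fun hm => hKM (span_pair_le_sup hdisj hm hL')
  -- some generator `y` of `K` is outside `M`
  obtain ⟨y, hyK, hyM⟩ : ∃ y ∈ K, y ∉ L ⊔ L' := by
    by_contra hcon
    push Not at hcon
    apply hKM
    rw [hKdef, Submodule.span_le]
    intro k hk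
    exact hcon k (Submodule.subset_span hk)
  -- `y` is not perpendicular to `L'`
  have hyL : ∀ z ∈ L, pol (⇑Q) z y = 0 := by
    intro z hz
    rw [QuadraticMap.polar_comm]
    exact hL y hyK z hz
  obtain ⟨x'', hx''L', hx''y⟩ : ∃ x'' ∈ L', pol (⇑Q) x'' y ≠ 0 := by
    by_contra hcon
    push Not at hcon
    apply hyM
    rw [← hMperp, mem_perp]
    intro w hw
    obtain ⟨l, hl, l', hl', rfl⟩ := Submodule.mem_sup.mp hw
    rw [QuadraticMap.polar_add_left, hyL l hl, hcon l' hl', add_zero]
  have hx''0 : x'' ≠ 0 := by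
    rintro rfl
    apply hx''y
    simp [QuadraticMap.polar]
  -- the transversal line `J = ⟨a, x''⟩`
  have hJ : IsLine Q a x'' := by
    refine ⟨h.hp0, ?_, h.hp, h'.Q_span hx''L', hperp a haL x'' hx''L'⟩
    intro c hc
    apply hdisj
    refine ⟨x'', hx''0, ?_, hx''L'⟩
    rw [hc]
    exact L.smul_mem c haL
  have haJ : a ∈ Submodule.span F {a, x''} := Submodule.subset_span (by simp)
  have hx''J : x'' ∈ Submodule.span F {a, x''} := Submodule.subset_span (by simp)
  have hJL : LColl Q (Submodule.span F {a, x''}) L := by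
    refine ⟨?_, a, h.hp0, haJ, haL⟩
    rw [hLdef, lperp_span_iff]
    refine ⟨pol_self_of_Q h.hp, h.hpw, ?_, ?_⟩
    · rw [QuadraticMap.polar_comm]; exact hperp a haL x'' hx''L'
    · rw [QuadraticMap.polar_comm]; exact hperp b hbL x'' hx''L'
  have hJL' : LColl Q (Submodule.span F {a, x''}) L' := by
    refine ⟨?_, x'', hx''0, hx''J, hx''L'⟩
    rw [hL'def, lperp_span_iff]
    exact ⟨hperp a haL a' ha'L', hperp a haL b' hb'L', h'.pol_span hx''L' ha'L',
      h'.pol_span hx''L' hb'L'⟩
  rcases hN a x'' hJ hJL hJL' with hp | hm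
  · -- `K ⊥ J` is impossible
    apply hx''y
    rw [QuadraticMap.polar_comm]
    exact hp y hyK x'' hx''J
  · -- `K` meets `J` in a multiple of `a`
    obtain ⟨z, hz0, hzK, hzJ⟩ := hm
    obtain ⟨α, β, rfl⟩ := Submodule.mem_span_pair.mp hzJ
    have h1 : pol (⇑Q) (α • a + β • x'') y = 0 := hk.pol_span hzK hyK
    rw [QuadraticMap.polar_add_left, QuadraticMap.polar_smul_left, QuadraticMap.polar_smul_left,
      hyL a haL, smul_zero, zero_add, smul_eq_mul] at h1
    have hβ : β = 0 := (mul_eq_zero.mp h1).resolve_right hx''y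
    apply hnomeet
    refine ⟨α • a + β • x'', hz0, hzK, ?_⟩
    rw [hβ, zero_smul, add_zero]
    exact L.smul_mem α haL

/-- **[G-B]**, second part -/
theorem star_ms [FiniteDimensional F V] {Q : QuadraticForm F V}
    (hQ : (QuadraticMap.polarBilin Q).Nondegenerate) (h8 : finrank F V = 8) {a b a' b' k₁ k₂ : V}
    (h : IsLine Q a b) (h' : IsLine Q a' b')
    (hperp : LPerp Q (Submodule.span F {a, b}) (Submodule.span F {a', b'}))
    (hdisj : ¬ LMeet (Submodule.span F {a, b}) (Submodule.span F {a', b'})) (hk : IsLine Q k₁ k₂)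
    (hL : LComm Q (Submodule.span F {k₁, k₂}) (Submodule.span F {a, b}))
    (hL' : LComm Q (Submodule.span F {k₁, k₂}) (Submodule.span F {a', b'}))
    (hN : ∀ j₁ j₂ : V, IsLine Q j₁ j₂ →
      LColl Q (Submodule.span F {j₁, j₂}) (Submodule.span F {a, b}) →
      LColl Q (Submodule.span F {j₁, j₂}) (Submodule.span F {a', b'}) →
      LComm Q (Submodule.span F {k₁, k₂}) (Submodule.span F {j₁, j₂})) :
    Submodule.span F {k₁, k₂} ≤ Submodule.span F {a, b} ⊔ Submodule.span F {a', b'} := by
  -- `M = L ⊔ L'` is totally singular of dimension 4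
  have hMts : IsTS Q (Submodule.span F {a, b} ⊔ Submodule.span F {a', b'}) := by
    intro w hw
    obtain ⟨l, hl, l', hl', rfl⟩ := Submodule.mem_sup.mp hw
    have h1 : Q (l + l') = Q l + Q l' + pol (⇑Q) l l' := by
      unfold QuadraticMap.polar; ring
    rw [h1, h.Q_span hl, h'.Q_span hl', hperp l hl l' hl']; ring
  have hinf : Submodule.span F {a, b} ⊓ Submodule.span F {a', b'} = ⊥ := by
    rw [eq_bot_iff]
    intro r hr
    rw [Submodule.mem_bot]
    by_contra hr0
    exact hdisj ⟨r, hr0, hr.1, hr.2⟩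
  have hfM : finrank F ↥(Submodule.span F {a, b} ⊔ Submodule.span F {a', b'}) = 4 := by
    have := Submodule.finrank_sup_add_finrank_inf_eq (Submodule.span F {a, b})
      (Submodule.span F {a', b'})
    rw [hinf, finrank_bot, h.finrank_span, h'.finrank_span] at this
    omega
  have hMperp : perp Q (Submodule.span F {a, b} ⊔ Submodule.span F {a', b'}) =
      Submodule.span F {a, b} ⊔ Submodule.span F {a', b'} :=
    hMts.perp_eq_self hQ (by rw [h8]) hfM
  rcases hL with hLp | hLm
  · rcases hL' with hL'p | hL'm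
    · -- perpendicular to both: `K ≤ M^⊥ = M`
      intro x hx
      rw [← hMperp, mem_perp]
      intro w hw
      obtain ⟨l, hl, l', hl', rfl⟩ := Submodule.mem_sup.mp hw
      rw [QuadraticMap.polar_add_left, QuadraticMap.polar_comm, hLp x hx l hl,
        QuadraticMap.polar_comm, hL'p x hx l' hl', add_zero]
    · exact star_ms_core h h' hperp hdisj hk hMperp hLp hL'm hN
  · rcases hL' with hL'p | hL'm
    · -- the mirror image
      have hdisj' : ¬ LMeet (Submodule.span F {a', b'}) (Submodule.span F {a, b}) :=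
        fun hm => hdisj hm.symm
      have hMperp' : perp Q (Submodule.span F {a', b'} ⊔ Submodule.span F {a, b}) =
          Submodule.span F {a', b'} ⊔ Submodule.span F {a, b} := by
        rw [sup_comm]; exact hMperp
      have := star_ms_core h' h hperp.symm hdisj' hk hMperp' hL'p hLm
        (fun j₁ j₂ hj c1 c2 => hN j₁ j₂ hj c2 c1)
      rwa [sup_comm] at this
    · exact span_pair_le_sup hdisj hLm hL'm

end Cfsg.Agent.Lib.Helper45.Tri
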