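import Mathlib
import Cfsg.Agent.Lib.Helper36.Tri.StarDefs
import Cfsg.Agent.Lib.Helper36.Tri.TauGrp
import Cfsg.Agent.Lib.Helper36.AutO.Transfer2
import Cfsg.Agent.Lib.Helper39.TriGA
import Cfsg.Agent.Lib.Helper45.TriGB
import Cfsg.Agent.Lib.Helper13.TriOrb2

/-!
# TRI8 module [U-B] (helper45): the star of two perpendicular disjoint root groups is `UMb` of the
totally singular 4-space they span
-/

set_option autoImplicit false

namespace Cfsg.Agent.Lib.Helper45.Tri

open Cfsg.Agent.Lib.Helper13 hiding isoGroup mem_isoGroup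
open Cfsg.Agent.Lib.Helper36 Cfsg.Agent.Lib.Helper44 Cfsg.Agent.Lib.Helper36.AutO
  Cfsg.Agent.Lib.Helper36.Tri Module

variable {F V : Type*} [Field F] [AddCommGroup V] [Module F V]

local notation "pol" => QuadraticMap.polar

/-- two subspaces of a totally singular subspace are perpendicular -/
theorem lperp_of_le_ts {Q : QuadraticForm F V} {T K L : Submodule F V} (hT : IsTS Q T) (hK : K ≤ T)
    (hL : L ≤ T) : LPerp Q K L := by
  intro x hx y hy
  unfold QuadraticMap.polar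
  rw [hT _ (T.add_mem (hK hx) (hL hy)), hT _ (hK hx), hT _ (hL hy)]; ring

/-- the sum of two perpendicular totally singular lines is totally singular -/
theorem isTS_sup_lines {Q : QuadraticForm F V} {a b a' b' : V} (h : IsLine Q a b)
    (h' : IsLine Q a' b')
    (hperp : LPerp Q (Submodule.span F {a, b}) (Submodule.span F {a', b'})) :
    IsTS Q (Submodule.span F {a, b} ⊔ Submodule.span F {a', b'}) := by
  intro w hw
  obtain ⟨l, hl, l', hl', rfl⟩ := Submodule.mem_sup.mp hw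
  have h1 : Q (l + l') = Q l + Q l' + pol (⇑Q) l l' := by
    unfold QuadraticMap.polar; ring
  rw [h1, h.Q_span hl, h'.Q_span hl', hperp l hl l' hl']; ring

variable {Q : QuadraticForm F V} {Γ : Type*} [Group Γ] (M : OModel Q Γ)
variable [Finite F] [FiniteDimensional F V] (hQ : (QuadraticMap.polarBilin Q).Nondegenerate)
  (ch : ℕ) [hch : Fact ch.Prime] [hchar : CharP F ch]

include M hQ ch hch hchar

/-- MODULE [U-B] -/
theorem gstar_eq_UMb [Finite Γ] (h8 : finrank F V = 8) {a b a' b' : V} (h : IsLine Q a b)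
    (h' : IsLine Q a' b')
    (hperp : LPerp Q (Submodule.span F {a, b}) (Submodule.span F {a', b'}))
    (hdisj : ¬ LMeet (Submodule.span F {a, b}) (Submodule.span F {a', b'})) :
    gstar ch (M.Xb a b) (M.Xb a' b') =
      UMb M (Submodule.span F {a, b} ⊔ Submodule.span F {a', b'}) := by
  have h7 : 7 ≤ finrank F V := by omega
  have hTts : IsTS Q (Submodule.span F {a, b} ⊔ Submodule.span F {a', b'}) :=
    isTS_sup_lines h h' hperp
  apply le_antisymm
  · unfold gstar
    rw [Subgroup.closure_le]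
    rintro x ⟨R, hR, hc1, hc2, hcJ, hxR⟩
    obtain ⟨k₁, k₂, hk, rfl⟩ := (M.isRoot_iff hQ h7 ch R).1 hR
    have hL : LComm Q (Submodule.span F {k₁, k₂}) (Submodule.span F {a, b}) :=
      (M.comm_iff hQ h7 ch hk h).1 hc1
    have hL' : LComm Q (Submodule.span F {k₁, k₂}) (Submodule.span F {a', b'}) :=
      (M.comm_iff hQ h7 ch hk h').1 hc2
    have hN : ∀ j₁ j₂ : V, IsLine Q j₁ j₂ →
        LColl Q (Submodule.span F {j₁, j₂}) (Submodule.span F {a, b}) →
        LColl Q (Submodule.span F {j₁, j₂}) (Submodule.span F {a', b'}) →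
        LComm Q (Submodule.span F {k₁, k₂}) (Submodule.span F {j₁, j₂}) := by
      intro j₁ j₂ hj c1 c2
      have hJ : GP.IsRoot ch (M.Xb j₁ j₂) := (M.isRoot_iff hQ h7 ch _).2 ⟨j₁, j₂, hj, rfl⟩
      have hJ1 : GP.Coll ch (M.Xb j₁ j₂) (M.Xb a b) := (M.coll_iff hQ h7 ch hj h).2 c1
      have hJ2 : GP.Coll ch (M.Xb j₁ j₂) (M.Xb a' b') := (M.coll_iff hQ h7 ch hj h').2 c2
      exact (M.comm_iff hQ h7 ch hk hj).1 (hcJ _ hJ hJ1 hJ2)
    have hle := star_ms hQ h8 h h' hperp hdisj hk hL hL' hN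
    exact Subgroup.subset_closure ⟨k₁, k₂, hk, hle, hxR⟩
  · unfold UMb
    rw [Subgroup.closure_le]
    rintro x ⟨p, w, hpw, hle, hx⟩
    apply Subgroup.subset_closure
    refine ⟨M.Xb p w, (M.isRoot_iff hQ h7 ch _).2 ⟨p, w, hpw, rfl⟩, ?_, ?_, ?_, hx⟩
    · exact (M.comm_iff hQ h7 ch hpw h).2 (Or.inl (lperp_of_le_ts hTts hle le_sup_left))
    · exact (M.comm_iff hQ h7 ch hpw h').2 (Or.inl (lperp_of_le_ts hTts hle le_sup_right))
    · intro J hJ hJ1 hJ2
      obtain ⟨j₁, j₂, hj, rfl⟩ := (M.isRoot_iff hQ h7 ch J).1 hJ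
      have c1 := (M.coll_iff hQ h7 ch hj h).1 hJ1
      have c2 := (M.coll_iff hQ h7 ch hj h').1 hJ2
      have hjle := nbr_ms h h' hdisj hj c1 c2
      exact (M.comm_iff hQ h7 ch hpw hj).2 (Or.inl (lperp_of_le_ts hTts hle hjle))

end Cfsg.Agent.Lib.Helper45.Tri
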