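import Mathlib

/-!
# SUZ2-[SEP] (helper45, sheet of helper85): separating Galois-inequivalent roots of unity by a
polynomial with coefficients in the prime field of a finite field of characteristic two.

Proof: `Q = ∏_{i ≠ i₀} ∏_{k < n} (X - μ_i^(2^k))` is Frobenius-invariant, vanishes at `μ_i` (`i ≠ i₀`) and not
at `μ_{i₀}`; `Q^(q-1)` takes the values `0` / `1`; its coefficients are `0` or `1`; reduce exponents mod `m`.
-/

set_option autoImplicit false
set_option linter.unusedSectionVars false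

namespace Cfsg.Agent.Lib.Helper45.Suz2

open Polynomial

variable {F : Type*} [Field F] [Fintype F]

/-- `∏_{k < n} (X - x^(2^k))` -/
noncomputable def conjPoly (n : ℕ) (x : F) : F[X] :=
  ∏ k ∈ Finset.range n, (X - C (x ^ (2 ^ k)))

theorem conjPoly_map [CharP F 2] (n : ℕ) (hn : ∀ x : F, x ^ (2 ^ n) = x) (x : F) :
    (conjPoly n x).map (frobenius F 2) = conjPoly n x := by
  unfold conjPoly
  rw [Polynomial.map_prod]
  have hsq : ∀ k : ℕ, (x ^ (2 ^ k)) ^ 2 = x ^ (2 ^ (k + 1)) := by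
    intro k; rw [← pow_mul, ← pow_succ]
  simp only [Polynomial.map_sub, Polynomial.map_X, Polynomial.map_C, frobenius_def, hsq]
  have h1 := Finset.prod_range_succ' (fun k : ℕ => (X - C (x ^ (2 ^ k)) : F[X])) n
  have h2 := Finset.prod_range_succ (fun k : ℕ => (X - C (x ^ (2 ^ k)) : F[X])) n
  have h3 : (X - C (x ^ (2 ^ n)) : F[X]) = X - C (x ^ (2 ^ 0)) := by
    rw [hn x, pow_zero, pow_one]
  have h4 : (X - C (x ^ (2 ^ 0)) : F[X]) ≠ 0 := X_sub_C_ne_zero _
  refine mul_right_cancel₀ h4 ?_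
  rw [← h1, h2, h3]

theorem conjPoly_eval (n : ℕ) (x y : F) :
    (conjPoly n x).eval y = ∏ k ∈ Finset.range n, (y - x ^ (2 ^ k)) := by
  unfold conjPoly
  rw [Polynomial.eval_prod]
  simp

/-- a polynomial fixed by the Frobenius twist has coefficients `0` or `1` -/
theorem coeff_zero_or_one [CharP F 2] (D : F[X]) (hD : D.map (frobenius F 2) = D) (l : ℕ) :
    D.coeff l = 0 ∨ D.coeff l = 1 := by
  have h := congrArg (fun p : F[X] => p.coeff l) hD
  simp only [Polynomial.coeff_map, frobenius_def] at h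
  have h' : D.coeff l * (D.coeff l - 1) = 0 := by
    have : D.coeff l * (D.coeff l - 1) = D.coeff l ^ 2 - D.coeff l := by ring
    rw [this, h, sub_self]
  rcases mul_eq_zero.mp h' with h0 | h1
  · exact Or.inl h0
  · exact Or.inr (sub_eq_zero.mp h1)

/-- [SEP] -/
theorem exists_sep [CharP F 2] {ι : Type*} [Fintype ι] [DecidableEq ι] (μ : ι → F) (m : ℕ)
    (hm : Odd m) (hpow : ∀ i, μ i ^ m = 1)
    (hnc : ∀ i i', i ≠ i' → ∀ k : ℕ, μ i ^ (2 ^ k) ≠ μ i') (i₀ : ι) :
    ∃ d : ℕ → ℕ, ∀ i, ∑ j ∈ Finset.range m, (d j : F) * μ i ^ j = if i = i₀ then 1 else 0 := by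
  classical
  obtain ⟨n, -, hcard⟩ := FiniteField.card F 2
  have hn : ∀ x : F, x ^ (2 ^ (n : ℕ)) = x := by
    intro x
    rw [← hcard]
    exact FiniteField.pow_card x
  have hn0 : (n : ℕ) ≠ 0 := n.ne_zero
  have hq : 1 < Fintype.card F := Fintype.one_lt_card
  set Q : F[X] := ∏ i ∈ Finset.univ.erase i₀, conjPoly (n : ℕ) (μ i) with hQ
  have hQmap : Q.map (frobenius F 2) = Q := by
    rw [hQ, Polynomial.map_prod]
    exact Finset.prod_congr rfl (fun i _ => conjPoly_map (n : ℕ) hn (μ i))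
  set D : F[X] := Q ^ (Fintype.card F - 1) with hD
  have hDmap : D.map (frobenius F 2) = D := by
    rw [hD, Polynomial.map_pow, hQmap]
  -- values of Q
  have hQ0 : ∀ i, i ≠ i₀ → Q.eval (μ i) = 0 := by
    intro i hi
    rw [hQ, Polynomial.eval_prod]
    refine Finset.prod_eq_zero (Finset.mem_erase.mpr ⟨hi, Finset.mem_univ i⟩) ?_
    rw [conjPoly_eval]
    refine Finset.prod_eq_zero (Finset.mem_range.mpr (Nat.pos_of_ne_zero hn0)) ?_
    rw [pow_zero, pow_one, sub_self]
  have hQ1 : Q.eval (μ i₀) ≠ 0 := by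
    rw [hQ, Polynomial.eval_prod]
    refine Finset.prod_ne_zero_iff.mpr ?_
    intro i hi
    rw [conjPoly_eval]
    refine Finset.prod_ne_zero_iff.mpr ?_
    intro k _
    have := hnc i i₀ (Finset.mem_erase.mp hi).1 k
    exact sub_ne_zero.mpr (fun h => this h.symm)
  have hDval : ∀ i, D.eval (μ i) = if i = i₀ then 1 else 0 := by
    intro i
    rw [hD, Polynomial.eval_pow]
    by_cases hi : i = i₀
    · subst hi
      rw [if_pos rfl]
      exact FiniteField.pow_card_sub_one_eq_one _ hQ1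
    · rw [if_neg hi, hQ0 i hi]
      exact zero_pow (by omega)
  -- the 0/1 coefficients
  set a : ℕ → ℕ := fun l => if D.coeff l = 0 then 0 else 1 with ha
  have haF : ∀ l, (a l : F) = D.coeff l := by
    intro l
    rcases coeff_zero_or_one D hDmap l with h0 | h1
    · simp [ha, h0]
    · simp [ha, h1]
  have hm0 : 0 < m := hm.pos
  refine ⟨fun j => ∑ l ∈ (Finset.range (D.natDegree + 1)).filter (fun l => l % m = j), a l, ?_⟩
  intro i
  rw [← hDval i, Polynomial.eval_eq_sum_range]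
  have hmaps : ∀ l ∈ Finset.range (D.natDegree + 1), l % m ∈ Finset.range m :=
    fun l _ => Finset.mem_range.mpr (Nat.mod_lt l hm0)
  rw [← Finset.sum_fiberwise_of_maps_to hmaps]
  refine Finset.sum_congr rfl ?_
  intro j _
  push_cast
  rw [Finset.sum_mul]
  refine Finset.sum_congr rfl ?_
  intro l hl
  have hlj : l % m = j := (Finset.mem_filter.mp hl).2
  rw [haF l]
  congr 1
  conv_rhs => rw [← Nat.div_add_mod l m, pow_add, pow_mul, hpow i, one_pow, one_mul, hlj]

end Cfsg.Agent.Lib.Helper45.Suz2
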