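/-
helper45: project ASCHOE (helper55): module ASCHOE-[E-SWAP]
`Cfsg.Agent.Lib.Helper55.Oe.tensor_swap` (exact sheet statement): swapping the two tensor factors.
-/
import Mathlib
import Cfsg.Prelude.Def_GeometricClasses
import Cfsg.Agent.Lib.Helper99.AschDefs
import Cfsg.Agent.Lib.Helper55.Oe.Defs

set_option autoImplicit false

namespace Cfsg.Agent.Lib.Helper45.OeESwap

open Cfsg Cfsg.Geo
open scoped MatrixGroups Matrix Kronecker

variable {n : ℕ} {F : Type*} [Field F]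

theorem coe_glReindex' {ι κ : Type} [Fintype ι] [DecidableEq ι] [Fintype κ] [DecidableEq κ] (e : κ ≃ ι)
    (g : GL κ F) :
    ((glReindex e g : GL ι F) : Matrix ι ι F) = Matrix.reindex e e (g : Matrix κ κ F) := rfl

/-- one inclusion between the two tensor-product subgroups -/
theorem tensorProductSubgroup_le_swap (n₁ n₂ : ℕ) (e : Fin n ≃ Fin n₁ × Fin n₂) (P : GL (Fin n) F) :
    tensorProductSubgroup n₁ n₂ e P ≤
      tensorProductSubgroup n₂ n₁ (e.trans (Equiv.prodComm (Fin n₁) (Fin n₂))) P := by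
  rintro _ ⟨_, ⟨k, ⟨a, b, hk⟩, rfl⟩, rfl⟩
  refine ⟨_, ⟨glReindex (Equiv.prodComm (Fin n₁) (Fin n₂)) k, ⟨b, a, ?_⟩, rfl⟩, ?_⟩
  · rw [coe_glReindex', hk]
    ext i j
    simp [Matrix.kroneckerMap_apply, mul_comm]
  · have h1 : (glReindex (e.trans (Equiv.prodComm (Fin n₁) (Fin n₂))).symm).toMonoidHom
        (glReindex (Equiv.prodComm (Fin n₁) (Fin n₂)) k) = (glReindex e.symm).toMonoidHom k := by
      apply Units.ext
      change ((glReindex (e.trans (Equiv.prodComm (Fin n₁) (Fin n₂))).symm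
        (glReindex (Equiv.prodComm (Fin n₁) (Fin n₂)) k) : GL (Fin n) F) : Matrix (Fin n) (Fin n) F) =
        ((glReindex e.symm k : GL (Fin n) F) : Matrix (Fin n) (Fin n) F)
      rw [coe_glReindex', coe_glReindex', coe_glReindex']
      ext i j
      simp
    rw [h1]

end Cfsg.Agent.Lib.Helper45.OeESwap

namespace Cfsg.Agent.Lib.Helper55.Oe

open Cfsg Cfsg.Geo Cfsg.Agent.Lib.Helper99.Asch
open scoped MatrixGroups Matrix Kronecker

variable {n : ℕ} {F : Type*} [Field F] [Fintype F]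

/-- ASCHOE-[E-SWAP] (exact sheet statement) -/
theorem tensor_swap (f : (Fin n → F) → (Fin n → F) → F) (n₁ n₂ : ℕ) (e : Fin n ≃ Fin n₁ × Fin n₂)
    (P : GL (Fin n) F) (f₁ : (Fin n₁ → F) → (Fin n₁ → F) → F) (f₂ : (Fin n₂ → F) → (Fin n₂ → F) → F)
    (hT : IsTensorFormStructure id f f₁ f₂ e P) :
    IsTensorFormStructure id f f₂ f₁ (e.trans (Equiv.prodComm (Fin n₁) (Fin n₂))) P ∧
    tensorProductSubgroup n₁ n₂ e P =
      tensorProductSubgroup n₂ n₁ (e.trans (Equiv.prodComm (Fin n₁) (Fin n₂))) P ∧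
    ∀ (x₁ : Fin n₁ → F) (x₂ : Fin n₂ → F),
      ((fun a : Fin n₂ × Fin n₁ => x₂ a.1 * x₁ a.2) ∘ (e.trans (Equiv.prodComm (Fin n₁) (Fin n₂)))) =
      ((fun a : Fin n₁ × Fin n₂ => x₁ a.1 * x₂ a.2) ∘ e) := by
  refine ⟨?_, ?_, ?_⟩
  · obtain ⟨c, hc, h⟩ := hT
    refine ⟨c, hc, fun x y => ?_⟩
    have h1 := h (x ∘ Equiv.prodComm (Fin n₁) (Fin n₂)) (y ∘ Equiv.prodComm (Fin n₁) (Fin n₂))
    have hx : x ∘ (e.trans (Equiv.prodComm (Fin n₁) (Fin n₂))) =
        (x ∘ Equiv.prodComm (Fin n₁) (Fin n₂)) ∘ e := rfl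
    have hy : y ∘ (e.trans (Equiv.prodComm (Fin n₁) (Fin n₂))) =
        (y ∘ Equiv.prodComm (Fin n₁) (Fin n₂)) ∘ e := rfl
    rw [hx, hy, h1]
    congr 1
    unfold formOfGram
    rw [← Equiv.sum_comp (Equiv.prodComm (Fin n₁) (Fin n₂))]
    refine Finset.sum_congr rfl fun p _ => ?_
    rw [← Equiv.sum_comp (Equiv.prodComm (Fin n₁) (Fin n₂))]
    refine Finset.sum_congr rfl fun p' _ => ?_
    simp [Matrix.kroneckerMap_apply, mul_comm]
  · apply le_antisymm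
    · exact Cfsg.Agent.Lib.Helper45.OeESwap.tensorProductSubgroup_le_swap n₁ n₂ e P
    · have h1 := Cfsg.Agent.Lib.Helper45.OeESwap.tensorProductSubgroup_le_swap n₂ n₁
        (e.trans (Equiv.prodComm (Fin n₁) (Fin n₂))) P
      have h3 : (e.trans (Equiv.prodComm (Fin n₁) (Fin n₂))).trans (Equiv.prodComm (Fin n₂) (Fin n₁)) = e := by
        ext i <;> simp
      rw [h3] at h1
      exact h1
  · intro x₁ x₂
    funext i
    simp [mul_comm]

end Cfsg.Agent.Lib.Helper55.Oe
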