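import Cfsg.Agent.Lib.Helper44.O7.Defs
import Cfsg.Agent.Lib.Helper36.OmegaTransMatrix
import Cfsg.Agent.Lib.Helper53.SquarePairing

/-!
# S2647 module [CONJ] (helper45): `diag(-1,-1,1,1,1,1,1)` is conjugate in `Ω₇` to the permutation
matrix of `(0 1)(2 3)`
-/

set_option autoImplicit false

namespace Cfsg.Agent.Lib.Helper45.O7
open Matrix Cfsg.Agent.Lib.Helper44 Cfsg.Agent.Lib.Helper44.O7

variable {F : Type*} [Field F]

theorem polar_wss (c : F) (x y : Fin 7 → F) :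
    QuadraticMap.polar (⇑(wssF (cw c))) x y = 2 * c * ∑ i, x i * y i := by
  unfold QuadraticMap.polar
  rw [wssF_apply, wssF_apply, wssF_apply, ← Finset.sum_sub_distrib, ← Finset.sum_sub_distrib,
    Finset.mul_sum]
  apply Finset.sum_congr rfl
  intro i _
  simp only [cw, Pi.add_apply]
  ring

theorem iso_mulVec (c : F) (g : ↥(OG c)) (v : Fin 7 → F) :
    wssF (cw c) (((g : GL (Fin 7) F) : Matrix (Fin 7) (Fin 7) F).mulVec v) = wssF (cw c) v :=
  g.2 v v

theorem polar_mulVec (c : F) (g : ↥(OG c)) (x y : Fin 7 → F) :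
    QuadraticMap.polar (⇑(wssF (cw c)))
      (((g : GL (Fin 7) F) : Matrix (Fin 7) (Fin 7) F).mulVec x)
      (((g : GL (Fin 7) F) : Matrix (Fin 7) (Fin 7) F).mulVec y) =
    QuadraticMap.polar (⇑(wssF (cw c))) x y := by
  unfold QuadraticMap.polar
  rw [← Matrix.mulVec_add, iso_mulVec, iso_mulVec, iso_mulVec]

theorem inv_mulVec_mulVec (c : F) (g : ↥(OG c)) (v : Fin 7 → F) :
    (((g⁻¹ : ↥(OG c)) : GL (Fin 7) F) : Matrix (Fin 7) (Fin 7) F).mulVec
      (((g : GL (Fin 7) F) : Matrix (Fin 7) (Fin 7) F).mulVec v) = v := by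
  rw [← mul_mulVec, inv_mul_cancel, one_mulVec']

theorem mulVec_inv_mulVec (c : F) (g : ↥(OG c)) (v : Fin 7 → F) :
    ((g : GL (Fin 7) F) : Matrix (Fin 7) (Fin 7) F).mulVec
      ((((g⁻¹ : ↥(OG c)) : GL (Fin 7) F) : Matrix (Fin 7) (Fin 7) F).mulVec v) = v := by
  rw [← mul_mulVec, mul_inv_cancel, one_mulVec']

/-- the plane `⟨e₀, e₁⟩`. -/
def planeU (F : Type*) [Field F] : Submodule F (Fin 7 → F) where
  carrier := {v | ∀ k : Fin 7, k ≠ 0 → k ≠ 1 → v k = 0}
  add_mem' := by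
    intro x y hx hy k h0 h1
    rw [Pi.add_apply, hx k h0 h1, hy k h0 h1, add_zero]
  zero_mem' := fun _ _ _ => rfl
  smul_mem' := by
    intro a x hx k h0 h1
    rw [Pi.smul_apply, hx k h0 h1, smul_zero]

theorem mem_planeU {v : Fin 7 → F} : v ∈ planeU F ↔ ∀ k : Fin 7, k ≠ 0 → k ≠ 1 → v k = 0 := Iff.rfl

theorem single_zero_mem : (Pi.single 0 1 : Fin 7 → F) ∈ planeU F := by
  intro k h0 _
  exact Pi.single_eq_of_ne h0 _

theorem single_one_mem : (Pi.single 1 1 : Fin 7 → F) ∈ planeU F := by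
  intro k _ h1
  exact Pi.single_eq_of_ne h1 _

/-- the first image vector `a (e₀ - e₁) + b (e₂ - e₃)`. -/
def vec1 (a b : F) : Fin 7 → F := ![a, -a, b, -b, 0, 0, 0]
/-- the second image vector `-b (e₀ - e₁) + a (e₂ - e₃)`. -/
def vec2 (a b : F) : Fin 7 → F := ![-b, b, a, -a, 0, 0, 0]

/-- the linear map `v ↦ v₀ u₁ + v₁ u₂`. -/
def phiMap (a b : F) : (Fin 7 → F) →ₗ[F] (Fin 7 → F) :=
  (LinearMap.proj (R := F) (φ := fun _ : Fin 7 => F) 0).smulRight (vec1 a b) +
    (LinearMap.proj (R := F) (φ := fun _ : Fin 7 => F) 1).smulRight (vec2 a b)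

theorem phiMap_apply (a b : F) (v : Fin 7 → F) :
    phiMap a b v = v 0 • vec1 a b + v 1 • vec2 a b := rfl

theorem sum_vec1_vec1 (a b : F) : ∑ i, vec1 a b i * vec1 a b i = 2 * (a ^ 2 + b ^ 2) := by
  simp [Fin.sum_univ_succ, vec1]; ring

theorem sum_vec2_vec2 (a b : F) : ∑ i, vec2 a b i * vec2 a b i = 2 * (a ^ 2 + b ^ 2) := by
  simp [Fin.sum_univ_succ, vec2]; ring

theorem sum_vec1_vec2 (a b : F) : ∑ i, vec1 a b i * vec2 a b i = 0 := by
  simp [Fin.sum_univ_succ, vec1, vec2]; ring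

theorem sum_vec1_mul (a b : F) (z : Fin 7 → F) :
    ∑ i, vec1 a b i * z i = a * (z 0 - z 1) + b * (z 2 - z 3) := by
  simp [Fin.sum_univ_succ, vec1]; ring

theorem sum_vec2_mul (a b : F) (z : Fin 7 → F) :
    ∑ i, vec2 a b i * z i = -b * (z 0 - z 1) + a * (z 2 - z 3) := by
  simp [Fin.sum_univ_succ, vec2]; ring

theorem sum_mul_phi (a b : F) (x v : Fin 7 → F) :
    ∑ i, x i * phiMap a b v i = v 0 * ∑ i, x i * vec1 a b i + v 1 * ∑ i, x i * vec2 a b i := by
  rw [Finset.mul_sum, Finset.mul_sum, ← Finset.sum_add_distrib]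
  apply Finset.sum_congr rfl
  intro i _
  rw [phiMap_apply]
  simp only [Pi.add_apply, Pi.smul_apply, smul_eq_mul]
  ring

theorem sum_vec1_phi (a b : F) (hab : 2 * (a ^ 2 + b ^ 2) = 1) (v : Fin 7 → F) :
    ∑ i, vec1 a b i * phiMap a b v i = v 0 := by
  rw [sum_mul_phi, sum_vec1_vec1, sum_vec1_vec2, hab]; ring

theorem sum_vec2_phi (a b : F) (hab : 2 * (a ^ 2 + b ^ 2) = 1) (v : Fin 7 → F) :
    ∑ i, vec2 a b i * phiMap a b v i = v 1 := by
  have h : ∑ i, vec2 a b i * vec1 a b i = 0 := by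
    rw [← sum_vec1_vec2 a b]
    exact Finset.sum_congr rfl (fun i _ => mul_comm _ _)
  rw [sum_mul_phi, sum_vec2_vec2, h, hab]; ring

theorem sum_phi_phi (a b : F) (hab : 2 * (a ^ 2 + b ^ 2) = 1) (u v : Fin 7 → F) :
    ∑ i, phiMap a b u i * phiMap a b v i = u 0 * v 0 + u 1 * v 1 := by
  have h1 : ∑ i, phiMap a b u i * vec1 a b i = u 0 := by
    rw [← sum_vec1_phi a b hab u]
    exact Finset.sum_congr rfl (fun i _ => mul_comm _ _)
  have h3 : ∑ i, phiMap a b u i * vec2 a b i = u 1 := by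
    rw [← sum_vec2_phi a b hab u]
    exact Finset.sum_congr rfl (fun i _ => mul_comm _ _)
  rw [sum_mul_phi, h1, h3]; ring

theorem sum_planeU {u : Fin 7 → F} (hu : u ∈ planeU F) (z : Fin 7 → F) :
    ∑ i, u i * z i = u 0 * z 0 + u 1 * z 1 := by
  have e2 : u 2 = 0 := hu 2 (by decide) (by decide)
  have e3 : u 3 = 0 := hu 3 (by decide) (by decide)
  have e4 : u 4 = 0 := hu 4 (by decide) (by decide)
  have e5 : u 5 = 0 := hu 5 (by decide) (by decide)
  have e6 : u 6 = 0 := hu 6 (by decide) (by decide)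
  simp [Fin.sum_univ_succ]
  rw [e2, e3, e4, e5, e6]; ring

theorem tP_inv_apply (k : Fin 7) : tP⁻¹ k = ![1, 0, 3, 2, 4, 5, 6] k := rfl

theorem tP_mulVec (c : F) (v : Fin 7 → F) :
    ((mon c 1 tP : GL (Fin 7) F) : Matrix (Fin 7) (Fin 7) F).mulVec v =
      ![v 1, v 0, v 3, v 2, v 4, v 5, v 6] := by
  rw [mon_mulVec]
  funext k
  rw [tP_inv_apply]
  fin_cases k <;> simp

theorem d01_mulVec (c : F) (v : Fin 7 → F) :
    ((mon c d01 1 : GL (Fin 7) F) : Matrix (Fin 7) (Fin 7) F).mulVec v =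
      ![-v 0, -v 1, v 2, v 3, v 4, v 5, v 6] := by
  rw [mon_eq_dsign, dsign_mulVec]
  funext k
  fin_cases k <;> simp [d01]

theorem d01_mulVec_neg (c : F) {u : Fin 7 → F} (hu : u ∈ planeU F) :
    ((mon c d01 1 : GL (Fin 7) F) : Matrix (Fin 7) (Fin 7) F).mulVec u = -u := by
  rw [d01_mulVec]
  have e2 : u 2 = 0 := hu 2 (by decide) (by decide)
  have e3 : u 3 = 0 := hu 3 (by decide) (by decide)
  have e4 : u 4 = 0 := hu 4 (by decide) (by decide)
  have e5 : u 5 = 0 := hu 5 (by decide) (by decide)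
  have e6 : u 6 = 0 := hu 6 (by decide) (by decide)
  funext k
  fin_cases k <;> simp [e2, e3, e4, e5, e6]

theorem d01_mulVec_fix (c : F) {z : Fin 7 → F} (h0 : z 0 = 0) (h1 : z 1 = 0) :
    ((mon c d01 1 : GL (Fin 7) F) : Matrix (Fin 7) (Fin 7) F).mulVec z = z := by
  rw [d01_mulVec]
  funext k
  fin_cases k <;> simp [h0, h1]

theorem tP_mulVec_vec1 (c a b : F) :
    ((mon c 1 tP : GL (Fin 7) F) : Matrix (Fin 7) (Fin 7) F).mulVec (vec1 a b) = -vec1 a b := by
  rw [tP_mulVec]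
  funext k
  fin_cases k <;> simp [vec1]

theorem tP_mulVec_vec2 (c a b : F) :
    ((mon c 1 tP : GL (Fin 7) F) : Matrix (Fin 7) (Fin 7) F).mulVec (vec2 a b) = -vec2 a b := by
  rw [tP_mulVec]
  funext k
  fin_cases k <;> simp [vec2]

theorem tP_mulVec_fix (c : F) {z : Fin 7 → F} (h01 : z 0 = z 1) (h23 : z 2 = z 3) :
    ((mon c 1 tP : GL (Fin 7) F) : Matrix (Fin 7) (Fin 7) F).mulVec z = z := by
  rw [tP_mulVec]
  funext k
  fin_cases k <;> simp [h01, h23]

/-- **[CONJ]** -/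
theorem exists_conj_tP [Fintype F] (h2 : (2 : F) ≠ 0) (c : F) (hc : c ≠ 0) :
    ∃ g ∈ OmG c, g * mon c d01 1 * g⁻¹ = mon c 1 tP := by
  classical
  obtain ⟨a, b, hab0⟩ := Cfsg.Agent.Lib.Helper53.SL2Mult.exists_sq_add_sq ((2 : F)⁻¹)
  have hab : 2 * (a ^ 2 + b ^ 2) = 1 := by rw [hab0]; exact mul_inv_cancel₀ h2
  have hab' : a ^ 2 + b ^ 2 ≠ 0 := by
    intro h
    rw [h, mul_zero] at hab
    exact zero_ne_one hab
  have h2c : 2 * c ≠ 0 := mul_ne_zero h2 hc
  have hnd : (QuadraticMap.polarBilin (wssF (cw c))).Nondegenerate :=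
    wssF_nondeg h2 (cw c) (fun _ => hc)
  have hQsum : ∀ v : Fin 7 → F, wssF (cw c) v = c * ∑ i, v i * v i := by
    intro v
    rw [wssF_apply, Finset.mul_sum]
  -- `φ` is isometric on the plane
  have hQphi : ∀ u ∈ planeU F, wssF (cw c) (phiMap a b u) = wssF (cw c) u := by
    intro u hu
    rw [hQsum, hQsum, sum_phi_phi a b hab, sum_planeU hu]
  set W : Submodule F (Fin 7 → F) := (planeU F).map (phiMap a b) with hWdef
  have hv1W : vec1 a b ∈ W := by
    refine ⟨Pi.single 0 1, single_zero_mem, ?_⟩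
    rw [phiMap_apply]
    simp
  have hv2W : vec2 a b ∈ W := by
    refine ⟨Pi.single 1 1, single_one_mem, ?_⟩
    rw [phiMap_apply]
    simp
  -- `φ u = 0 → u = 0` on the plane
  have hphi0 : ∀ u ∈ planeU F, phiMap a b u = 0 → u = 0 := by
    intro u hu h0
    have e0 : u 0 = 0 := by
      rw [← sum_vec1_phi a b hab u, h0]; simp
    have e1 : u 1 = 0 := by
      rw [← sum_vec2_phi a b hab u, h0]; simp
    funext k
    by_cases hk0 : k = 0
    · rw [hk0]; exact e0
    · by_cases hk1 : k = 1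
      · rw [hk1]; exact e1
      · exact hu k hk0 hk1
  -- the linear equivalence
  let f : planeU F →ₗ[F] W :=
    ((phiMap a b).domRestrict (planeU F)).codRestrict W
      (fun u => Submodule.mem_map_of_mem u.2)
  have hfbij : Function.Bijective f := by
    constructor
    · rw [injective_iff_map_eq_zero]
      intro u hu
      have h1 : phiMap a b (u : Fin 7 → F) = 0 := congrArg Subtype.val hu
      exact Subtype.ext (hphi0 u u.2 h1)
    · rintro ⟨w, u, hu, rfl⟩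
      exact ⟨⟨u, hu⟩, rfl⟩
  let e : planeU F ≃ₗ[F] W := LinearEquiv.ofBijective f hfbij
  have he : ∀ u : planeU F, wssF (cw c) ((e u : W) : Fin 7 → F) = wssF (cw c) (u : Fin 7 → F) :=
    fun u => hQphi u u.2
  -- `W` is nondegenerate
  have hW : W ⊓ LinearMap.BilinForm.orthogonal (QuadraticMap.polarBilin (wssF (cw c))) W = ⊥ := by
    rw [eq_bot_iff]
    rintro w ⟨hw1, hw2⟩
    obtain ⟨u, hu, rfl⟩ := hw1
    have k1 := hw2 (vec1 a b) hv1W
    have k2 := hw2 (vec2 a b) hv2W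
    rw [QuadraticMap.polarBilin_apply_apply, polar_wss,
      sum_vec1_phi a b hab] at k1
    rw [QuadraticMap.polarBilin_apply_apply, polar_wss,
      sum_vec2_phi a b hab] at k2
    have e0 : u 0 = 0 := (mul_eq_zero.mp k1).resolve_left h2c
    have e1 : u 1 = 0 := (mul_eq_zero.mp k2).resolve_left h2c
    rw [Submodule.mem_bot, phiMap_apply, e0, e1]
    simp
  obtain ⟨g, hgΩ, hgUW⟩ := Cfsg.Agent.Lib.Helper36.exists_Omega_map_nondeg (wssF (cw c)) hnd
    (by simp) (Or.inr (by simp)) (planeU F) W hW e he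
  refine ⟨g, hgΩ, ?_⟩
  have hgmem : ∀ u ∈ planeU F,
      ((g : GL (Fin 7) F) : Matrix (Fin 7) (Fin 7) F).mulVec u ∈ W := by
    intro u hu
    rw [← hgUW]
    exact ⟨u, hu, rfl⟩
  have hrefl : (QuadraticMap.polarBilin (wssF (cw c))).IsRefl := by
    intro x y h
    rw [QuadraticMap.polarBilin_apply_apply] at h ⊢
    rw [QuadraticMap.polar_comm]; exact h
  have hcompl : W ⊔ LinearMap.BilinForm.orthogonal (QuadraticMap.polarBilin (wssF (cw c))) W = ⊤ :=
    ((LinearMap.BilinForm.isCompl_orthogonal_iff_disjoint hrefl).mpr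
      (disjoint_iff.mpr hW)).sup_eq_top
  apply ext_mulVec
  intro v
  have hv : v ∈ W ⊔ LinearMap.BilinForm.orthogonal (QuadraticMap.polarBilin (wssF (cw c))) W := by
    rw [hcompl]; exact Submodule.mem_top
  obtain ⟨w, hw, z, hz, rfl⟩ := Submodule.mem_sup.mp hv
  rw [Matrix.mulVec_add, Matrix.mulVec_add]
  congr 1
  · -- on `W` both are `-1`
    have hy : ((mon c 1 tP : GL (Fin 7) F) : Matrix (Fin 7) (Fin 7) F).mulVec w = -w := by
      obtain ⟨u, -, rfl⟩ := hw
      rw [phiMap_apply, Matrix.mulVec_add, Matrix.mulVec_smul, Matrix.mulVec_smul,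
        tP_mulVec_vec1, tP_mulVec_vec2]
      simp only [smul_neg, neg_add]
    have hx : (((g * mon c d01 1 * g⁻¹ : ↥(OG c)) : GL (Fin 7) F) :
        Matrix (Fin 7) (Fin 7) F).mulVec w = -w := by
      rw [← hgUW] at hw
      obtain ⟨u, hu, rfl⟩ := hw
      rw [Matrix.mulVecLin_apply, mul_mulVec, mul_mulVec, inv_mulVec_mulVec, d01_mulVec_neg c hu,
        Matrix.mulVec_neg]
    rw [hx, hy]
  · -- on `W⊥` both are `1`
    have k1 := hz (vec1 a b) hv1W
    have k2 := hz (vec2 a b) hv2W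
    rw [QuadraticMap.polarBilin_apply_apply, polar_wss,
      sum_vec1_mul] at k1
    rw [QuadraticMap.polarBilin_apply_apply, polar_wss,
      sum_vec2_mul] at k2
    have k1' := (mul_eq_zero.mp k1).resolve_left h2c
    have k2' := (mul_eq_zero.mp k2).resolve_left h2c
    have h01 : z 0 = z 1 := by
      have : (a ^ 2 + b ^ 2) * (z 0 - z 1) = 0 := by linear_combination a * k1' - b * k2'
      exact sub_eq_zero.mp ((mul_eq_zero.mp this).resolve_left hab')
    have h23 : z 2 = z 3 := by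
      have : (a ^ 2 + b ^ 2) * (z 2 - z 3) = 0 := by linear_combination b * k1' + a * k2'
      exact sub_eq_zero.mp ((mul_eq_zero.mp this).resolve_left hab')
    rw [tP_mulVec_fix c h01 h23]
    -- `z' = g⁻¹ z` has vanishing coordinates `0` and `1`
    set z' := (((g⁻¹ : ↥(OG c)) : GL (Fin 7) F) : Matrix (Fin 7) (Fin 7) F).mulVec z with hz'
    have hgz' : ((g : GL (Fin 7) F) : Matrix (Fin 7) (Fin 7) F).mulVec z' = z :=
      mulVec_inv_mulVec c g z
    have hcoord : ∀ i : Fin 7, (Pi.single i 1 : Fin 7 → F) ∈ planeU F → z' i = 0 := by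
      intro i hi
      have h1 := hz _ (hgmem _ hi)
      rw [QuadraticMap.polarBilin_apply_apply, ← hgz',
        polar_mulVec, wssF_polar_single] at h1
      exact (mul_eq_zero.mp h1).resolve_left h2c
    rw [mul_mulVec, mul_mulVec, ← hz', d01_mulVec_fix c (hcoord 0 single_zero_mem)
      (hcoord 1 single_one_mem), hgz']

end Cfsg.Agent.Lib.Helper45.O7
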