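/-
Helper library (helper45): embedding a finite field with `q` elements into one with `q ^ 2`
elements as a degree-two extension.
-/
import Mathlib

set_option autoImplicit false

namespace Cfsg.Agent.Lib.Helper45

/-- A field with `q` elements embeds in a field with `q ^ 2` elements, as a degree two extension:
there is an `F`-algebra structure on `K` with `Module.finrank F K = 2`. -/
theorem exists_algebra_finrank_two {K F : Type*} [Field K] [Fintype K] [Field F] [Fintype F] {q : ℕ}
    (hK : Fintype.card K = q ^ 2) (hF : Fintype.card F = q) :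
    ∃ (_ : Algebra F K), Module.finrank F K = 2 := by
  obtain ⟨p, hpF⟩ := CharP.exists F
  obtain ⟨p', hpK⟩ := CharP.exists K
  obtain ⟨n, hp, hFn⟩ := FiniteField.card F p
  obtain ⟨n', hp', hKn'⟩ := FiniteField.card K p'
  have hpp' : p = p' := by
    by_contra hne
    have h1 : (p : ℕ) ^ (2 * (n : ℕ)) = p' ^ (n' : ℕ) := by
      rw [← hKn', hK, ← hF, hFn, pow_mul']
    have hdvd : p ∣ p' ^ (n' : ℕ) := by
      rw [← h1]
      exact dvd_pow_self p (by positivity)
    have := (Nat.prime_dvd_prime_iff_eq hp hp').1 (hp.dvd_of_dvd_pow hdvd)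
    exact hne this
  subst hpp'
  have : Fact p.Prime := fact_iff.2 hp
  let _ : Algebra (ZMod p) F := ZMod.algebra _ _
  let _ : Algebra (ZMod p) K := ZMod.algebra _ _
  have hfF : p ^ Module.finrank (ZMod p) F = q := by
    rw [FiniteField.pow_finrank_eq_card, hF]
  have hfK : p ^ Module.finrank (ZMod p) K = q ^ 2 := by
    rw [FiniteField.pow_finrank_eq_card, hK]
  have hdvd : Module.finrank (ZMod p) F ∣ Module.finrank (ZMod p) K := by
    have : p ^ Module.finrank (ZMod p) K = p ^ (2 * Module.finrank (ZMod p) F) := by
      rw [hfK, ← hfF, pow_mul']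
    have := Nat.pow_right_injective hp.two_le this
    rw [this]
    exact dvd_mul_left _ _
  obtain ⟨f⟩ := FiniteField.nonempty_algHom_of_finrank_dvd hdvd
  let alg : Algebra F K := f.toRingHom.toAlgebra
  refine ⟨alg, ?_⟩
  have hcard := Module.card_eq_pow_finrank (K := F) (V := K)
  rw [hK, hF] at hcard
  have hq : 2 ≤ q := by
    rw [← hF]; exact Fintype.one_lt_card
  exact (Nat.pow_right_injective hq hcard).symm

end Cfsg.Agent.Lib.Helper45
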