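import Cfsg.Agent.Lib.Helper44.O7.Defs

/-!
# S2647 module [MONORM] (helper45): an isometry normalizing the diagonal group `E0` is monomial
-/

set_option autoImplicit false

namespace Cfsg.Agent.Lib.Helper45.O7
open Matrix Cfsg.Agent.Lib.Helper44 Cfsg.Agent.Lib.Helper44.O7

variable {F : Type*} [Field F]

/-- the sign vector with `-1` exactly at the two positions `j ≠ l`. -/
def twoSign (j l : Fin 7) : Fin 7 → ℤˣ := fun k => if k = j ∨ k = l then -1 else 1

theorem twoSign_mem {j l : Fin 7} (hjl : j ≠ l) : twoSign j l ∈ evenSign := by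
  rw [mem_evenSign]
  have h1 : ∏ k, twoSign j l k = ∏ k ∈ ({j, l} : Finset (Fin 7)), (-1 : ℤˣ) := by
    rw [← Finset.prod_subset (Finset.subset_univ ({j, l} : Finset (Fin 7)))]
    · apply Finset.prod_congr rfl
      intro k hk
      have : k = j ∨ k = l := by simpa using hk
      simp [twoSign, this]
    · intro k _ hk
      have : ¬ (k = j ∨ k = l) := by simpa using hk
      simp [twoSign, this]
  rw [h1, Finset.prod_const, Finset.card_pair hjl]
  rfl

theorem exists_third (j k : Fin 7) : ∃ l : Fin 7, l ≠ j ∧ l ≠ k := by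
  revert j k
  decide

/-- **[MONORM]** -/
theorem monomial_of_normalizes_E0 (h2 : (2 : F) ≠ 0) (c : F) (hc : c ≠ 0) (g : ↥(OG c))
    (hg : ∀ x ∈ E0 c, g⁻¹ * x * g ∈ E0 c) :
    ∃ (ε : Fin 7 → ℤˣ) (σ : Equiv.Perm (Fin 7)), g = mon c ε σ := by
  classical
  set M : Matrix (Fin 7) (Fin 7) F := ((g : GL (Fin 7) F) : Matrix (Fin 7) (Fin 7) F) with hM
  have hne1 : (-1 : F) ≠ 1 := by
    intro h
    apply h2
    have : (2 : F) = 1 - (-1) := by ring
    rw [this, h]; ring
  have hsgn : ∀ e : ℤˣ, ((e : ℤ) : F) = 1 ∨ ((e : ℤ) : F) = -1 := by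
    intro e
    rcases Int.units_eq_one_or e with rfl | rfl <;> simp
  -- injectivity of `M.mulVec`
  have hMinj : ∀ v : Fin 7 → F, M.mulVec v = 0 → v = 0 := by
    intro v hv
    have h1 : ((g : GL (Fin 7) F)⁻¹ : GL (Fin 7) F).1.mulVec (M.mulVec v) = v := by
      rw [Matrix.mulVec_mulVec]
      have : ((g : GL (Fin 7) F)⁻¹ : GL (Fin 7) F).1 * M = 1 := by
        rw [hM]
        exact (g : GL (Fin 7) F).inv_val
      rw [this, Matrix.one_mulVec]
    rw [hv, Matrix.mulVec_zero] at h1
    exact h1.symm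
  -- the eigenvector property
  have heig : ∀ ε ∈ evenSign, ∀ i : Fin 7, ∃ e : ℤˣ, ∀ k,
      ((ε k : ℤ) : F) * M k i = ((e : ℤ) : F) * M k i := by
    intro ε hε i
    obtain ⟨ε', -, hε'⟩ := hg (mon c ε 1) ⟨ε, hε, rfl⟩
    have h1 : mon c ε 1 * g = g * mon c ε' 1 := by
      rw [← hε']; group
    refine ⟨ε' i, fun k => ?_⟩
    have h3 := congrArg (fun x : ↥(OG c) =>
      ((x : GL (Fin 7) F) : Matrix (Fin 7) (Fin 7) F).mulVec (Pi.single i 1) k) h1
    simp only [mul_mulVec, mon_mulVec_single] at h3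
    rw [mon_mulVec, Matrix.mulVec_smul, Matrix.mulVec_single_one] at h3
    simpa using h3
  -- each column has at most one nonzero entry
  have hsupp : ∀ i j k : Fin 7, M j i ≠ 0 → M k i ≠ 0 → j = k := by
    intro i j k hj hk
    by_contra hjk
    obtain ⟨l, hlj, hlk⟩ := exists_third j k
    obtain ⟨e, he⟩ := heig (twoSign j l) (twoSign_mem (Ne.symm hlj)) i
    have h1 := mul_right_cancel₀ hj (he j)
    have h3 := mul_right_cancel₀ hk (he k)
    have e1 : twoSign j l j = -1 := by simp [twoSign]
    have e2 : twoSign j l k = 1 := by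
      have : ¬ (k = j ∨ k = l) := by
        rintro (h | h)
        · exact hjk h.symm
        · exact hlk h.symm
      simp [twoSign, this]
    rw [e1] at h1
    rw [e2] at h3
    apply hne1
    rw [← h3] at h1
    simpa using h1
  -- each column is nonzero
  have hcol : ∀ i : Fin 7, ∃ k, M k i ≠ 0 := by
    intro i
    by_contra hcon
    push Not at hcon
    have : M.mulVec (Pi.single i 1) = 0 := by
      rw [Matrix.mulVec_single_one]
      funext k
      exact hcon k
    have h1 := hMinj _ this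
    have := congrFun h1 i
    simp at this
  choose s hs using hcol
  have hzero : ∀ i k, k ≠ s i → M k i = 0 := by
    intro i k hk
    by_contra hne
    exact hk (hsupp i k (s i) hne (hs i))
  have hcolv : ∀ i, M.mulVec (Pi.single i 1) = M (s i) i • Pi.single (s i) (1 : F) := by
    intro i
    rw [Matrix.mulVec_single_one]
    funext k
    by_cases hk : k = s i
    · subst hk; simp
    · rw [Pi.smul_apply, Pi.single_eq_of_ne hk]
      simp [hzero i k hk]
  have hsinj : Function.Injective s := by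
    intro i j hij
    by_contra hne
    have h1 : M.mulVec (M (s j) j • Pi.single i 1 - M (s i) i • Pi.single j 1) = 0 := by
      rw [Matrix.mulVec_sub, Matrix.mulVec_smul, Matrix.mulVec_smul, hcolv i, hcolv j, hij]
      rw [smul_smul, smul_smul, mul_comm, sub_self]
    have h3 := congrFun (hMinj _ h1) i
    have hne' : i ≠ j := hne
    simp [Pi.single_eq_of_ne hne'] at h3
    exact hs j h3
  have hsbij : Function.Bijective s := Finite.injective_iff_bijective.mp hsinj
  let σ : Equiv.Perm (Fin 7) := Equiv.ofBijective s hsbij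
  have hσ : ∀ i, σ i = s i := fun i => rfl
  -- the nonzero entries are `±1`
  have hlam : ∀ i, M (s i) i = 1 ∨ M (s i) i = -1 := by
    intro i
    have h1 : wssF (cw c) (M.mulVec (Pi.single i 1)) = wssF (cw c) (Pi.single i 1) :=
      g.2 (Pi.single i 1) (Pi.single i 1)
    rw [hcolv i, QuadraticMap.map_smul, wssF_single, wssF_single] at h1
    have h3 : (M (s i) i - 1) * (M (s i) i + 1) = 0 := by
      have : c * ((M (s i) i - 1) * (M (s i) i + 1)) = 0 := by
        simp only [cw, smul_eq_mul] at h1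
        linear_combination h1
      rcases mul_eq_zero.mp this with h | h
      · exact absurd h hc
      · exact h
    rcases mul_eq_zero.mp h3 with h | h
    · left; exact sub_eq_zero.mp h
    · right; exact eq_neg_of_add_eq_zero_left h
  let ε : Fin 7 → ℤˣ := fun k => if M k (σ⁻¹ k) = 1 then 1 else -1
  have hε : ∀ i, ((ε (σ i) : ℤ) : F) = M (s i) i := by
    intro i
    have h1 : σ⁻¹ (σ i) = i := p_inv_apply σ i
    show (((if M (σ i) (σ⁻¹ (σ i)) = 1 then (1 : ℤˣ) else -1 : ℤˣ) : ℤ) : F) = M (s i) i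
    rw [h1, hσ i]
    rcases hlam i with h | h
    · rw [h]; simp
    · rw [h]; simp [hne1]
  refine ⟨ε, σ, ?_⟩
  apply Subtype.ext
  apply Units.ext
  show M = _
  ext k i
  have h1 : M k i = (M.mulVec (Pi.single i 1)) k := by
    rw [Matrix.mulVec_single_one]; rfl
  have h3 : ((mon c ε σ : GL (Fin 7) F) : Matrix (Fin 7) (Fin 7) F) k i =
      (((mon c ε σ : GL (Fin 7) F) : Matrix (Fin 7) (Fin 7) F).mulVec (Pi.single i 1)) k := by
    rw [Matrix.mulVec_single_one]; rfl
  show M k i = ((mon c ε σ : GL (Fin 7) F) : Matrix (Fin 7) (Fin 7) F) k i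
  rw [h1, h3, hcolv i, mon_mulVec_single, hε i, hσ i]

end Cfsg.Agent.Lib.Helper45.O7
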