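/-
helper45: project S2751 case (B) (helper68): hedge of module GSB-[B2-K1] `b2_card_Zb` in `_of` form
(hypotheses = the stub statements of `Zb_le`, `Zb_eq_ZT`, `Za_le_Qb`, `Za_card`).

`y` of β-type, `x₁ ≠ x₂` neighbours of `y`.  `Y := Z_{x₁} ⊓ Q_{x₂}` has index `2` in `Z_{x₁}` (`Z_{x₁} ≤ Q_y ≤ T_{x₂ y}`,
`Z_{x₁} ≰ Q_{x₂}`), contains `Z_y`, and is centralized by `Q_{x₁}` and by any `a ∈ Z_{x₂} ∖ Q_{x₁}`, hence by
`T_{x₁ y} = Q_{x₁} ∪ a Q_{x₁}`: `Y ≤ Z_{x₁} ⊓ C(T_{x₁ y}) ≤ Ω₁Z(T_{x₁ y}) = Z_y`.  So `|Z_y|² = |Z_{x₁}| = 2 |Z_y|`.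
-/
import Mathlib
import Cfsg.Prelude.Def_Amalgam
import Cfsg.Agent.Lib.Helper68.AmalBDefs
import Cfsg.Agent.Lib.Helper68.AmalBTools

set_option autoImplicit false

namespace Cfsg.Agent.Lib.Helper68.AmalB

open Cfsg Cfsg.Agent.Lib.Helper12.Amal Cfsg.Agent.Lib.Helper68.AmalD Cfsg.Agent.Lib.Helper68.AmalW

variable {G : Type*} [Group G] {P₁ P₂ : Subgroup G}

/-- a subgroup `Y ≤ Z` such that `Z ∖ Y` is a single coset has index `2` -/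
theorem card_eq_two_mul_of_coset_h45 (Z Y : Subgroup G) [Finite ↥Z] (hYZ : Y ≤ Z) (a : G) (haZ : a ∈ Z)
    (haY : a ∉ Y) (h : ∀ z ∈ Z, z ∉ Y → a⁻¹ * z ∈ Y) : Nat.card ↥Z = 2 * Nat.card ↥Y := by
  have hidx : (Y.subgroupOf Z).index = 2 := by
    rw [Subgroup.index_eq_two_iff]
    refine ⟨⟨a, haZ⟩, fun b => ?_⟩
    by_cases hb : (b : G) ∈ Y
    · refine Or.inr ⟨?_, ?_⟩
      · rw [Subgroup.mem_subgroupOf]; exact hb
      · rw [Subgroup.mem_subgroupOf]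
        intro hba
        apply haY
        have : a = (b : G)⁻¹ * ((b : G) * a) := by group
        rw [this]
        exact Y.mul_mem (Y.inv_mem hb) hba
    · refine Or.inl ⟨?_, ?_⟩
      · rw [Subgroup.mem_subgroupOf]
        have h1 := h (b : G)⁻¹ (Z.inv_mem b.2) (fun hh => hb (by simpa using Y.inv_mem hh))
        have : (b : G) * a = (a⁻¹ * (b : G)⁻¹)⁻¹ := by group
        show (b : G) * a ∈ Y
        rw [this]
        exact Y.inv_mem h1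
      · rw [Subgroup.mem_subgroupOf]; exact hb
  have h1 := Subgroup.card_mul_index (Y.subgroupOf Z)
  rw [hidx] at h1
  have h2 : Nat.card ↥(Y.subgroupOf Z) = Nat.card ↥Y :=
    Nat.card_congr (Subgroup.subgroupOfEquivOfLe hYZ).toEquiv
  rw [h2] at h1
  omega

/-- **[B2-K1]** in `_of` form -/
theorem b2_card_Zb_of_h45 (hB : BaseB P₁ P₂) (hall : ∀ x y x' : CosetVertex P₁ P₂, ¬ IsB x →
      (cosetGraph P₁ P₂).Adj x y → (cosetGraph P₁ P₂).Adj y x' → x' ≠ x → ¬ Zv x' ≤ Qv x)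
    (hZbLe : ∀ x y : CosetVertex P₁ P₂, (cosetGraph P₁ P₂).Adj x y → IsB y → Zv y ≤ Zv x)
    (hZbZT : ∀ x y : CosetVertex P₁ P₂, (cosetGraph P₁ P₂).Adj x y → IsB y →
      Zv y = ZT (Gv x ⊓ Gv y))
    (hZaQb : ∀ x y : CosetVertex P₁ P₂, (cosetGraph P₁ P₂).Adj x y → IsB y → Zv x ≤ Qv y)
    (hZaCard : ∀ x l : CosetVertex P₁ P₂, ¬ IsB x → (cosetGraph P₁ P₂).Adj x l →
      Nat.card ↥(Zv x) = Nat.card ↥(Zv l) * Nat.card ↥(Zv l))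
    {y : CosetVertex P₁ P₂} (hy : IsB y) : Nat.card ↥(Zv y) = 2 := by
  have hW := hB.W
  obtain ⟨x₁, x₂, x₃, h12, _, _, hnb⟩ := Set.ncard_eq_three.1 (hW.card_nbr y)
  have a1 : (cosetGraph P₁ P₂).Adj y x₁ := by
    rw [← SimpleGraph.mem_neighborSet, hnb]; simp
  have a2 : (cosetGraph P₁ P₂).Adj y x₂ := by
    rw [← SimpleGraph.mem_neighborSet, hnb]; simp
  have hx₁ : ¬ IsB x₁ := (hB.adj_type y x₁ a1).1 hy
  have hx₂ : ¬ IsB x₂ := (hB.adj_type y x₂ a2).1 hy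
  have hfin₁ : Finite ↥(Gv x₁) := hW.fin x₁
  have hfinZ : Finite ↥(Zv x₁) :=
    Finite.of_injective (Subgroup.inclusion ((hW.Z_le_Q x₁).trans (Q_le_G hW x₁)))
      (Subgroup.inclusion_injective _)
  have hZ1Q : Zv x₁ ≤ Qv y := hZaQb x₁ y a1.symm hy
  have hZ2Q : Zv x₂ ≤ Qv y := hZaQb x₂ y a2.symm hy
  have hn12 : ¬ Zv x₁ ≤ Qv x₂ := hall x₂ y x₁ hx₂ a2.symm a1 h12
  have hn21 : ¬ Zv x₂ ≤ Qv x₁ := hall x₁ y x₂ hx₁ a1.symm a2 h12.symm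
  set Y : Subgroup G := Zv x₁ ⊓ Qv x₂ with hY
  -- index 2
  obtain ⟨a', ha'Z, ha'Q⟩ := SetLike.not_le_iff_exists.1 hn12
  have hcard2 : Nat.card ↥(Zv x₁) = 2 * Nat.card ↥Y := by
    apply card_eq_two_mul_of_coset_h45 (Zv x₁) Y inf_le_left a' ha'Z (fun hh => ha'Q hh.2)
    intro z hz hzY
    have hzQ : z ∉ Qv x₂ := fun hh => hzY ⟨hz, hh⟩
    have hT : ∀ g ∈ Zv x₁, g ∈ Gv x₂ ⊓ Gv y := fun g hg => Q_le_T' hW a2.symm (hZ1Q hg)
    exact ⟨(Zv x₁).mul_mem ((Zv x₁).inv_mem ha'Z) hz,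
      hW.mul_mem_Q x₂ y a2.symm a' z (hT a' ha'Z) ha'Q (hT z hz) hzQ⟩
  -- `Z_y ≤ Y`
  have hZyY : Zv y ≤ Y :=
    le_inf (hZbLe x₁ y a1.symm hy) ((hZbLe x₂ y a2.symm hy).trans (hW.Z_le_Q x₂))
  -- `Y ≤ Z_y`
  obtain ⟨a, haZ, haQ⟩ := SetLike.not_le_iff_exists.1 hn21
  have haT : a ∈ Gv x₁ ⊓ Gv y := Q_le_T' hW a1.symm (hZ2Q haZ)
  have hYZy : Y ≤ Zv y := by
    rw [hZbZT x₁ y a1.symm hy]
    refine le_trans ?_ (hW.Z_cent_T x₁ y a1.symm)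
    intro z hz
    refine ⟨hz.1, ?_⟩
    show z ∈ Subgroup.centralizer ((Gv x₁ ⊓ Gv y : Subgroup G) : Set G)
    rw [Subgroup.mem_centralizer_iff]
    intro s hs
    have hza : a * z = z * a := (Q_comm_Z hW hz.2 haZ).symm
    have hzq : ∀ q ∈ Qv x₁, q * z = z * q := fun q hq => Q_comm_Z hW hq hz.1
    by_cases hsQ : s ∈ Qv x₁
    · exact hzq s hsQ
    · have h1 := hW.mul_mem_Q x₁ y a1.symm a s haT haQ hs hsQ
      have h2 := hzq _ h1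
      calc s * z = a * ((a⁻¹ * s) * z) := by group
        _ = a * (z * (a⁻¹ * s)) := by rw [h2]
        _ = (a * z) * (a⁻¹ * s) := by group
        _ = (z * a) * (a⁻¹ * s) := by rw [hza]
        _ = z * s := by group
  have hYeq : Y = Zv y := le_antisymm hYZy hZyY
  have h3 := hZaCard x₁ y hx₁ a1.symm
  rw [hYeq] at hcard2
  rw [hcard2] at h3
  have hpos : 0 < Nat.card ↥(Zv y) := by
    have : Finite ↥(Zv y) :=
      Finite.of_injective (Subgroup.inclusion (hZbLe x₁ y a1.symm hy)) (Subgroup.inclusion_injective _)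
    exact Nat.card_pos
  nlinarith

end Cfsg.Agent.Lib.Helper68.AmalB
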