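import Mathlib
import Cfsg.Agent.Lib.Helper92.BPGAlg
import Cfsg.Agent.Lib.Helper40.BPConj
import Cfsg.Agent.Lib.Helper23.BPFixedFin

/-!
# PROJECT BP, module BP-[GI-RED] (helper45): reduction modulo `𝔪` on the group algebra

`red : R[G] →+* k[G]`, `k = R/𝔪`, is `MonoidAlgebra.mapRingHom G (IsLocalRing.residue R)`.

* (a) `red_conj` : `red (conj R g a) = conj k g (red a)`
* (b) `red_mem_fixedAlg`, `exists_red_eq` : `red` maps `A^S` ONTO `(kG)^S`
* (c) `red_relTr` : `red (Tr_S^Q a) = Tr_S^Q (red a)`
* (d) `red_eq_zero_iff_coeff`, `exists_smul_decomp`, `red_eq_zero_iff_mem_map`,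
  `red_eq_zero_iff_mem_span`, `red_eq_zero_iff_mem_smul` : on `A^S`, `ker red = 𝔪 · A^S`
* (e) `finiteDimensional_fixedAlg` : `(kG)^S` is finite dimensional
* the induced ring homomorphism `redFix S : A^S →+* (kG)^S` is surjective with kernel `𝔪 A^S`.
-/

set_option autoImplicit false

namespace Cfsg.Agent.Lib.Helper45.BP

open Cfsg.Agent.Lib.Helper92.BP

section Red

variable {R : Type*} [CommRing R] [IsLocalRing R] {G : Type*} [Group G]

/-- reduction modulo the maximal ideal on the group algebra. -/
noncomputable def red : MonoidAlgebra R G →+* MonoidAlgebra (IsLocalRing.ResidueField R) G :=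
  MonoidAlgebra.mapRingHom G (IsLocalRing.residue R)

theorem coeff_red (a : MonoidAlgebra R G) (x : G) :
    (red a).coeff x = IsLocalRing.residue R (a.coeff x) :=
  MonoidAlgebra.coeff_mapRingHom _ _ _

theorem red_of (x : G) :
    red (MonoidAlgebra.of R G x) = MonoidAlgebra.of (IsLocalRing.ResidueField R) G x := by
  apply MonoidAlgebra.coeff_injective
  ext y
  rw [coeff_red]
  simp only [MonoidAlgebra.of_apply, MonoidAlgebra.coeff_single]
  by_cases h : x = y
  · subst h; simp
  · simp [Finsupp.single_eq_of_ne' h]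

theorem red_smul (r : R) (a : MonoidAlgebra R G) :
    red (r • a) = IsLocalRing.residue R r • red a := by
  apply MonoidAlgebra.coeff_injective
  ext y
  rw [coeff_red]
  simp [coeff_red]

/-- (a) -/
theorem red_conj (g : G) (a : MonoidAlgebra R G) :
    red (conj R g a) = conj (IsLocalRing.ResidueField R) g (red a) := by
  unfold conj
  rw [map_mul, map_mul, red_of, red_of]

/-- (b), easy half -/
theorem red_mem_fixedAlg {S : Subgroup G} {a : MonoidAlgebra R G} (ha : a ∈ fixedAlg R S) :
    red a ∈ fixedAlg (IsLocalRing.ResidueField R) S := by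
  rw [Cfsg.Agent.Lib.Helper40.BP.mem_fixedAlg_iff] at ha ⊢
  intro q hq
  rw [← red_conj, ha q hq]

theorem red_eq_zero_iff_coeff (a : MonoidAlgebra R G) :
    red a = 0 ↔ ∀ x : G, a.coeff x ∈ IsLocalRing.maximalIdeal R := by
  constructor
  · intro h x
    have := congrArg (fun b : MonoidAlgebra (IsLocalRing.ResidueField R) G => b.coeff x) h
    simp only [coeff_red, MonoidAlgebra.coeff_zero, Finsupp.coe_zero, Pi.zero_apply] at this
    exact (IsLocalRing.residue_eq_zero_iff _).mp this
  · intro h
    apply MonoidAlgebra.coeff_injective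
    ext x
    rw [coeff_red]
    simpa using (IsLocalRing.residue_eq_zero_iff _).mpr (h x)

end Red


section RedFin

variable {R : Type*} [CommRing R] [IsLocalRing R] {G : Type*} [Group G] [Finite G]

open Cfsg.Agent.Lib.Helper23.BP in
/-- (b) `red` maps `A^S` ONTO `(kG)^S`. -/
theorem exists_red_eq (S : Subgroup G) {y : MonoidAlgebra (IsLocalRing.ResidueField R) G}
    (hy : y ∈ fixedAlg (IsLocalRing.ResidueField R) S) :
    ∃ a : MonoidAlgebra R G, a ∈ fixedAlg R S ∧ red a = y := by
  classical
  have hsurj := IsLocalRing.residue_surjective (R := R)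
  let s : IsLocalRing.ResidueField R → R := Function.surjInv hsurj
  have hs : ∀ c, IsLocalRing.residue R (s c) = c := Function.surjInv_eq hsurj
  let a₀ : MonoidAlgebra R G :=
    MonoidAlgebra.ofCoeff (Finsupp.equivFunOnFinite.symm fun x => s (y.coeff x))
  have ha₀ : ∀ x, a₀.coeff x = s (y.coeff x) := by intro x; simp [a₀]
  refine ⟨repProj S a₀, repProj_mem S a₀, ?_⟩
  apply MonoidAlgebra.coeff_injective
  ext x
  rw [coeff_red, coeff_repProj, ha₀, hs]
  obtain ⟨q, hq, hx⟩ := orbRep_rel S x
  rw [mem_fixedAlg_iff_coeff_conj] at hy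
  conv_rhs => rw [hx]
  exact (hy q hq _).symm

/-- (c) `red` commutes with the relative trace. -/
theorem red_relTr (S Q : Subgroup G) (a : MonoidAlgebra R G) :
    red (relTr R S Q a) = relTr (IsLocalRing.ResidueField R) S Q (red a) := by
  unfold relTr
  rw [map_finsum red (Set.toFinite _)]
  apply finsum_congr
  intro t
  exact red_conj _ _

omit [IsLocalRing R] in
open Cfsg.Agent.Lib.Helper23.BP in
/-- (d) explicit decomposition: an element of `A^S` is the sum over `r : G` of its coefficient at
`r` times the element `repProj S (of r)` of `A^S` (the orbit sum of `r` when `r` is the chosen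
representative of its class, and `0` otherwise). -/
theorem eq_sum_coeff_smul [Fintype G] (S : Subgroup G) {x : MonoidAlgebra R G}
    (hx : x ∈ fixedAlg R S) :
    x = ∑ r : G, x.coeff r • repProj S (MonoidAlgebra.of R G r) := by
  classical
  apply MonoidAlgebra.coeff_injective
  ext y
  rw [MonoidAlgebra.coeff_sum, Finsupp.finsetSum_apply]
  simp only [MonoidAlgebra.coeff_smul, Finsupp.smul_apply, coeff_repProj, MonoidAlgebra.of_apply,
    MonoidAlgebra.coeff_single, Finsupp.single_apply, smul_eq_mul, mul_ite, mul_one, mul_zero]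
  rw [Finset.sum_ite_eq' Finset.univ (orbRep S y)]
  simp only [Finset.mem_univ, if_true]
  have := repProj_of_mem S hx
  have h2 := congrArg (fun b : MonoidAlgebra R G => b.coeff y) this
  simp only [coeff_repProj] at h2
  exact h2.symm

open Cfsg.Agent.Lib.Helper23.BP in
/-- (d) elementwise: an element of `A^S` killed by `red` is an `𝔪`-combination of elements of
`A^S`. -/
theorem exists_smul_decomp [Fintype G] (S : Subgroup G) {x : MonoidAlgebra R G}
    (hx : x ∈ fixedAlg R S) (h : red x = 0) :
    ∃ (c : G → R) (y : G → MonoidAlgebra R G), (∀ g, c g ∈ IsLocalRing.maximalIdeal R) ∧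
      (∀ g, y g ∈ fixedAlg R S) ∧ x = ∑ g : G, c g • y g :=
  ⟨fun r => x.coeff r, fun r => repProj S (MonoidAlgebra.of R G r),
    (red_eq_zero_iff_coeff x).mp h, fun _ => repProj_mem S _, eq_sum_coeff_smul S hx⟩

/-- (d) ideal form, `𝔪 Λ := Ideal.map (algebraMap R Λ) 𝔪` in `Λ = A^S`. -/
theorem red_eq_zero_iff_mem_map (S : Subgroup G) (x : fixedAlg R S) :
    red (x : MonoidAlgebra R G) = 0 ↔
      x ∈ Ideal.map (algebraMap R (fixedAlg R S)) (IsLocalRing.maximalIdeal R) := by
  classical
  have := Fintype.ofFinite G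
  constructor
  · intro h
    obtain ⟨c, y, hc, hy, hxy⟩ := exists_smul_decomp S x.2 h
    have hx' : x = ∑ g : G, algebraMap R (fixedAlg R S) (c g) * ⟨y g, hy g⟩ := by
      apply Subtype.ext
      rw [hxy]
      simp [Algebra.smul_def]
    rw [hx']
    apply Ideal.sum_mem
    intro g _
    rw [Algebra.commutes]
    exact Ideal.mul_mem_left _ _ (Ideal.mem_map_of_mem _ (hc g))
  · intro h
    unfold Ideal.map at h
    refine Submodule.span_induction (p := fun z _ => red ((z : fixedAlg R S) : MonoidAlgebra R G) = 0)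
      ?_ ?_ ?_ ?_ h
    · rintro _ ⟨r, hr, rfl⟩
      have : ((algebraMap R (fixedAlg R S) r : fixedAlg R S) : MonoidAlgebra R G) =
          r • (1 : MonoidAlgebra R G) := by
        simp [Algebra.algebraMap_eq_smul_one]
      rw [this, red_smul, (IsLocalRing.residue_eq_zero_iff _).mpr hr, zero_smul]
    · simp
    · intro a b _ _ ha hb
      simp only [Subalgebra.coe_add, map_add, ha, hb, add_zero]
    · intro a b _ hb
      simp only [smul_eq_mul, Subalgebra.coe_mul, map_mul, hb, mul_zero]

/-- (d) span form (as in BP-[L2-BR4]). -/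
theorem red_eq_zero_iff_mem_span (S : Subgroup G) (x : fixedAlg R S) :
    red (x : MonoidAlgebra R G) = 0 ↔
      x ∈ Ideal.span {y : fixedAlg R S | ∃ r ∈ IsLocalRing.maximalIdeal R,
        ∃ y' : fixedAlg R S, y = r • y'} := by
  classical
  have := Fintype.ofFinite G
  constructor
  · intro h
    obtain ⟨c, y, hc, hy, hxy⟩ := exists_smul_decomp S x.2 h
    have hx' : x = ∑ g : G, c g • (⟨y g, hy g⟩ : fixedAlg R S) := by
      apply Subtype.ext
      rw [hxy]
      simp
    rw [hx']
    apply Ideal.sum_mem
    intro g _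
    exact Ideal.subset_span ⟨c g, hc g, _, rfl⟩
  · intro h
    refine Submodule.span_induction (p := fun z _ => red ((z : fixedAlg R S) : MonoidAlgebra R G) = 0)
      ?_ ?_ ?_ ?_ h
    · rintro _ ⟨r, hr, y', rfl⟩
      have : (((r • y' : fixedAlg R S)) : MonoidAlgebra R G) = r • (y' : MonoidAlgebra R G) := rfl
      rw [this, red_smul, (IsLocalRing.residue_eq_zero_iff _).mpr hr, zero_smul]
    · simp
    · intro a b _ _ ha hb
      simp only [Subalgebra.coe_add, map_add, ha, hb, add_zero]
    · intro a b _ hb
      simp only [smul_eq_mul, Subalgebra.coe_mul, map_mul, hb, mul_zero]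

/-- (e) `(kG)^S` is finite dimensional over `k`. -/
theorem finiteDimensional_fixedAlg (S : Subgroup G) :
    FiniteDimensional (IsLocalRing.ResidueField R)
      (fixedAlg (IsLocalRing.ResidueField R) (G := G) S) :=
  Cfsg.Agent.Lib.Helper23.BP.finite_fixedAlg S

/-- the ring homomorphism `A^S → (kG)^S` induced by `red`. -/
noncomputable def redFix (S : Subgroup G) :
    fixedAlg R S →+* fixedAlg (IsLocalRing.ResidueField R) (G := G) S where
  toFun x := ⟨red (x : MonoidAlgebra R G), red_mem_fixedAlg x.2⟩
  map_one' := Subtype.ext (map_one red)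
  map_mul' _ _ := Subtype.ext (map_mul red _ _)
  map_zero' := Subtype.ext (map_zero red)
  map_add' _ _ := Subtype.ext (map_add red _ _)

omit [Finite G] in
theorem coe_redFix (S : Subgroup G) (x : fixedAlg R S) :
    ((redFix S x : fixedAlg (IsLocalRing.ResidueField R) (G := G) S) :
      MonoidAlgebra (IsLocalRing.ResidueField R) G) = red (x : MonoidAlgebra R G) := rfl

theorem redFix_surjective (S : Subgroup G) : Function.Surjective (redFix (R := R) S) := by
  rintro ⟨y, hy⟩
  obtain ⟨a, ha, rfl⟩ := exists_red_eq (R := R) S hy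
  exact ⟨⟨a, ha⟩, Subtype.ext rfl⟩

theorem ker_redFix (S : Subgroup G) :
    RingHom.ker (redFix (R := R) S) =
      Ideal.map (algebraMap R (fixedAlg R S)) (IsLocalRing.maximalIdeal R) := by
  ext x
  rw [RingHom.mem_ker, ← red_eq_zero_iff_mem_map]
  constructor
  · intro h
    have := congrArg (fun z : fixedAlg (IsLocalRing.ResidueField R) (G := G) S =>
      (z : MonoidAlgebra (IsLocalRing.ResidueField R) G)) h
    simpa [coe_redFix] using this
  · intro h
    apply Subtype.ext
    rw [coe_redFix, h]
    rfl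

end RedFin

end Cfsg.Agent.Lib.Helper45.BP
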