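import Mathlib
import Cfsg.Prelude.Def_GeometricClasses
import Cfsg.Agent.Lib.Helper99.AschDefs
import Cfsg.Agent.Lib.Helper99.FrobElt
import Cfsg.Agent.Lib.Helper13.SubfieldBasic

/-!
# BHR-[E7] (helper45, for helper99's Aschbacher project, second sheet)

`n = 3`, `q = 4`: the normaliser of a Singer field `K ≅ F_64` in `SL_3(4)` lies in a subfield
group `GL_3(2) · scalars`.
-/

set_option autoImplicit false

namespace Cfsg.Agent.Lib.Helper45.BhrE7

open Cfsg Cfsg.Geo Module

variable {F : Type*} [Field F] [Fintype F]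

/-! ### Arithmetic in the field with four elements -/

theorem two_eq_zero (hq : Fintype.card F = 4) : (2 : F) = 0 := by
  have h4 : ((Fintype.card F : ℕ) : F) = 0 := Nat.cast_card_eq_zero F
  rw [hq] at h4
  have h : (2 : F) * 2 = 0 := by
    have : ((4 : ℕ) : F) = 2 * 2 := by norm_num
    rw [← this]; exact h4
  exact mul_self_eq_zero.1 h

theorem cube_eq_one (hq : Fintype.card F = 4) (d : F) (hd : d ≠ 0) : d ^ 3 = 1 := by
  have := FiniteField.pow_card_sub_one_eq_one d hd
  rwa [hq] at this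

theorem no_root (hq : Fintype.card F = 4) (b : F) : b ^ 3 + b + 1 ≠ 0 := by
  intro h
  by_cases hb : b = 0
  · subst hb; simp at h
  · rw [cube_eq_one hq b hb] at h
    have : b = 0 := by linear_combination h - two_eq_zero hq
    exact hb this

/-! ### A cubic extension of the field with four elements -/

section Abstract

variable {L : Type*} [Field L] [Algebra F L]

theorem two_eq_zero_L (hq : Fintype.card F = 4) : (2 : L) = 0 := by
  have h := congrArg (algebraMap F L) (two_eq_zero hq)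
  rw [map_ofNat, map_zero] at h
  exact h

theorem card_L (hq : Fintype.card F = 4) (h3 : finrank F L = 3) : Nat.card L = 64 := by
  have : Module.Finite F L := Module.finite_of_finrank_pos (by omega)
  rw [Module.natCard_eq_pow_finrank (K := F) (V := L), h3, Nat.card_eq_fintype_card, hq]
  norm_num

theorem exists_theta (hq : Fintype.card F = 4) (h3 : finrank F L = 3) :
    ∃ θ : L, θ ^ 3 = θ + 1 := by
  have hcard := card_L (L := L) hq h3
  have : Finite L := Nat.finite_of_card_ne_zero (by omega)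
  have hunits : Nat.card Lˣ = 63 := by rw [Nat.card_units, hcard]
  have : Fact (Nat.Prime 7) := ⟨by norm_num⟩
  obtain ⟨x, hx⟩ := exists_prime_orderOf_dvd_card' (G := Lˣ) 7 (by rw [hunits]; norm_num)
  have h7 : (x : L) ^ 7 = 1 := by
    have := pow_orderOf_eq_one x
    rw [hx] at this
    have := congrArg Units.val this
    simpa using this
  have h1 : (x : L) ≠ 1 := by
    intro h
    have : x = 1 := Units.ext h
    rw [this, orderOf_one] at hx
    omega
  have h2 := two_eq_zero_L (L := L) hq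
  have hfac : ((x : L) - 1) * (((x : L) ^ 3 + x + 1) * ((x : L) ^ 3 + x ^ 2 + 1)) = 0 := by
    linear_combination h7 + ((x : L) ^ 4 - (x : L) ^ 3) * h2
  rcases mul_eq_zero.1 hfac with h | h
  · exact absurd (sub_eq_zero.1 h) h1
  rcases mul_eq_zero.1 h with h | h
  · exact ⟨x, by linear_combination h - ((x : L) + 1) * h2⟩
  · refine ⟨((x⁻¹ : Lˣ) : L), ?_⟩
    have hx0 : (x : L) ≠ 0 := x.ne_zero
    rw [Units.val_inv_eq_inv_val]
    field_simp
    linear_combination h - (x : L) ^ 3 * h2 - (x : L) ^ 2 * h2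

variable (θ : L)

theorem theta_pow_seven (hq : Fintype.card F = 4) (hθ : θ ^ 3 = θ + 1) : θ ^ 7 = 1 := by
  have h2 := two_eq_zero_L (L := L) hq
  linear_combination (θ ^ 4 + θ ^ 2 + θ + 1) * hθ + (θ ^ 2 + θ) * h2

theorem theta_ne_one (hq : Fintype.card F = 4) (hθ : θ ^ 3 = θ + 1) : θ ≠ 1 := by
  rintro rfl
  have h2 := two_eq_zero_L (L := L) hq
  have : (1 : L) = 0 := by linear_combination (-1 : L) * hθ
  exact one_ne_zero this

theorem theta_primitive (hq : Fintype.card F = 4) (hθ : θ ^ 3 = θ + 1) :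
    IsPrimitiveRoot θ 7 := by
  have h7 := theta_pow_seven θ hq hθ
  have hord : orderOf θ = 7 := by
    have hdvd := orderOf_dvd_of_pow_eq_one h7
    rcases (Nat.dvd_prime (by norm_num : Nat.Prime 7)).1 hdvd with h | h
    · exact absurd (orderOf_eq_one_iff.1 h) (theta_ne_one θ hq hθ)
    · exact h
  rw [← hord]
  exact IsPrimitiveRoot.orderOf θ

/-- Powers of `θ` are `F₂`-combinations of `1, θ, θ²`. -/
theorem theta_pow_coords (hq : Fintype.card F = 4) (hθ : θ ^ 3 = θ + 1) (m : ℕ) :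
    ∃ a b c : F, (a = 0 ∨ a = 1) ∧ (b = 0 ∨ b = 1) ∧ (c = 0 ∨ c = 1) ∧
      θ ^ m = a • (1 : L) + b • θ + c • θ ^ 2 := by
  have h2 := two_eq_zero hq
  have h01 : ∀ a c : F, (a = 0 ∨ a = 1) → (c = 0 ∨ c = 1) → (a + c = 0 ∨ a + c = 1) := by
    rintro a c (rfl | rfl) (rfl | rfl)
    · left; simp
    · right; simp
    · right; simp
    · left; linear_combination h2
  induction m with
  | zero => exact ⟨1, 0, 0, Or.inr rfl, Or.inl rfl, Or.inl rfl, by simp⟩
  | succ m ih =>
    obtain ⟨a, b, c, ha, hb, hc, h⟩ := ih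
    refine ⟨c, a + c, b, hc, h01 a c ha hc, hb, ?_⟩
    rw [pow_succ, h]
    simp only [Algebra.smul_def, mul_one, map_add]
    linear_combination (algebraMap F L c) * hθ

/-- `1, θ, θ²` are linearly independent over `F`. -/
theorem theta_indep (hq : Fintype.card F = 4) (hθ : θ ^ 3 = θ + 1) (a b c : F)
    (h : a • (1 : L) + b • θ + c • θ ^ 2 = 0) : a = 0 ∧ b = 0 ∧ c = 0 := by
  have h2 := two_eq_zero hq
  have h2L := two_eq_zero_L (L := L) hq
  have hinj : Function.Injective (algebraMap F L) := (algebraMap F L).injective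
  simp only [Algebra.smul_def, mul_one] at h
  -- `θ` is not in `F`
  have hnotF : ∀ d : F, θ ≠ algebraMap F L d := by
    intro d hd
    have : algebraMap F L (d ^ 3 + d + 1) = 0 := by
      rw [map_add, map_add, map_pow, map_one, ← hd]
      linear_combination hθ + (θ + 1) * h2L
    exact no_root hq d (hinj (by rw [this, map_zero]))
  -- `θ²` is not in `F + F θ`
  have hnot2 : ∀ d e : F, θ ^ 2 ≠ algebraMap F L d + algebraMap F L e * θ := by
    intro d e hde
    -- `θ³ = (e² + d) θ + d e`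
    have h3 : (algebraMap F L (e ^ 2 + d + 1)) * θ = algebraMap F L (d * e + 1) := by
      simp only [map_add, map_mul, map_pow, map_one]
      linear_combination hθ - (θ + algebraMap F L e) * hde +
        (θ - algebraMap F L d * algebraMap F L e) * h2L
    by_cases hz : e ^ 2 + d + 1 = 0
    · rw [hz, map_zero, zero_mul] at h3
      have h4 : d * e + 1 = 0 := hinj (by rw [← h3, map_zero])
      -- `d = e² + 1`, so `e³ + e + 1 = 0`
      apply no_root hq e
      linear_combination -h4 + e * hz + h2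
    · apply hnotF ((e ^ 2 + d + 1)⁻¹ * (d * e + 1))
      rw [map_mul, ← h3, ← mul_assoc, ← map_mul, inv_mul_cancel₀ hz, map_one, one_mul]
  by_cases hc : c = 0
  · subst hc
    simp only [map_zero, zero_mul, add_zero] at h
    by_cases hb : b = 0
    · subst hb
      refine ⟨hinj ?_, rfl, rfl⟩
      rw [map_zero]
      simpa using h
    · exfalso
      apply hnotF (b⁻¹ * a)
      have hbL : algebraMap F L b ≠ 0 := fun h0 => hb (hinj (by rw [h0, map_zero]))
      rw [map_mul, map_inv₀]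
      field_simp
      linear_combination h - (algebraMap F L a) * h2L
  · exfalso
    apply hnot2 (c⁻¹ * a) (c⁻¹ * b)
    have hcL : algebraMap F L c ≠ 0 := fun h0 => hc (hinj (by rw [h0, map_zero]))
    rw [map_mul, map_mul, map_inv₀]
    field_simp
    linear_combination h - (algebraMap F L a + algebraMap F L b * θ) * h2L


/-- vector form of `theta_pow_coords` -/
theorem theta_pow_coords' (hq : Fintype.card F = 4) (hθ : θ ^ 3 = θ + 1) (m : ℕ) :
    ∃ w : Fin 3 → F, (∀ l, w l = 0 ∨ w l = 1) ∧ θ ^ m = ∑ l : Fin 3, w l • θ ^ (l : ℕ) := by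
  obtain ⟨a, b, c, ha, hb, hc, h⟩ := theta_pow_coords θ hq hθ m
  refine ⟨![a, b, c], ?_, ?_⟩
  · intro l
    fin_cases l
    · exact ha
    · exact hb
    · exact hc
  · rw [h, Fin.sum_univ_three]
    simp

/-- vector form of `theta_indep` -/
theorem theta_indep' (hq : Fintype.card F = 4) (hθ : θ ^ 3 = θ + 1) (w : Fin 3 → F)
    (h : ∑ l : Fin 3, w l • θ ^ (l : ℕ) = 0) : w = 0 := by
  rw [Fin.sum_univ_three] at h
  have h' : w 0 • (1 : L) + w 1 • θ + w 2 • θ ^ 2 = 0 := by simpa using h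
  obtain ⟨h0, h1, h2⟩ := theta_indep θ hq hθ _ _ _ h'
  funext l
  fin_cases l
  · exact h0
  · exact h1
  · exact h2

/-- Elements of norm one are `F`-multiples of powers of `θ`. -/
theorem eq_smul_theta_pow_of_pow (hq : Fintype.card F = 4) (hθ : θ ^ 3 = θ + 1) (k : L)
    (hk : k ^ 21 = 1) : ∃ (c : F) (i : ℕ), c ≠ 0 ∧ k = c • θ ^ i := by
  classical
  -- a primitive cube root of unity in `F`
  obtain ⟨ω, hω0, hω1⟩ : ∃ ω : F, ω ≠ 0 ∧ ω ≠ 1 := by
    by_contra hcon
    push Not at hcon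
    have hsub : (Finset.univ : Finset F) ⊆ {0, 1} := by
      intro x _
      by_cases hx : x = 0
      · simp [hx]
      · simp [hcon x hx]
    have := Finset.card_le_card hsub
    rw [Finset.card_univ, hq] at this
    have h2 : ({0, 1} : Finset F).card ≤ 2 := Finset.card_le_two
    omega
  have hω3 : ω ^ 3 = 1 := cube_eq_one hq ω hω0
  have hprimF : IsPrimitiveRoot ω 3 := by
    have hord : orderOf ω = 3 := by
      have hdvd := orderOf_dvd_of_pow_eq_one hω3
      rcases (Nat.dvd_prime (by norm_num : Nat.Prime 3)).1 hdvd with h | h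
      · exact absurd (orderOf_eq_one_iff.1 h) hω1
      · exact h
    rw [← hord]
    exact IsPrimitiveRoot.orderOf ω
  have hprimL : IsPrimitiveRoot (algebraMap F L ω) 3 :=
    hprimF.map_of_injective (algebraMap F L).injective
  have h7 : (k ^ 7) ^ 3 = 1 := by rw [← pow_mul]; exact hk
  obtain ⟨j, -, hj⟩ := hprimL.eq_pow_of_pow_eq_one h7
  have h15 : (k ^ 15) ^ 7 = 1 := by
    rw [← pow_mul]
    have : 15 * 7 = 21 * 5 := by norm_num
    rw [this, pow_mul, hk, one_pow]
  obtain ⟨i, -, hi⟩ := (theta_primitive θ hq hθ).eq_pow_of_pow_eq_one h15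
  refine ⟨ω ^ j, i, pow_ne_zero _ hω0, ?_⟩
  rw [Algebra.smul_def, map_pow, hj, hi, ← pow_add]
  have : 7 + 15 = 21 + 1 := by norm_num
  rw [this, pow_add, hk, one_mul, pow_one]

theorem pow_eq_one_of_norm (hq : Fintype.card F = 4) (h3 : finrank F L = 3) (k : L)
    (hk : Algebra.norm F k = 1) : k ^ 21 = 1 := by
  have hcard := card_L (L := L) hq h3
  have : Finite L := Nat.finite_of_card_ne_zero (by omega)
  have h := FiniteField.algebraMap_norm_eq_pow (K := F) (K' := L) (x := k)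
  rw [hk, map_one, hcard, Nat.card_eq_fintype_card, hq] at h
  exact h.symm

end Abstract


/-! ### The prime subfield `{0, 1}` -/

/-- The subfield `{0, 1}` of a field of characteristic two. -/
def primeTwo (hq : Fintype.card F = 4) : Subfield F where
  carrier := {x | x = 0 ∨ x = 1}
  mul_mem' := by
    rintro a b (rfl | rfl) (rfl | rfl) <;> simp
  one_mem' := Or.inr rfl
  add_mem' := by
    rintro a b (rfl | rfl) (rfl | rfl)
    · left; simp
    · right; simp
    · right; simp
    · left; linear_combination two_eq_zero hq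
  zero_mem' := Or.inl rfl
  neg_mem' := by
    rintro a (rfl | rfl)
    · left; simp
    · right; linear_combination (-1 : F) * two_eq_zero hq
  inv_mem' := by
    rintro a (rfl | rfl)
    · left; simp
    · right; simp

theorem mem_primeTwo (hq : Fintype.card F = 4) (x : F) :
    x ∈ primeTwo hq ↔ x = 0 ∨ x = 1 := Iff.rfl

theorem card_primeTwo (hq : Fintype.card F = 4) : Nat.card (primeTwo hq) = 2 := by
  rw [Nat.card_eq_two_iff]
  refine ⟨⟨0, Or.inl rfl⟩, ⟨1, Or.inr rfl⟩, ?_, ?_⟩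
  · intro h
    have := congrArg Subtype.val h
    exact zero_ne_one this
  · ext ⟨x, hx⟩
    simp only [Set.mem_insert_iff, Set.mem_singleton_iff, Set.mem_univ, iff_true]
    rcases hx with rfl | rfl
    · left; rfl
    · right; rfl

/-- The determinant of a matrix over `{0,1}` is `0` or `1`. -/
theorem det_map_primeTwo (hq : Fintype.card F = 4) (M : Matrix (Fin 3) (Fin 3) (primeTwo hq)) :
    (M.map (primeTwo hq).subtype).det = 0 ∨ (M.map (primeTwo hq).subtype).det = 1 := by
  have : (M.map (primeTwo hq).subtype).det = (primeTwo hq).subtype M.det := by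
    rw [RingHom.map_det]; rfl
  rw [this]
  exact M.det.2


/-! ### The normaliser of a Singer field in `SL_3(4)` -/

section Main

open Cfsg.Agent.Lib.Helper99.FieldNorm Matrix

theorem normalizer_le_subfieldSubgroup (K : Subalgebra F (Matrix (Fin 3) (Fin 3) F))
    (hK : IsFieldSubalgebra 3 K) (hq : Fintype.card F = 4) :
    ∃ P : GL (Fin 3) F, subalgebraNormalizer K ⊓ specialLinear (Fin 3) F ≤
      subfieldSubgroup (primeTwo hq) P := by
  classical
  let _ := fieldK hK (by norm_num : 0 < 3)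
  have h3 : finrank F ↥K = 3 := hK.finrank_eq
  obtain ⟨θ, hθ⟩ := exists_theta (L := ↥K) hq h3
  have hprim := theta_primitive θ hq hθ
  -- the vector `v` and the isomorphism `e : K ≃ F³`
  have hv : (Pi.single 0 1 : Fin 3 → F) ≠ 0 := by
    intro h
    have := congrFun h 0
    simp at this
  obtain ⟨v, hvdef⟩ : ∃ v : Fin 3 → F, v = Pi.single 0 1 := ⟨_, rfl⟩
  rw [← hvdef] at hv
  let e : ↥K ≃ₗ[F] (Fin 3 → F) :=
    LinearEquiv.ofBijective (orbitMap K v) (orbitMap_bijective hK hv)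
  have he : ∀ a : ↥K, e a = a.1 *ᵥ v := fun a => rfl
  have hemul : ∀ a b : ↥K, e (a * b) = a.1 *ᵥ e b := by
    intro a b
    rw [he, he, Matrix.mulVec_mulVec]
    rfl
  -- the change of basis `P` with columns `θ^j v`
  obtain ⟨Pm, hPmdef⟩ : ∃ Pm : Matrix (Fin 3) (Fin 3) F,
      Pm = Matrix.of (fun (i j : Fin 3) => e (θ ^ (j : ℕ)) i) := ⟨_, rfl⟩
  have hPm : ∀ w : Fin 3 → F, Pm *ᵥ w = e (∑ l : Fin 3, w l • θ ^ (l : ℕ)) := by
    intro w
    ext i
    simp only [hPmdef, Matrix.mulVec, dotProduct, Matrix.of_apply, map_sum, map_smul,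
      Finset.sum_apply, Pi.smul_apply, smul_eq_mul]
    apply Finset.sum_congr rfl
    intro l _
    ring
  have hPdet : Pm.det ≠ 0 := by
    intro h0
    obtain ⟨w, hw, hw0⟩ := Matrix.exists_mulVec_eq_zero_iff.2 h0
    rw [hPm] at hw0
    have := e.map_eq_zero_iff.1 hw0
    exact hw (theta_indep' θ hq hθ w this)
  -- coordinate matrices of families of powers of `θ`
  have hcoord : ∀ ex : Fin 3 → ℕ, ∃ M₀ : Matrix (Fin 3) (Fin 3) (primeTwo hq),
      ∀ j, Pm *ᵥ ((M₀.map (primeTwo hq).subtype) *ᵥ Pi.single j 1) = e (θ ^ (ex j)) := by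
    intro ex
    have hch : ∀ j, ∃ w : Fin 3 → F, (∀ l, w l = 0 ∨ w l = 1) ∧
        θ ^ (ex j) = ∑ l : Fin 3, w l • θ ^ (l : ℕ) :=
      fun j => theta_pow_coords' θ hq hθ (ex j)
    choose w hw01 hw using hch
    refine ⟨Matrix.of (fun l j => (⟨w j l, hw01 j l⟩ : primeTwo hq)), fun j => ?_⟩
    rw [Matrix.mulVec_single_one, hPm, hw j]
    rfl
  refine ⟨Matrix.GeneralLinearGroup.mkOfDetNeZero Pm hPdet, ?_⟩
  rintro g ⟨hgN, hgS⟩
  obtain ⟨gm, hgm⟩ : ∃ gm : Matrix (Fin 3) (Fin 3) F, gm = (g : Matrix (Fin 3) (Fin 3) F) :=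
    ⟨_, rfl⟩
  obtain ⟨gi, hgi⟩ : ∃ gi : Matrix (Fin 3) (Fin 3) F,
      gi = ((g⁻¹ : GL (Fin 3) F) : Matrix (Fin 3) (Fin 3) F) := ⟨_, rfl⟩
  have hgmi : gm * gi = 1 := by rw [hgm, hgi, ← Units.val_mul, mul_inv_cancel, Units.val_one]
  have hgim : gi * gm = 1 := by rw [hgm, hgi, ← Units.val_mul, inv_mul_cancel, Units.val_one]
  have hdetg : gm.det = 1 := by
    have h1 : Matrix.GeneralLinearGroup.det g = 1 := hgS
    have := congrArg Units.val h1
    rw [hgm]
    exact this
  have hconjmem : ∀ k : ↥K, gm * k.1 * gi ∈ K := fun k => by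
    rw [hgm, hgi]; exact (hgN k.1).1 k.2
  -- conjugation by `g` on `K`
  let cj : ↥K → ↥K := fun k => ⟨gm * k.1 * gi, hconjmem k⟩
  have hcjmul : ∀ a b : ↥K, cj (a * b) = cj a * cj b := by
    intro a b
    apply Subtype.ext
    change gm * (a.1 * b.1) * gi = (gm * a.1 * gi) * (gm * b.1 * gi)
    calc gm * (a.1 * b.1) * gi = gm * a.1 * (1 : Matrix (Fin 3) (Fin 3) F) * b.1 * gi := by
          rw [mul_one]; simp only [mul_assoc]
      _ = (gm * a.1 * gi) * (gm * b.1 * gi) := by rw [← hgim]; simp only [mul_assoc]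
  have hcjone : cj 1 = 1 := by
    apply Subtype.ext
    change gm * (1 : Matrix (Fin 3) (Fin 3) F) * gi = 1
    rw [mul_one, hgmi]
  have hcjpow : ∀ (a : ↥K) (m : ℕ), cj (a ^ m) = cj a ^ m := by
    intro a m
    induction m with
    | zero => simpa using hcjone
    | succ m ih => rw [pow_succ, hcjmul, ih, pow_succ]
  -- `cj θ` is a power of `θ`
  have hθ'7 : (cj θ) ^ 7 = 1 := by
    rw [← hcjpow, theta_pow_seven θ hq hθ, hcjone]
  obtain ⟨i, -, hi⟩ := hprim.eq_pow_of_pow_eq_one hθ'7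
  have hcjθ : ∀ j : ℕ, cj (θ ^ j) = θ ^ (i * j) := by
    intro j
    rw [hcjpow, ← hi, ← pow_mul]
  -- `g v = k₀ v`
  obtain ⟨k₀, hk₀⟩ : ∃ k₀ : ↥K, e k₀ = gm *ᵥ v := ⟨e.symm (gm *ᵥ v), e.apply_symm_apply _⟩
  have hkey : ∀ k : ↥K, gm *ᵥ e k = e (cj k * k₀) := by
    intro k
    rw [hemul, hk₀, he]
    change gm *ᵥ (k.1 *ᵥ v) = (gm * k.1 * gi) *ᵥ (gm *ᵥ v)
    rw [Matrix.mulVec_mulVec, Matrix.mulVec_mulVec, mul_assoc (gm * k.1), hgim, mul_one]
  -- determinant of `k₀`
  obtain ⟨M₀, hM₀⟩ := hcoord (fun j => i * (j : ℕ))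
  have hmat1 : gm * Pm = k₀.1 * Pm * (M₀.map (primeTwo hq).subtype) := by
    apply Matrix.ext_of_mulVec_single
    intro j
    rw [← Matrix.mulVec_mulVec, ← Matrix.mulVec_mulVec, ← Matrix.mulVec_mulVec, hM₀ j,
      Matrix.mulVec_single_one]
    have hcol : Pm.col j = e (θ ^ (j : ℕ)) := by
      ext l
      rw [hPmdef]
      rfl
    rw [hcol, hkey, hcjθ, ← hemul, mul_comm]
  have hdetk₀ : (k₀.1).det = 1 := by
    have h := congrArg Matrix.det hmat1
    rw [Matrix.det_mul, Matrix.det_mul, Matrix.det_mul, hdetg, one_mul] at h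
    rcases det_map_primeTwo hq M₀ with h0 | h1
    · rw [h0, mul_zero] at h
      exact absurd h hPdet
    · rw [h1, mul_one] at h
      have h' : 1 * Pm.det = (k₀.1).det * Pm.det := by rw [one_mul]; exact h
      exact (mul_right_cancel₀ hPdet h').symm
  have hnorm : Algebra.norm F k₀ = 1 := by
    rw [Algebra.norm_apply, ← hdetk₀, ← LinearMap.det_toLin']
    have hconj : Matrix.toLin' k₀.1 =
        (e : ↥K →ₗ[F] (Fin 3 → F)) ∘ₗ (Algebra.lmul F ↥K k₀) ∘ₗ (e.symm : (Fin 3 → F) →ₗ[F] ↥K) := by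
      apply LinearMap.ext
      intro x
      obtain ⟨a, rfl⟩ := e.surjective x
      simp only [Matrix.toLin'_apply, LinearMap.comp_apply, LinearEquiv.coe_coe,
        LinearEquiv.symm_apply_apply]
      rw [← hemul]
      rfl
    rw [hconj, LinearMap.det_conj]
  have hk₀21 : k₀ ^ 21 = 1 := pow_eq_one_of_norm hq h3 k₀ hnorm
  obtain ⟨c, i₀, hc, hk₀eq⟩ := eq_smul_theta_pow_of_pow θ hq hθ k₀ hk₀21
  -- the final matrix
  obtain ⟨M₁, hM₁⟩ := hcoord (fun j => i * (j : ℕ) + i₀)
  have hmat2 : gm * Pm = c • (Pm * (M₁.map (primeTwo hq).subtype)) := by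
    apply Matrix.ext_of_mulVec_single
    intro j
    rw [Matrix.smul_mulVec, ← Matrix.mulVec_mulVec, ← Matrix.mulVec_mulVec, hM₁ j,
      Matrix.mulVec_single_one]
    have hcol : Pm.col j = e (θ ^ (j : ℕ)) := by
      ext l
      rw [hPmdef]
      rfl
    rw [hcol, hkey, hcjθ, hk₀eq, mul_smul_comm, ← pow_add, map_smul]
  have hdetM₁ : M₁.det ≠ 0 := by
    intro h0
    have h := congrArg Matrix.det hmat2
    have hmapdet : (M₁.map (primeTwo hq).subtype).det = 0 := by
      have : (M₁.map (primeTwo hq).subtype).det = (primeTwo hq).subtype M₁.det := by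
        rw [RingHom.map_det]; rfl
      rw [this, h0, map_zero]
    rw [Matrix.det_mul, hdetg, one_mul, Matrix.det_smul, Matrix.det_mul, hmapdet, mul_zero,
      mul_zero] at h
    exact hPdet h
  rw [Cfsg.Agent.Lib.Helper13.mem_subfieldSubgroup_iff]
  refine ⟨Matrix.GeneralLinearGroup.mkOfDetNeZero M₁ hdetM₁, Units.mk0 c hc, ?_⟩
  change (g : Matrix (Fin 3) (Fin 3) F) * Pm = c • (Pm * M₁.map (primeTwo hq).subtype)
  rw [← hgm]
  exact hmat2

end Main

end Cfsg.Agent.Lib.Helper45.BhrE7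

namespace Cfsg.Agent.Lib.Helper99.Asch

open Cfsg Cfsg.Geo
open scoped MatrixGroups Matrix Kronecker

variable {n : ℕ} {F : Type*} [Field F] [Fintype F]

/-- BHR-[E7] -/
theorem field_normalizer_three_card_four (K : Subalgebra F (Matrix (Fin 3) (Fin 3) F))
    (hK : IsFieldSubalgebra 3 K) (hq : Fintype.card F = 4) :
    ∃ (F₀ : Subfield F) (r : ℕ) (P : GL (Fin 3) F), r.Prime ∧ Fintype.card F = Nat.card F₀ ^ r ∧
      subalgebraNormalizer K ⊓ specialLinear (Fin 3) F ≤ subfieldSubgroup F₀ P := by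
  obtain ⟨P, hP⟩ := Cfsg.Agent.Lib.Helper45.BhrE7.normalizer_le_subfieldSubgroup K hK hq
  refine ⟨Cfsg.Agent.Lib.Helper45.BhrE7.primeTwo hq, 2, P, Nat.prime_two, ?_, hP⟩
  rw [Cfsg.Agent.Lib.Helper45.BhrE7.card_primeTwo hq, hq]; norm_num

end Cfsg.Agent.Lib.Helper99.Asch
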