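import Mathlib
import Cfsg.Agent.Lib.Helper64.CH4Defs

/-!
# CH4-[COUNT] (helper45 for helper64's S4167 sheet)

The final count of the project CH4: pure finite counting.
-/

set_option autoImplicit false

namespace Cfsg.Agent.Lib.Helper45.CH4

open Finset

/-- An element whose order is not odd, in a group where `2`-elements have exponent `2`, has
order `2 * c` with `c` odd. -/
theorem orderOf_eq_two_mul_odd {G : Type*} [Group G] [Finite G]
    (hexp : ∀ x : G, ∀ k : ℕ, orderOf x = 2 ^ k → x ^ 2 = 1)
    (x : G) (hx : ¬ Odd (orderOf x)) : ∃ c : ℕ, Odd c ∧ orderOf x = 2 * c := by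
  have hpos : 0 < orderOf x := orderOf_pos x
  obtain ⟨a, c, hc, hac⟩ := Nat.exists_eq_two_pow_mul_odd (n := orderOf x) hpos.ne'
  have hcpos : 0 < c := hc.pos
  -- `x ^ c` has order `2 ^ a`
  have h1 : orderOf (x ^ c) = 2 ^ a := by
    rw [orderOf_pow' x hcpos.ne', hac, Nat.gcd_mul_left_left]
    exact Nat.mul_div_cancel _ hcpos
  have h2 : (x ^ c) ^ 2 = 1 := hexp _ a h1
  have h3 : 2 ^ a ∣ 2 := by
    rw [← h1]; exact orderOf_dvd_of_pow_eq_one h2
  have ha : a ≤ 1 := by
    by_contra hcon
    have hcon : 2 ≤ a := by omega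
    have : 2 ^ 2 ∣ 2 ^ a := pow_dvd_pow 2 hcon
    have := Nat.le_of_dvd (by norm_num) (this.trans h3)
    omega
  have ha' : a = 1 := by
    rcases Nat.lt_or_ge a 1 with h | h
    · exfalso
      have : a = 0 := by omega
      subst this
      apply hx
      rw [hac]; simpa using hc
    · omega
  subst ha'
  exact ⟨c, hc, by simpa using hac⟩

/-- [COUNT] -/
theorem false_of_count {G : Type*} [Group G] [Fintype G] [DecidableEq G] (n : ℕ)
    (hexp : ∀ x : G, ∀ k : ℕ, orderOf x = 2 ^ k → x ^ 2 = 1)
    (hinv : ∃ t : G, orderOf t = 2)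
    (hcent : ∀ y : G, Odd (orderOf y) → y ≠ 1 → ∃ t : G, orderOf t = 2 ∧ t * y = y * t)
    (hodd : ∀ t : G, orderOf t = 2 →
      Nat.card {y : G // Odd (orderOf y) ∧ y * t = t * y} * 2 ^ n ≤
        Nat.card (Subgroup.centralizer ({t} : Set G)))
    (hsum : 2 * ∑ t ∈ Finset.univ.filter (fun t : G => orderOf t = 2),
        Nat.card (Subgroup.centralizer ({t} : Set G)) ≤ Nat.card G * (2 ^ n - 1)) :
    False := by
  classical
  set O : Finset G := univ.filter (fun y : G => Odd (orderOf y)) with hO
  set Inv : Finset G := univ.filter (fun t : G => orderOf t = 2) with hInv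
  set Pr : Finset (G × G) := (O ×ˢ Inv).filter (fun p => p.1 * p.2 = p.2 * p.1) with hPr
  have memO : ∀ y, y ∈ O ↔ Odd (orderOf y) := fun y => by simp [hO]
  have memInv : ∀ t, t ∈ Inv ↔ orderOf t = 2 := fun t => by simp [hInv]
  have memPr : ∀ p : G × G, p ∈ Pr ↔ (Odd (orderOf p.1) ∧ orderOf p.2 = 2) ∧ p.1 * p.2 = p.2 * p.1 := by
    intro p
    simp [hPr, memO, memInv]
  -- (a) `|G| ≤ |O| + |Pr|`
  have ha : Fintype.card G ≤ O.card + Pr.card := by
    have hsub : (univ : Finset G) ⊆ O ∪ Pr.image (fun p => p.1 * p.2) := by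
      intro x _
      by_cases hx : Odd (orderOf x)
      · exact mem_union_left _ ((memO x).2 hx)
      · apply mem_union_right
        obtain ⟨c, hc, hxc⟩ := orderOf_eq_two_mul_odd hexp x hx
        have hcpos : 0 < c := hc.pos
        rw [mem_image]
        refine ⟨(x ^ (c + 1), x ^ c), ?_, ?_⟩
        · rw [memPr]
          refine ⟨⟨?_, ?_⟩, ?_⟩
          · -- order of `x ^ (c+1)` divides `c`
            have hdvd : orderOf (x ^ (c + 1)) ∣ c := by
              apply orderOf_dvd_of_pow_eq_one
              obtain ⟨k, hk⟩ := hc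
              have : (c + 1) * c = (2 * c) * (k + 1) := by subst hk; ring
              rw [← pow_mul, this, pow_mul, ← hxc, pow_orderOf_eq_one, one_pow]
            exact Odd.of_dvd_nat hc hdvd
          · apply orderOf_eq_prime
            · rw [← pow_mul, mul_comm, ← hxc, pow_orderOf_eq_one]
            · intro h1
              have := orderOf_dvd_of_pow_eq_one h1
              rw [hxc] at this
              have := Nat.le_of_dvd hcpos this
              omega
          · exact (Commute.pow_pow_self x (c + 1) c).eq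
        · change x ^ (c + 1) * x ^ c = x
          rw [← pow_add]
          have : c + 1 + c = 2 * c + 1 := by ring
          rw [this, pow_succ, ← hxc, pow_orderOf_eq_one, one_mul]
    calc Fintype.card G = (univ : Finset G).card := rfl
      _ ≤ (O ∪ Pr.image (fun p => p.1 * p.2)).card := card_le_card hsub
      _ ≤ O.card + (Pr.image (fun p => p.1 * p.2)).card := card_union_le _ _
      _ ≤ O.card + Pr.card := Nat.add_le_add_left card_image_le _
  -- (b) `|O| + |Inv| ≤ |Pr| + 1`
  have hb : O.card + Inv.card ≤ Pr.card + 1 := by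
    have h1O : (1 : G) ∈ O := by rw [memO]; simp
    -- choice of an involution commuting with `y`
    have hch : ∀ y : G, ∃ t : G, y ∈ O.erase 1 → orderOf t = 2 ∧ t * y = y * t := by
      intro y
      by_cases hy : y ∈ O.erase 1
      · rw [mem_erase, memO] at hy
        obtain ⟨t, ht1, ht2⟩ := hcent y hy.2 hy.1
        exact ⟨t, fun _ => ⟨ht1, ht2⟩⟩
      · exact ⟨1, fun h => absurd h hy⟩
    choose τ hτ using hch
    set A : Finset (G × G) := (O.erase 1).image (fun y => (y, τ y)) with hA
    set B : Finset (G × G) := Inv.image (fun t => ((1 : G), t)) with hB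
    have hAcard : A.card = O.card - 1 := by
      rw [hA, card_image_of_injective, card_erase_of_mem h1O]
      intro y y' h
      exact (Prod.ext_iff.1 h).1
    have hBcard : B.card = Inv.card := by
      rw [hB, card_image_of_injective]
      intro y y' h
      exact (Prod.ext_iff.1 h).2
    have hdisj : Disjoint A B := by
      rw [disjoint_left]
      intro p hpA hpB
      rw [hA, mem_image] at hpA
      rw [hB, mem_image] at hpB
      obtain ⟨y, hy, rfl⟩ := hpA
      obtain ⟨t, _, ht⟩ := hpB
      have : (1 : G) = y := (Prod.ext_iff.1 ht).1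
      rw [mem_erase] at hy
      exact hy.1 this.symm
    have hsub : A ∪ B ⊆ Pr := by
      intro p hp
      rw [mem_union] at hp
      rcases hp with hp | hp
      · rw [hA, mem_image] at hp
        obtain ⟨y, hy, rfl⟩ := hp
        have h := hτ y hy
        rw [mem_erase, memO] at hy
        rw [memPr]
        exact ⟨⟨hy.2, h.1⟩, h.2.symm⟩
      · rw [hB, mem_image] at hp
        obtain ⟨t, ht, rfl⟩ := hp
        rw [memInv] at ht
        rw [memPr]
        refine ⟨⟨by simp, ht⟩, by simp⟩
    have := card_le_card hsub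
    rw [card_union_of_disjoint hdisj, hAcard, hBcard] at this
    have hOpos : 0 < O.card := card_pos.2 ⟨1, h1O⟩
    omega
  -- (c) `|Pr| * 2 ^ n ≤ Σ_t |C(t)|`
  have hc : Pr.card * 2 ^ n ≤ ∑ t ∈ Inv, Nat.card (Subgroup.centralizer ({t} : Set G)) := by
    have hPrcard : Pr.card = ∑ t ∈ Inv, (O.filter (fun y => y * t = t * y)).card := by
      rw [hPr, card_filter, sum_product_right]
      apply sum_congr rfl
      intro t _
      rw [card_filter]
    rw [hPrcard, sum_mul]
    apply sum_le_sum
    intro t ht
    rw [memInv] at ht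
    have h := hodd t ht
    have hcard : Nat.card {y : G // Odd (orderOf y) ∧ y * t = t * y} =
        (O.filter (fun y => y * t = t * y)).card := by
      rw [Nat.card_eq_fintype_card, Fintype.card_subtype, hO, filter_filter]
    rw [hcard] at h
    exact h
  -- conclusion
  obtain ⟨t0, ht0⟩ := hinv
  have hInvpos : 1 ≤ Inv.card := card_pos.2 ⟨t0, (memInv t0).2 ht0⟩
  have hGpos : 1 ≤ Fintype.card G := Fintype.card_pos
  rw [Nat.card_eq_fintype_card] at hsum
  set S := ∑ t ∈ Inv, Nat.card (Subgroup.centralizer ({t} : Set G)) with hS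
  obtain ⟨M, hM⟩ : ∃ M : ℕ, 2 ^ n = M + 1 := ⟨2 ^ n - 1, by
    have : 1 ≤ 2 ^ n := Nat.one_le_two_pow
    omega⟩
  rw [hM] at hsum hc
  simp only [Nat.add_sub_cancel] at hsum
  have hg2 : Fintype.card G ≤ 2 * Pr.card := by omega
  nlinarith [Nat.mul_le_mul_right (M + 1) hg2]

end Cfsg.Agent.Lib.Helper45.CH4
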