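import Mathlib
import Cfsg.Agent.Lib.Helper64.CH4Defs

/-!
# CH4-[INH-C] (helper45 for helper64's S4167 sheet)

`Hyp4` passes to the centralizer of an involution when Sylow `2`-subgroups are abelian.
-/

set_option autoImplicit false

namespace Cfsg.Agent.Lib.Helper45.CH4

open Cfsg.Agent.Lib.Helper64.CH4

/-- Under `Hyp4`, the `2`-part of `|G|` is at most twice the `2`-part of `|C_G(x)|`. -/
theorem factorization_card_le_succ {G : Type*} [Group G] [Finite G] (h : Hyp4 G) (x : G) :
    (Nat.card G).factorization 2 ≤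
      (Nat.card (Subgroup.centralizer ({x} : Set G))).factorization 2 + 1 := by
  set C := Subgroup.centralizer ({x} : Set G) with hC
  have hmul : Nat.card C * C.index = Nat.card G := C.card_mul_index
  have hc0 : Nat.card C ≠ 0 := Nat.card_pos.ne'
  have hi0 : C.index ≠ 0 := Subgroup.index_ne_zero_of_finite
  rw [← hmul, Nat.factorization_mul hc0 hi0, Finsupp.add_apply]
  have h4 : ¬ 2 ^ 2 ∣ C.index := h x
  rw [Nat.prime_two.pow_dvd_iff_le_factorization hi0] at h4
  omega

/-- A Sylow `2`-subgroup of `C_G(x)` has order `≥ |G|_2 / 2`, so no subgroup whose order is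
divisible by `4 * |R|` exists. -/
theorem not_four_mul_card_sylow_dvd {G : Type*} [Group G] [Finite G] (h : Hyp4 G) (x : G)
    (R : Sylow 2 ↥(Subgroup.centralizer ({x} : Set G))) :
    ¬ 4 * Nat.card R ∣ Nat.card G := by
  intro hd
  have h1 := factorization_card_le_succ h x
  rw [Sylow.card_eq_multiplicity] at hd
  have h2 : 2 ^ ((Nat.card (Subgroup.centralizer ({x} : Set G))).factorization 2 + 2) ∣
      Nat.card G := by
    rw [pow_add, mul_comm]; exact hd
  rw [Nat.prime_two.pow_dvd_iff_le_factorization Nat.card_pos.ne'] at h2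
  omega

/-- [INH-C], for a subgroup `K` whose elements are exactly those commuting with `t`. -/
theorem hyp4_centralizer_aux {G : Type*} [Group G] [Finite G] (h : Hyp4 G) (hab : AbSyl G)
    (t : G) (ht : orderOf t = 2) (K : Subgroup G) (hK : ∀ y : G, y ∈ K ↔ t * y = y * t) :
    Hyp4 ↥K := by
  classical
  intro x h4
  obtain ⟨C, hC⟩ : ∃ C : Subgroup G, C = Subgroup.centralizer ({(x : G)} : Set G) := ⟨_, rfl⟩
  have hcent : Subgroup.centralizer ({x} : Set K) = C.subgroupOf K := by
    ext y
    rw [Subgroup.mem_subgroupOf, hC, Subgroup.mem_centralizer_iff, Subgroup.mem_centralizer_iff]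
    constructor
    · intro hy z hz
      rw [Set.mem_singleton_iff] at hz
      subst hz
      have := hy x rfl
      exact congrArg Subtype.val this
    · intro hy z hz
      rw [Set.mem_singleton_iff] at hz
      subst hz
      exact Subtype.ext (hy (z : G) rfl)
  rw [hcent] at h4
  -- `t ∈ C`
  have htC : t ∈ C := by
    rw [hC, Subgroup.mem_centralizer_iff]
    intro y hy
    rw [Set.mem_singleton_iff] at hy
    subst hy
    exact ((hK _).1 x.2).symm
  -- a Sylow `2`-subgroup `R` of `C` containing `t`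
  have hp : IsPGroup 2 (Subgroup.zpowers (⟨t, htC⟩ : C)) := by
    apply IsPGroup.of_card (n := 1)
    rw [Nat.card_zpowers, Subgroup.orderOf_mk, ht, pow_one]
  obtain ⟨R, hR⟩ := hp.exists_le_sylow
  have htR : (⟨t, htC⟩ : C) ∈ (R : Subgroup C) := hR (Subgroup.mem_zpowers _)
  -- its image `R'` in `G` lies in a Sylow `2`-subgroup `Q` of `G`
  obtain ⟨Q, hQ⟩ := (R.isPGroup'.map C.subtype).exists_le_sylow
  have htQ : t ∈ (Q : Subgroup G) := hQ ⟨⟨t, htC⟩, htR, rfl⟩
  -- `R' ≤ C ⊓ K`
  have hle : (R : Subgroup C).map C.subtype ≤ C ⊓ K := by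
    intro r hr
    refine ⟨Subgroup.map_subtype_le _ hr, ?_⟩
    exact (hK r).2 (hab Q t htQ r (hQ hr))
  have hdvd : Nat.card R ∣ Nat.card ↥(C ⊓ K) := by
    rw [← Subgroup.card_subtype C (R : Subgroup C)]
    exact Subgroup.card_dvd_of_le hle
  -- `|G| = |C ⊓ K| * |K : C ⊓ K| * |G : K|`
  have hidx : Nat.card ↥(C ⊓ K) * (C.relIndex K * K.index) = Nat.card G := by
    rw [← Subgroup.inf_relIndex_right, Subgroup.relIndex_mul_index inf_le_right]
    exact Subgroup.card_mul_index _
  subst hC
  apply not_four_mul_card_sylow_dvd h (x : G) R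
  rw [← hidx]
  have h4' : 4 ∣ (Subgroup.centralizer ({(x : G)} : Set G)).relIndex K := h4
  calc 4 * Nat.card R ∣ (Subgroup.centralizer ({(x : G)} : Set G)).relIndex K *
        Nat.card ↥(Subgroup.centralizer ({(x : G)} : Set G) ⊓ K) := mul_dvd_mul h4' hdvd
    _ ∣ Nat.card ↥(Subgroup.centralizer ({(x : G)} : Set G) ⊓ K) *
        ((Subgroup.centralizer ({(x : G)} : Set G)).relIndex K * K.index) :=
        ⟨K.index, by ring⟩

/-- [INH-C] -/
theorem hyp4_centralizer {G : Type*} [Group G] [Finite G] (h : Hyp4 G) (hab : AbSyl G)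
    (t : G) (ht : orderOf t = 2) : Hyp4 ↥(Subgroup.centralizer ({t} : Set G)) := by
  apply hyp4_centralizer_aux h hab t ht
  intro y
  rw [Subgroup.mem_centralizer_iff]
  constructor
  · intro hy; exact hy t rfl
  · intro hy z hz
    rw [Set.mem_singleton_iff] at hz
    subst hz
    exact hy

end Cfsg.Agent.Lib.Helper45.CH4
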