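import Mathlib
import Cfsg.Agent.Lib.Helper64.CH4Defs
import Cfsg.Agent.Lib.Helper45.CH4InhC
import Cfsg.Agent.Lib.Helper73.ConjUnion

/-!
# CH4-[EXP2] (helper45 for helper64's S4167 sheet)

`Hyp4` and trivial centre force Sylow `2`-subgroups of exponent `2`.
-/

set_option autoImplicit false

namespace Cfsg.Agent.Lib.Helper45.CH4

open Cfsg.Agent.Lib.Helper64.CH4
open Pointwise

/-- If the `2`-part of `|G|` is at most twice that of `|C|`, and `Q` is a Sylow `2`-subgroup of
`G` containing (the image of) a Sylow `2`-subgroup `R` of `C`, then the square of every element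
of `Q` lies in `R`. -/
theorem sq_mem_of_sylow_le {G : Type*} [Group G] [Finite G] (C : Subgroup G)
    (hle : (Nat.card G).factorization 2 ≤ (Nat.card C).factorization 2 + 1)
    (R : Sylow 2 ↥C) (Q : Sylow 2 G)
    (hRQ : (R : Subgroup C).map C.subtype ≤ Q)
    (a : G) (ha : a ∈ Q) : a ^ 2 ∈ (R : Subgroup C).map C.subtype := by
  classical
  obtain ⟨R', hR'⟩ : ∃ R' : Subgroup G, R' = (R : Subgroup C).map C.subtype := ⟨_, rfl⟩
  rw [← hR'] at hRQ ⊢
  -- index of `R'` in `Q`
  have hcardR : Nat.card R' = 2 ^ (Nat.card C).factorization 2 := by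
    rw [hR', Subgroup.card_subtype]
    exact R.card_eq_multiplicity
  have hcardQ : Nat.card Q = 2 ^ (Nat.card G).factorization 2 := Q.card_eq_multiplicity
  have hmul : Nat.card (R'.subgroupOf Q) * (R'.subgroupOf Q).index = Nat.card Q :=
    Subgroup.card_mul_index _
  have hcardsub : Nat.card (R'.subgroupOf Q) = Nat.card R' :=
    Nat.card_congr (Subgroup.subgroupOfEquivOfLe hRQ).toEquiv
  rw [hcardsub, hcardR, hcardQ] at hmul
  have hvle : (Nat.card C).factorization 2 ≤ (Nat.card G).factorization 2 := by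
    have : 2 ^ (Nat.card C).factorization 2 ∣ 2 ^ (Nat.card G).factorization 2 :=
      ⟨_, hmul.symm⟩
    exact (Nat.pow_dvd_pow_iff_le_right (by norm_num)).1 this
  have hidx : (R'.subgroupOf Q).index = 1 ∨ (R'.subgroupOf Q).index = 2 := by
    rcases Nat.lt_or_ge ((Nat.card C).factorization 2) ((Nat.card G).factorization 2) with
      hlt | hge
    · right
      have he : (Nat.card G).factorization 2 = (Nat.card C).factorization 2 + 1 := by omega
      rw [he, pow_succ] at hmul
      exact Nat.eq_of_mul_eq_mul_left (by positivity) hmul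
    · left
      have he : (Nat.card G).factorization 2 = (Nat.card C).factorization 2 := by omega
      rw [he] at hmul
      have : 2 ^ (Nat.card C).factorization 2 * (R'.subgroupOf Q).index =
          2 ^ (Nat.card C).factorization 2 * 1 := by rw [mul_one]; exact hmul
      exact Nat.eq_of_mul_eq_mul_left (by positivity) this
  have hmem' : (⟨a, ha⟩ : (Q : Subgroup G)) ^ 2 ∈ R'.subgroupOf Q := by
    rcases hidx with h1 | h2
    · rw [Subgroup.index_eq_one] at h1
      rw [h1]; trivial
    · exact Subgroup.sq_mem_of_index_two h2 _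
  rw [Subgroup.mem_subgroupOf] at hmem'
  simpa using hmem'

/-- Under `Hyp4`, if `Q` is a Sylow `2`-subgroup of `G` containing (the image of) a Sylow
`2`-subgroup of `C_G(x)`, then the square of every element of `Q` commutes with `x`. -/
theorem sq_comm_of_mem_sylow {G : Type*} [Group G] [Finite G] (h : Hyp4 G) (x : G)
    (R : Sylow 2 ↥(Subgroup.centralizer ({x} : Set G))) (Q : Sylow 2 G)
    (hRQ : (R : Subgroup _).map (Subgroup.centralizer ({x} : Set G)).subtype ≤ Q)
    (a : G) (ha : a ∈ Q) : a ^ 2 * x = x * a ^ 2 := by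
  have hmem := sq_mem_of_sylow_le _ (factorization_card_le_succ h x) R Q hRQ a ha
  have h1 : a ^ 2 ∈ Subgroup.centralizer ({x} : Set G) := Subgroup.map_subtype_le _ hmem
  rw [Subgroup.mem_centralizer_iff] at h1
  exact (h1 x rfl).symm

/-- [EXP2] -/
theorem sylow_exp_two {G : Type*} [Group G] [Finite G] (h : Hyp4 G)
    (hZ : Subgroup.center G = ⊥) (P : Sylow 2 G) : ∀ a ∈ P, a ^ 2 = 1 := by
  classical
  -- `D` = centralizer of the squares of `P`
  set S : Set G := {b | ∃ a ∈ (P : Subgroup G), b = a ^ 2} with hS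
  set D : Subgroup G := Subgroup.centralizer S with hD
  -- every element has a conjugate in `D`
  have hconj : ∀ x : G, ∃ g : G, g⁻¹ * x * g ∈ D := by
    intro x
    obtain ⟨R⟩ : Nonempty (Sylow 2 ↥(Subgroup.centralizer ({x} : Set G))) := inferInstance
    obtain ⟨Q, hQ⟩ := (R.isPGroup'.map (Subgroup.centralizer ({x} : Set G)).subtype).exists_le_sylow
    obtain ⟨g, hg⟩ := MulAction.exists_smul_eq G P Q
    refine ⟨g, ?_⟩
    rw [hD, Subgroup.mem_centralizer_iff]
    rintro b ⟨a, ha, rfl⟩
    have haQ : g * a * g⁻¹ ∈ (Q : Subgroup G) := by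
      rw [← hg, Sylow.coe_subgroup_smul]
      exact ⟨a, ha, by simp [MulAut.smul_def]⟩
    have hcomm := sq_comm_of_mem_sylow h x R Q hQ _ haQ
    have hsq : (g * a * g⁻¹) ^ 2 = g * a ^ 2 * g⁻¹ := by
      rw [pow_two, pow_two]; group
    rw [hsq] at hcomm
    -- `g a² g⁻¹ x = x g a² g⁻¹`
    calc a ^ 2 * (g⁻¹ * x * g) = g⁻¹ * (g * a ^ 2 * g⁻¹ * x) * g := by group
      _ = g⁻¹ * (x * (g * a ^ 2 * g⁻¹)) * g := by rw [hcomm]
      _ = g⁻¹ * x * g * a ^ 2 := by group
  -- Jordan's lemma
  have hDtop : D = ⊤ := by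
    by_contra hne
    obtain ⟨x, hx⟩ := Cfsg.Agent.Lib.Helper73.exists_not_mem_conj_of_ne_top D hne
    obtain ⟨g, hg⟩ := hconj x
    apply hx g
    rw [Cfsg.Agent.Lib.Helper73.mem_conj_smul_iff]
    exact hg
  intro a ha
  have hcen : a ^ 2 ∈ Subgroup.center G := by
    rw [Subgroup.mem_center_iff]
    intro y
    have hy : y ∈ D := by rw [hDtop]; trivial
    rw [hD, Subgroup.mem_centralizer_iff] at hy
    exact (hy (a ^ 2) ⟨a, ha, rfl⟩).symm
  rw [hZ, Subgroup.mem_bot] at hcen
  exact hcen

end Cfsg.Agent.Lib.Helper45.CH4
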