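import Mathlib
import Cfsg.Agent.Lib.Helper84.FTr.Core

/-!
# FTR module [SELF] (helper45): maps of `F` conjugated by an `F`-automorphism of `S` are maps of `F`
-/

set_option autoImplicit false

namespace Cfsg.Agent.Lib.Helper45.FTr

open Cfsg Cfsg.FusionSystem Cfsg.Agent.Lib.Helper84.FTr Cfsg.Agent.Lib.Helper87

variable {Ω : Type*} [Group Ω] {S : Subgroup Ω}

/-- the transported map `α φ α⁻¹` is a map of `F` when `α` is an `F`-automorphism of `S`. -/
theorem trMap_mem_of_isIso {F : FusionSystem S} (α : S ≃* S) (hα : IsIso F α) {P : Subgroup Ω}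
    {φ : P →* Ω} (hφ : φ ∈ F.Hom P) :
    trMap α (hom_le F hφ) φ (hom_map_mem F hφ) ∈ F.Hom (im α P) := by
  have hP : P ≤ S := hom_le F hφ
  have hβ : IsIso F α.symm := hα.symm
  -- `ψ₁ = α⁻¹` on `im α P`
  have hψ₁ : (S.subtype.comp α.symm.toMonoidHom).comp (Subgroup.inclusion (im_le α P)) ∈
      F.Hom (im α P) := restrict_mem F hβ (im_le α P)
  have hval : ∀ y : im α P,
      ((S.subtype.comp α.symm.toMonoidHom).comp (Subgroup.inclusion (im_le α P))) y ∈ P := by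
    rintro ⟨y, hy⟩
    obtain ⟨x, hx, hxP, rfl⟩ := (mem_im_iff α P y).1 hy
    show ((α.symm ⟨(α ⟨x, hx⟩ : Ω), _⟩ : S) : Ω) ∈ P
    rw [Subtype.coe_eta, α.symm_apply_apply]
    exact hxP
  have hχ₂ : φ.comp (((S.subtype.comp α.symm.toMonoidHom).comp
      (Subgroup.inclusion (im_le α P))).codRestrict P hval) ∈ F.Hom (im α P) :=
    F.comp_mem hψ₁ hφ hval
  refine IsIso.comp_hom hα hχ₂ (fun y => hom_map_mem F hχ₂ y) ?_
  rintro ⟨y, hy⟩
  obtain ⟨x, hx, hxP, rfl⟩ := (mem_im_iff α P y).1 hy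
  have h1 := trMap_apply α hP φ (hom_map_mem F hφ) ⟨x, hxP⟩ hy
  rw [h1]
  congr 2
  apply Subtype.ext
  show φ ⟨x, hxP⟩ = φ ⟨((α.symm ⟨(α ⟨x, hx⟩ : Ω), _⟩ : S) : Ω), _⟩
  congr 1
  apply Subtype.ext
  show x = ((α.symm ⟨(α ⟨x, hx⟩ : Ω), _⟩ : S) : Ω)
  rw [Subtype.coe_eta, α.symm_apply_apply]

/-- MODULE [SELF] -/
theorem corr_self_of_isIso {F : FusionSystem S} (α : S ≃* S)
    (hα : S.subtype.comp α.toMonoidHom ∈ F.Hom S) : Corr α F F := by
  have hα' : IsIso F α := hα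
  refine ⟨le_refl S, (im_self α).symm, ?_⟩
  intro P' φ'
  constructor
  · intro hφ'
    have hP' : P' ≤ S := hom_le F hφ'
    have hm := trMap_mem_of_isIso α.symm hα'.symm hφ'
    refine ⟨im α.symm P', trMap α.symm hP' φ' (hom_map_mem F hφ'), hm, im_im_symm α hP', ?_⟩
    have := inducedAlong_symm α.symm rfl (inducedAlong_trMap α.symm hP' φ' (hom_map_mem F hφ'))
    rwa [MulEquiv.symm_symm] at this
  · rintro ⟨P, φ, hφ, rfl, hi⟩
    have hm := trMap_mem_of_isIso α hα' hφ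
    have := inducedAlong_unique α hi (inducedAlong_trMap α (hom_le F hφ) φ (hom_map_mem F hφ))
    rw [this]
    exact hm

end Cfsg.Agent.Lib.Helper45.FTr
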