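/-
helper45: project ASCHOE (helper55): module ASCHOE-[E-TENSOR2], abstract half.

`S` a matrix with `S² = δ ≠ 0`, skew-adjoint for the polar form of the non-degenerate quadratic form `Q` (char ≠ 2),
which every element of `H` commutes or anticommutes with.  If `δ` is a square the two eigenspaces of `S` are a pair of
complementary totally singular subspaces permuted by `H`; otherwise `F[S]` is a quadratic field, adjoint-closed and not
self-adjoint, acting by similarities and normalised by `H`.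
-/
import Mathlib
import Cfsg.Prelude.Def_GeometricClasses
import Cfsg.Agent.Lib.Helper55.Oe.Defs

set_option autoImplicit false

namespace Cfsg.Agent.Lib.Helper45.OeETensor2

open Cfsg Cfsg.Geo Cfsg.Agent.Lib.Helper55.Oe
open scoped MatrixGroups Matrix Kronecker

variable {n : ℕ} {F : Type*} [Field F]

/-- the eigenspace of a matrix -/
def eig (S : Matrix (Fin n) (Fin n) F) (μ : F) : Submodule F (Fin n → F) where
  carrier := {v | S *ᵥ v = μ • v}
  add_mem' := by
    intro a b ha hb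
    show S *ᵥ (a + b) = μ • (a + b)
    have ha' : S *ᵥ a = μ • a := ha
    have hb' : S *ᵥ b = μ • b := hb
    rw [Matrix.mulVec_add, ha', hb', smul_add]
  zero_mem' := by
    show S *ᵥ (0 : Fin n → F) = μ • (0 : Fin n → F)
    rw [Matrix.mulVec_zero, smul_zero]
  smul_mem' := by
    intro c a ha
    show S *ᵥ (c • a) = μ • (c • a)
    have ha' : S *ᵥ a = μ • a := ha
    rw [Matrix.mulVec_smul, ha', smul_comm]

theorem mem_eig {S : Matrix (Fin n) (Fin n) F} {μ : F} {v : Fin n → F} :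
    v ∈ eig S μ ↔ S *ᵥ v = μ • v := Iff.rfl

/-- an invertible matrix intertwining `S` and `T` maps eigenspaces onto eigenspaces -/
theorem map_eig (h : GL (Fin n) F) (S T : Matrix (Fin n) (Fin n) F) (μ : F)
    (hc : (h : Matrix (Fin n) (Fin n) F) * S = T * (h : Matrix (Fin n) (Fin n) F)) :
    (eig S μ).map (Matrix.toLin' (h : Matrix (Fin n) (Fin n) F)) = eig T μ := by
  apply le_antisymm
  · rintro _ ⟨v, hv, rfl⟩
    have hv' : S *ᵥ v = μ • v := hv
    rw [Matrix.toLin'_apply, mem_eig, Matrix.mulVec_mulVec, ← hc, ← Matrix.mulVec_mulVec, hv',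
      Matrix.mulVec_smul]
  · intro w hw
    have hw' : T *ᵥ w = μ • w := hw
    refine ⟨((h⁻¹ : GL (Fin n) F) : Matrix (Fin n) (Fin n) F) *ᵥ w, ?_, ?_⟩
    · show S *ᵥ (((h⁻¹ : GL (Fin n) F) : Matrix (Fin n) (Fin n) F) *ᵥ w) =
        μ • (((h⁻¹ : GL (Fin n) F) : Matrix (Fin n) (Fin n) F) *ᵥ w)
      have h1 : S = ((h⁻¹ : GL (Fin n) F) : Matrix (Fin n) (Fin n) F) * T *
          (h : Matrix (Fin n) (Fin n) F) := by
        rw [mul_assoc, ← hc, ← mul_assoc, ← Units.val_mul, inv_mul_cancel, Units.val_one, one_mul]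
      rw [h1, Matrix.mulVec_mulVec, mul_assoc, ← Units.val_mul, mul_inv_cancel, Units.val_one, mul_one,
        ← Matrix.mulVec_mulVec, hw', Matrix.mulVec_smul]
    · rw [Matrix.toLin'_apply, Matrix.mulVec_mulVec, ← Units.val_mul, mul_inv_cancel, Units.val_one,
        Matrix.one_mulVec]

theorem eig_neg (S : Matrix (Fin n) (Fin n) F) (μ : F) : eig (-S) μ = eig S (-μ) := by
  ext v
  rw [mem_eig, mem_eig, Matrix.neg_mulVec, neg_smul, neg_eq_iff_eq_neg]

section quad

variable {Q : (Fin n → F) → F}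

theorem polar_self' (hQ : IsNondegenerateQuadraticForm Q) (v : Fin n → F) :
    QuadraticMap.polar Q v v = 2 * Q v := by
  have h1 : v + v = (2 : F) • v := (two_smul F v).symm
  rw [QuadraticMap.polar, h1, hQ.smul]
  ring

theorem polar_zero_right (hQ : IsNondegenerateQuadraticForm Q) (v : Fin n → F) :
    QuadraticMap.polar Q v 0 = 0 := by
  have h := hQ.polar_bilinear.smul_right 0 v 0
  simpa using h

theorem polar_neg_right (hQ : IsNondegenerateQuadraticForm Q) (u v : Fin n → F) :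
    QuadraticMap.polar Q u (-v) = - QuadraticMap.polar Q u v := by
  have h := hQ.polar_bilinear.smul_right (-1) u v
  simpa using h

/-- the polar form as a bilinear map -/
noncomputable def polarLin (hQ : IsNondegenerateQuadraticForm Q) :
    (Fin n → F) →ₗ[F] (Fin n → F) →ₗ[F] F :=
  LinearMap.mk₂ F (QuadraticMap.polar Q) hQ.polar_bilinear.add_left hQ.polar_bilinear.smul_left
    hQ.polar_bilinear.add_right hQ.polar_bilinear.smul_right

theorem polarLin_apply (hQ : IsNondegenerateQuadraticForm Q) (u v : Fin n → F) :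
    polarLin hQ u v = QuadraticMap.polar Q u v := rfl

/-- two complementary subspaces, each totally isotropic for the polar form: the first has dimension at most that of
the second -/
theorem finrank_le_of_isotropic_pair (hQ : IsNondegenerateQuadraticForm Q)
    (U W : Submodule F (Fin n → F)) (hsup : U ⊔ W = ⊤)
    (hU : ∀ u ∈ U, ∀ u' ∈ U, QuadraticMap.polar Q u u' = 0) :
    Module.finrank F U ≤ Module.finrank F W := by
  have hinj : Function.Injective ((polarLin hQ).domRestrict₁₂ U W) := by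
    rw [← LinearMap.ker_eq_bot, LinearMap.ker_eq_bot']
    intro u hu
    by_contra hne
    have hne' : (u : Fin n → F) ≠ 0 := fun h => hne (Subtype.ext h)
    obtain ⟨x, hx⟩ := (hQ.nondegenerate (u : Fin n → F) hne').2
    apply hx
    have hxm : x ∈ U ⊔ W := by rw [hsup]; trivial
    obtain ⟨a, ha, b, hb, rfl⟩ := Submodule.mem_sup.1 hxm
    rw [hQ.polar_bilinear.add_right, hU u u.2 a ha, zero_add]
    have h1 := LinearMap.congr_fun hu ⟨b, hb⟩
    exact h1
  have h1 := LinearMap.finrank_le_finrank_of_injective hinj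
  have h3 : Module.finrank F (↥W →ₗ[F] F) = Module.finrank F W := Subspace.dual_finrank_eq
  omega

end quad

section square

variable {Q : (Fin n → F) → F}

/-- eigenvectors of a skew-adjoint matrix for a non-zero eigenvalue are pairwise orthogonal -/
theorem polar_eq_zero_of_mem_eig (hQ : IsNondegenerateQuadraticForm Q) (h2 : (2 : F) ≠ 0)
    (S : Matrix (Fin n) (Fin n) F) (ν : F) (hν : ν ≠ 0)
    (hskew : ∀ u v, QuadraticMap.polar Q (S *ᵥ u) v = - QuadraticMap.polar Q u (S *ᵥ v))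
    (u u' : Fin n → F) (hu : u ∈ eig S ν) (hu' : u' ∈ eig S ν) : QuadraticMap.polar Q u u' = 0 := by
  have h1 := hskew u u'
  rw [mem_eig.1 hu, mem_eig.1 hu', hQ.polar_bilinear.smul_left, hQ.polar_bilinear.smul_right] at h1
  have h3 : (2 * ν) * QuadraticMap.polar Q u u' = 0 := by linear_combination h1
  rcases mul_eq_zero.1 h3 with h | h
  · exact absurd h (mul_ne_zero h2 hν)
  · exact h

theorem outTSPair_of_skew_square (hQ : IsNondegenerateQuadraticForm Q) (h2 : (2 : F) ≠ 0) (hn : 0 < n)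
    {H : Subgroup (GL (Fin n) F)} (S : Matrix (Fin n) (Fin n) F) (μ : F) (hμ : μ ≠ 0)
    (hS2 : ∀ v, S *ᵥ (S *ᵥ v) = (μ * μ) • v)
    (hskew : ∀ u v, QuadraticMap.polar Q (S *ᵥ u) v = - QuadraticMap.polar Q u (S *ᵥ v))
    (hH : ∀ h ∈ H, (h : Matrix (Fin n) (Fin n) F) * S = S * (h : Matrix (Fin n) (Fin n) F) ∨
      (h : Matrix (Fin n) (Fin n) F) * S = -(S * (h : Matrix (Fin n) (Fin n) F))) :
    OutTSPair Q H := by
  classical
  have hnμ : -μ ≠ 0 := neg_ne_zero.2 hμ
  have h2μ : (2 * μ) ≠ 0 := mul_ne_zero h2 hμ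
  let D : Fin 2 → Submodule F (Fin n → F) := fun i => if i = 0 then eig S μ else eig S (-μ)
  have hD0 : D 0 = eig S μ := rfl
  have hD1 : D 1 = eig S (-μ) := rfl
  have hiso0 : ∀ u ∈ eig S μ, ∀ u' ∈ eig S μ, QuadraticMap.polar Q u u' = 0 :=
    fun u hu u' hu' => polar_eq_zero_of_mem_eig hQ h2 S μ hμ hskew u u' hu hu'
  have hiso1 : ∀ u ∈ eig S (-μ), ∀ u' ∈ eig S (-μ), QuadraticMap.polar Q u u' = 0 :=
    fun u hu u' hu' => polar_eq_zero_of_mem_eig hQ h2 S (-μ) hnμ hskew u u' hu hu'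
  have hsup : eig S μ ⊔ eig S (-μ) = ⊤ := by
    rw [eq_top_iff]
    intro v _
    have ha : (2 * μ)⁻¹ • (μ • v + S *ᵥ v) ∈ eig S μ := by
      rw [mem_eig, Matrix.mulVec_smul, Matrix.mulVec_add, Matrix.mulVec_smul, hS2]
      generalize S *ᵥ v = w
      ext i
      simp only [Pi.smul_apply, Pi.add_apply, smul_eq_mul]
      ring
    have hb : (2 * μ)⁻¹ • (μ • v - S *ᵥ v) ∈ eig S (-μ) := by
      rw [mem_eig, Matrix.mulVec_smul, Matrix.mulVec_sub, Matrix.mulVec_smul, hS2]
      generalize S *ᵥ v = w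
      ext i
      simp only [Pi.smul_apply, Pi.sub_apply, smul_eq_mul]
      ring
    rw [Submodule.mem_sup]
    refine ⟨_, ha, _, hb, ?_⟩
    generalize S *ᵥ v = w
    ext i
    simp only [Pi.smul_apply, Pi.add_apply, Pi.sub_apply, smul_eq_mul]
    field_simp
    ring
  have hdisj : Disjoint (eig S μ) (eig S (-μ)) := by
    rw [Submodule.disjoint_def]
    intro v hv hv'
    have h1 : μ • v = (-μ) • v := (mem_eig.1 hv).symm.trans (mem_eig.1 hv')
    have h3 : (2 * μ) • v = 0 := by
      rw [mul_smul, two_smul]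
      nth_rewrite 2 [h1]
      rw [neg_smul, add_neg_cancel]
    rcases smul_eq_zero.1 h3 with h | h
    · exact absurd h h2μ
    · exact h
  have hfin : Module.finrank F (eig S (-μ)) = Module.finrank F (eig S μ) := by
    apply le_antisymm
    · exact finrank_le_of_isotropic_pair hQ _ _ (by rw [sup_comm]; exact hsup) hiso1
    · exact finrank_le_of_isotropic_pair hQ _ _ hsup hiso0
  have hpos : 0 < Module.finrank F (eig S μ) := by
    by_contra h0
    have h0' : Module.finrank F (eig S μ) = 0 := by omega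
    have h1 : eig S μ = ⊥ := Submodule.finrank_eq_zero.1 h0'
    have h3 : eig S (-μ) = ⊥ := Submodule.finrank_eq_zero.1 (hfin.trans h0')
    rw [h1, h3, sup_bot_eq] at hsup
    have h4 : (Pi.single (⟨0, hn⟩ : Fin n) (1 : F) : Fin n → F) ∈ (⊥ : Submodule F (Fin n → F)) := by
      rw [hsup]; trivial
    rw [Submodule.mem_bot] at h4
    have h5 := congrFun h4 ⟨0, hn⟩
    rw [Pi.single_eq_same, Pi.zero_apply] at h5
    exact one_ne_zero h5
  have hforall : ∀ (p : Fin 2 → Prop), p 0 → p 1 → ∀ i, p i := by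
    intro p h0 h1 i
    fin_cases i
    · exact h0
    · exact h1
  refine ⟨Module.finrank F (eig S μ), D, ⟨le_refl 2, hpos, ?_, ?_, ?_⟩, ?_, ?_⟩
  · exact hforall _ rfl hfin
  · rw [iSupIndep_pair (i := (0 : Fin 2)) (j := 1) (by decide) (by decide)]
    exact hdisj
  · rw [eq_top_iff, ← hsup]
    exact sup_le (le_iSup D 0) (le_iSup D 1)
  · -- totally singular
    have hts : ∀ ν, ν ≠ 0 → IsTotallySingularQuad Q (eig S ν) := by
      intro ν hν w hw
      have h1 := polar_eq_zero_of_mem_eig hQ h2 S ν hν hskew w w hw hw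
      rw [polar_self' hQ] at h1
      rcases mul_eq_zero.1 h1 with h | h
      · exact absurd h h2
      · exact h
    exact hforall _ (hts μ hμ) (hts (-μ) hnμ)
  · intro h hh
    rcases hH h hh with hc | hc
    · refine ⟨1, ?_⟩
      exact hforall _ (map_eig h S S μ hc) (map_eig h S S (-μ) hc)
    · refine ⟨Equiv.swap 0 1, ?_⟩
      have hc' : (h : Matrix (Fin n) (Fin n) F) * S = (-S) * (h : Matrix (Fin n) (Fin n) F) := by
        rw [hc, Matrix.neg_mul]
      refine hforall _ ?_ ?_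
      · rw [Equiv.swap_apply_left, hD0, hD1, map_eig h S (-S) μ hc', eig_neg]
      · rw [Equiv.swap_apply_right, hD0, hD1, map_eig h S (-S) (-μ) hc', eig_neg, neg_neg]

end square

section nonsquare

variable {Q : (Fin n → F) → F}

theorem quad_mul (S : Matrix (Fin n) (Fin n) F) (δ : F) (hS2 : S * S = δ • (1 : Matrix (Fin n) (Fin n) F))
    (a b a' b' : F) :
    (a • (1 : Matrix (Fin n) (Fin n) F) + b • S) * (a' • (1 : Matrix (Fin n) (Fin n) F) + b' • S) =
      (a * a' + b * b' * δ) • (1 : Matrix (Fin n) (Fin n) F) + (a * b' + b * a') • S := by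
  simp only [add_mul, mul_add, smul_mul_assoc, mul_smul_comm, one_mul, mul_one, hS2]
  module

theorem quad_mulVec (S : Matrix (Fin n) (Fin n) F) (a b : F) (v : Fin n → F) :
    (a • (1 : Matrix (Fin n) (Fin n) F) + b • S) *ᵥ v = a • v + b • (S *ᵥ v) := by
  rw [Matrix.add_mulVec, Matrix.smul_mulVec, Matrix.smul_mulVec, Matrix.one_mulVec]

/-- the subalgebra `F + F S` for `S² = δ` -/
def quadAlg (S : Matrix (Fin n) (Fin n) F) (δ : F) (hS2 : S * S = δ • (1 : Matrix (Fin n) (Fin n) F)) :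
    Subalgebra F (Matrix (Fin n) (Fin n) F) where
  carrier := {M | ∃ a b : F, M = a • (1 : Matrix (Fin n) (Fin n) F) + b • S}
  mul_mem' := by
    rintro _ _ ⟨a, b, rfl⟩ ⟨a', b', rfl⟩
    exact ⟨_, _, quad_mul S δ hS2 a b a' b'⟩
  add_mem' := by
    rintro _ _ ⟨a, b, rfl⟩ ⟨a', b', rfl⟩
    exact ⟨a + a', b + b', by module⟩
  algebraMap_mem' := by
    intro r
    exact ⟨r, 0, by rw [zero_smul, add_zero, Algebra.algebraMap_eq_smul_one]⟩

theorem mem_quadAlg {S : Matrix (Fin n) (Fin n) F} {δ : F}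
    {hS2 : S * S = δ • (1 : Matrix (Fin n) (Fin n) F)} {M : Matrix (Fin n) (Fin n) F} :
    M ∈ quadAlg S δ hS2 ↔ ∃ a b : F, M = a • (1 : Matrix (Fin n) (Fin n) F) + b • S := Iff.rfl

/-- the norm `a² − b² δ` does not vanish for a non-square `δ` -/
theorem norm_ne_zero {δ : F} (hδ : ¬ IsSquare δ) {a b : F} (hab : a ≠ 0 ∨ b ≠ 0) :
    a * a - b * b * δ ≠ 0 := by
  intro h
  by_cases hb : b = 0
  · subst hb
    have ha : a ≠ 0 := by
      rcases hab with h1 | h1
      · exact h1
      · exact absurd rfl h1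
    apply ha
    have h1 : a * a = 0 := by linear_combination h
    exact mul_self_eq_zero.1 h1
  · apply hδ
    refine ⟨a / b, ?_⟩
    field_simp
    linear_combination -h

theorem one_ne_zero_mat (hn : 0 < n) : (1 : Matrix (Fin n) (Fin n) F) ≠ 0 := by
  intro h
  have h1 := congrFun (congrFun h ⟨0, hn⟩) ⟨0, hn⟩
  rw [Matrix.one_apply_eq, Matrix.zero_apply] at h1
  exact one_ne_zero h1

/-- `a + b S = 0` forces `a = b = 0` -/
theorem quad_eq_zero (hn : 0 < n) (S : Matrix (Fin n) (Fin n) F) (δ : F) (hδ : ¬ IsSquare δ)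
    (hS2 : S * S = δ • (1 : Matrix (Fin n) (Fin n) F)) (a b : F)
    (h : a • (1 : Matrix (Fin n) (Fin n) F) + b • S = 0) : a = 0 ∧ b = 0 := by
  by_contra hne
  have hab : a ≠ 0 ∨ b ≠ 0 := by
    by_contra h1
    rw [not_or, not_not, not_not] at h1
    exact hne h1
  have h1 := quad_mul S δ hS2 a b a (-b)
  rw [h, zero_mul] at h1
  have h3 : (a * -b + b * a) = 0 := by ring
  rw [h3, zero_smul, add_zero] at h1
  have h4 : a * a + b * -b * δ = a * a - b * b * δ := by ring
  rw [h4] at h1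
  rcases smul_eq_zero.1 h1.symm with h5 | h5
  · exact norm_ne_zero hδ hab h5
  · exact one_ne_zero_mat hn h5

theorem outFieldU_of_skew_nonsquare (hQ : IsNondegenerateQuadraticForm Q) (h2 : (2 : F) ≠ 0) (hn : 0 < n)
    {H : Subgroup (GL (Fin n) F)} (S : Matrix (Fin n) (Fin n) F) (δ : F) (hδ : ¬ IsSquare δ)
    (hS2 : S * S = δ • (1 : Matrix (Fin n) (Fin n) F))
    (hskew : ∀ u v, QuadraticMap.polar Q (S *ᵥ u) v = - QuadraticMap.polar Q u (S *ᵥ v))
    (hH : ∀ h ∈ H, (h : Matrix (Fin n) (Fin n) F) * S = S * (h : Matrix (Fin n) (Fin n) F) ∨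
      (h : Matrix (Fin n) (Fin n) F) * S = -(S * (h : Matrix (Fin n) (Fin n) F))) :
    OutFieldU Q H := by
  classical
  have hb := hQ.polar_bilinear
  have hδ0 : δ ≠ 0 := by
    rintro rfl
    exact hδ ⟨0, by ring⟩
  -- `B(Sv, v) = 0`
  have hSv : ∀ v, QuadraticMap.polar Q (S *ᵥ v) v = 0 := by
    intro v
    have h1 := hskew v v
    rw [QuadraticMap.polar_comm Q v (S *ᵥ v)] at h1
    have h3 : 2 * QuadraticMap.polar Q (S *ᵥ v) v = 0 := by linear_combination h1
    rcases mul_eq_zero.1 h3 with h | h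
    · exact absurd h h2
    · exact h
  have hSS : ∀ v, S *ᵥ (S *ᵥ v) = δ • v := by
    intro v
    rw [Matrix.mulVec_mulVec, hS2, Matrix.smul_mulVec, Matrix.one_mulVec]
  refine ⟨quadAlg S δ hS2, ⟨?_, ?_, ?_⟩, ?_, ?_, ?_, ?_⟩
  · -- commutative
    rintro _ ⟨a, b, rfl⟩ _ ⟨a', b', rfl⟩
    rw [quad_mul S δ hS2, quad_mul S δ hS2]
    congr 2 <;> ring
  · -- inverses
    rintro _ ⟨a, b, rfl⟩ hne
    have hab : a ≠ 0 ∨ b ≠ 0 := by
      by_contra h1
      rw [not_or, not_not, not_not] at h1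
      apply hne
      rw [h1.1, h1.2, zero_smul, zero_smul, add_zero]
    have hN := norm_ne_zero hδ hab
    refine ⟨(a / (a * a - b * b * δ)) • (1 : Matrix (Fin n) (Fin n) F) + (-b / (a * a - b * b * δ)) • S,
      ⟨_, _, rfl⟩, ?_⟩
    rw [quad_mul S δ hS2]
    have h1 : a * (a / (a * a - b * b * δ)) + b * (-b / (a * a - b * b * δ)) * δ = 1 := by
      have h4 : a * (a / (a * a - b * b * δ)) + b * (-b / (a * a - b * b * δ)) * δ =
          (a * a - b * b * δ) / (a * a - b * b * δ) := by ring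
      rw [h4, div_self hN]
    have h3 : a * (-b / (a * a - b * b * δ)) + b * (a / (a * a - b * b * δ)) = 0 := by
      ring
    rw [h1, h3, one_smul, zero_smul, add_zero]
  · -- dimension two
    have hli : LinearIndependent F ![(1 : Matrix (Fin n) (Fin n) F), S] := by
      rw [LinearIndependent.pair_iff]
      intro a b hab
      exact quad_eq_zero hn S δ hδ hS2 a b hab
    have hspan : Subalgebra.toSubmodule (quadAlg S δ hS2) =
        Submodule.span F (Set.range ![(1 : Matrix (Fin n) (Fin n) F), S]) := by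
      ext M
      rw [Subalgebra.mem_toSubmodule, mem_quadAlg, Submodule.mem_span_range_iff_exists_fun]
      constructor
      · rintro ⟨a, b, rfl⟩
        exact ⟨![a, b], by simp [Fin.sum_univ_two]⟩
      · rintro ⟨c, rfl⟩
        exact ⟨c 0, c 1, by simp [Fin.sum_univ_two]⟩
    rw [← Subalgebra.finrank_toSubmodule, hspan, finrank_span_eq_card hli, Fintype.card_fin]
  · -- adjoint-closed
    rintro _ ⟨a, b, rfl⟩
    refine ⟨a • (1 : Matrix (Fin n) (Fin n) F) + (-b) • S, ⟨_, _, rfl⟩, fun u v => ?_⟩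
    rw [quad_mulVec, quad_mulVec, hb.add_left, hb.add_right, hb.smul_left, hb.smul_left, hb.smul_right,
      hb.smul_right, hskew]
    ring
  · -- not self-adjoint
    intro hsa
    have hSK : S ∈ quadAlg S δ hS2 := ⟨0, 1, by rw [zero_smul, zero_add, one_smul]⟩
    have h0 : ∀ u v, QuadraticMap.polar Q (S *ᵥ u) v = 0 := by
      intro u v
      have h1 := hsa S hSK u v
      have h3 := hskew u v
      have h4 : 2 * QuadraticMap.polar Q (S *ᵥ u) v = 0 := by linear_combination h1 + h3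
      rcases mul_eq_zero.1 h4 with h | h
      · exact absurd h h2
      · exact h
    have hS0 : ∀ u, S *ᵥ u = 0 := by
      intro u
      by_contra hne
      obtain ⟨x, hx⟩ := (hQ.nondegenerate _ hne).2
      exact hx (h0 u x)
    have h1 := hSS (Pi.single (⟨0, hn⟩ : Fin n) (1 : F))
    rw [hS0 (Pi.single (⟨0, hn⟩ : Fin n) (1 : F)), Matrix.mulVec_zero] at h1
    have h3 := congrFun h1 ⟨0, hn⟩
    rw [Pi.zero_apply, Pi.smul_apply, Pi.single_eq_same, smul_eq_mul, mul_one] at h3
    exact hδ0 h3.symm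
  · -- similarities
    rintro _ ⟨a, b, rfl⟩
    refine ⟨a * a - b * b * δ, fun v => ?_⟩
    have h1 : QuadraticMap.polar Q (a • v + b • (S *ᵥ v)) (a • v + b • (S *ᵥ v)) =
        (a * a - b * b * δ) * QuadraticMap.polar Q v v := by
      rw [hb.add_left, hb.add_right, hb.add_right, hb.smul_left, hb.smul_left, hb.smul_right,
        hb.smul_right, hb.smul_left, hb.smul_right, hb.smul_left, hb.smul_right, hSv,
        QuadraticMap.polar_comm Q v (S *ᵥ v), hSv, hskew, hSS, hb.smul_right]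
      ring
    rw [polar_self' hQ, polar_self' hQ] at h1
    rw [quad_mulVec]
    have h3 : 2 * (Q (a • v + b • (S *ᵥ v)) - (a * a - b * b * δ) * Q v) = 0 := by
      linear_combination h1
    rcases mul_eq_zero.1 h3 with h | h
    · exact absurd h h2
    · exact sub_eq_zero.1 h
  · -- normalised by `H`
    intro h hh
    obtain ⟨ε, hε, hc⟩ : ∃ ε : F, ε * ε = 1 ∧
        (h : Matrix (Fin n) (Fin n) F) * S = ε • (S * (h : Matrix (Fin n) (Fin n) F)) := by
      rcases hH h hh with hc | hc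
      · exact ⟨1, by ring, by rw [one_smul]; exact hc⟩
      · exact ⟨-1, by ring, by rw [neg_smul, one_smul]; exact hc⟩
    have hhi : (h : Matrix (Fin n) (Fin n) F) * ((h⁻¹ : GL (Fin n) F) : Matrix (Fin n) (Fin n) F) = 1 := by
      rw [← Units.val_mul, mul_inv_cancel, Units.val_one]
    have hih : ((h⁻¹ : GL (Fin n) F) : Matrix (Fin n) (Fin n) F) * (h : Matrix (Fin n) (Fin n) F) = 1 := by
      rw [← Units.val_mul, inv_mul_cancel, Units.val_one]
    have hconj : (h : Matrix (Fin n) (Fin n) F) * S * ((h⁻¹ : GL (Fin n) F) : Matrix (Fin n) (Fin n) F) =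
        ε • S := by
      rw [hc, smul_mul_assoc, mul_assoc, hhi, mul_one]
    have hconj' : ((h⁻¹ : GL (Fin n) F) : Matrix (Fin n) (Fin n) F) * S * (h : Matrix (Fin n) (Fin n) F) =
        ε • S := by
      have h1 : S * (h : Matrix (Fin n) (Fin n) F) = ε • ((h : Matrix (Fin n) (Fin n) F) * S) := by
        rw [hc, smul_smul, hε, one_smul]
      rw [mul_assoc, h1, mul_smul_comm, ← mul_assoc, hih, one_mul]
    intro k
    constructor
    · rintro ⟨a, b, rfl⟩
      refine ⟨a, b * ε, ?_⟩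
      rw [mul_add, add_mul, mul_smul_comm, smul_mul_assoc, mul_one, hhi, mul_smul_comm, smul_mul_assoc,
        hconj, smul_smul]
    · rintro ⟨a, b, hk⟩
      refine ⟨a, b * ε, ?_⟩
      have h1 : k = ((h⁻¹ : GL (Fin n) F) : Matrix (Fin n) (Fin n) F) *
          ((h : Matrix (Fin n) (Fin n) F) * k * ((h⁻¹ : GL (Fin n) F) : Matrix (Fin n) (Fin n) F)) *
          (h : Matrix (Fin n) (Fin n) F) := by
        rw [mul_assoc, mul_assoc, mul_assoc, hih, mul_one, ← mul_assoc, hih, one_mul]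
      rw [h1, hk, mul_add, add_mul, mul_smul_comm, smul_mul_assoc, mul_one, hih, mul_smul_comm,
        smul_mul_assoc, hconj', smul_smul]

end nonsquare

/-- the abstract half of ASCHOE-[E-TENSOR2] -/
theorem tsPair_or_fieldU_of_skew {Q : (Fin n → F) → F} (hQ : IsNondegenerateQuadraticForm Q)
    (h2 : (2 : F) ≠ 0) (hn : 0 < n)
    {H : Subgroup (GL (Fin n) F)} (S : Matrix (Fin n) (Fin n) F) (δ : F) (hδ0 : δ ≠ 0)
    (hS2 : S * S = δ • (1 : Matrix (Fin n) (Fin n) F))
    (hskew : ∀ u v, QuadraticMap.polar Q (S *ᵥ u) v = - QuadraticMap.polar Q u (S *ᵥ v))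
    (hH : ∀ h ∈ H, (h : Matrix (Fin n) (Fin n) F) * S = S * (h : Matrix (Fin n) (Fin n) F) ∨
      (h : Matrix (Fin n) (Fin n) F) * S = -(S * (h : Matrix (Fin n) (Fin n) F))) :
    OutTSPair Q H ∨ OutFieldU Q H := by
  by_cases hsq : IsSquare δ
  · obtain ⟨μ, rfl⟩ := hsq
    left
    have hμ : μ ≠ 0 := by
      rintro rfl
      exact hδ0 (by ring)
    refine outTSPair_of_skew_square hQ h2 hn S μ hμ ?_ hskew hH
    intro v
    rw [Matrix.mulVec_mulVec, hS2, Matrix.smul_mulVec, Matrix.one_mulVec]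
  · right
    exact outFieldU_of_skew_nonsquare hQ h2 hn S δ hsq hS2 hskew hH

end Cfsg.Agent.Lib.Helper45.OeETensor2
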