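/-
helper45: project ASCHOE (helper55): module ASCHOE-[E-TENSOR2], concrete half: the skew-adjoint operator
`S = P (J G₁ ⊗ 1) P⁻¹` of a tensor structure `f₁ ⊗ f₂` with `dim f₁ = 2`.
-/
import Mathlib
import Cfsg.Prelude.Def_GeometricClasses
import Cfsg.Agent.Lib.Helper55.Oe.Defs
import Cfsg.Agent.Lib.Helper94.TensorMono
import Cfsg.Agent.Lib.Helper45.OeETensor2A

set_option autoImplicit false

namespace Cfsg.Agent.Lib.Helper45.OeETensor2

open Cfsg Cfsg.Geo Cfsg.Agent.Lib.Helper55.Oe Cfsg.Agent.Lib.Helper94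
open scoped MatrixGroups Matrix Kronecker

variable {n : ℕ} {F : Type*} [Field F]

/-! ### `2 × 2` matrices -/

/-- the standard alternating matrix -/
def Jm : Matrix (Fin 2) (Fin 2) F := !![0, 1; -1, 0]

theorem Jm_mul_Jm : (Jm : Matrix (Fin 2) (Fin 2) F) * Jm = -1 := by
  ext i j
  fin_cases i <;> fin_cases j <;> simp [Jm, Matrix.mul_apply, Fin.sum_univ_two]

theorem Jm_transpose : (Jm : Matrix (Fin 2) (Fin 2) F)ᵀ = -Jm := by
  ext i j
  fin_cases i <;> fin_cases j <;> simp [Jm]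

theorem transpose_mul_Jm_mul (X : Matrix (Fin 2) (Fin 2) F) : Xᵀ * Jm * X = X.det • Jm := by
  ext i j
  fin_cases i <;> fin_cases j <;>
    simp [Jm, Matrix.mul_apply, Fin.sum_univ_two, Matrix.det_fin_two] <;> ring

theorem eq_smul_Jm_of_skew (h2 : (2 : F) ≠ 0) (X : Matrix (Fin 2) (Fin 2) F) (hX : Xᵀ = -X) :
    X = X 0 1 • Jm := by
  have h00 : X 0 0 = 0 := by
    have h1 := congrFun (congrFun hX 0) 0
    rw [Matrix.transpose_apply, Matrix.neg_apply] at h1
    have h3 : 2 * X 0 0 = 0 := by linear_combination h1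
    rcases mul_eq_zero.1 h3 with h | h
    · exact absurd h h2
    · exact h
  have h11 : X 1 1 = 0 := by
    have h1 := congrFun (congrFun hX 1) 1
    rw [Matrix.transpose_apply, Matrix.neg_apply] at h1
    have h3 : 2 * X 1 1 = 0 := by linear_combination h1
    rcases mul_eq_zero.1 h3 with h | h
    · exact absurd h h2
    · exact h
  have h10 : X 1 0 = - X 0 1 := by
    have h1 := congrFun (congrFun hX 0) 1
    rw [Matrix.transpose_apply, Matrix.neg_apply] at h1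
    exact h1
  ext i j
  fin_cases i <;> fin_cases j <;> simp [Jm, h00, h11, h10]

section two

variable (G : Matrix (Fin 2) (Fin 2) F) (hG : Gᵀ = G)

include hG in
theorem sym_mul_Jm_mul : G * Jm * G = G.det • Jm := by
  have h := transpose_mul_Jm_mul G
  rw [hG] at h
  exact h

include hG in
/-- `s = J G` is skew-adjoint for the form with Gram matrix `G` -/
theorem sMat_skew : (Jm * G)ᵀ * G = -(G * (Jm * G)) := by
  rw [Matrix.transpose_mul, hG, Jm_transpose, Matrix.mul_neg, Matrix.neg_mul, ← mul_assoc]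

include hG in
theorem sMat_sq : (Jm * G) * (Jm * G) = (-G.det) • (1 : Matrix (Fin 2) (Fin 2) F) := by
  rw [mul_assoc, ← mul_assoc G Jm G, sym_mul_Jm_mul G hG, Matrix.mul_smul, Jm_mul_Jm, smul_neg, neg_smul]

include hG in
/-- a matrix that is skew-adjoint for `G` is a multiple of `s = J G` -/
theorem eq_smul_sMat_of_skew (h2 : (2 : F) ≠ 0) (hdet : G.det ≠ 0) (X : Matrix (Fin 2) (Fin 2) F)
    (hX : Xᵀ * G = -(G * X)) : ∃ β : F, X = β • (Jm * G) := by
  have hGX : (G * X)ᵀ = -(G * X) := by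
    rw [Matrix.transpose_mul, hG, hX]
  have h1 := eq_smul_Jm_of_skew h2 (G * X) hGX
  set β₀ := (G * X) 0 1 with hβ₀
  -- `(G J G) X = det G • J X` and `= G J (G X) = -β₀ G`
  have h3 : G.det • (Jm * X) = -(β₀ • G) := by
    have h4 : (G * Jm * G) * X = G * Jm * (G * X) := by rw [mul_assoc]
    rw [sym_mul_Jm_mul G hG, h1, Matrix.smul_mul, Matrix.mul_smul, mul_assoc, Jm_mul_Jm, Matrix.mul_neg,
      Matrix.mul_one, smul_neg] at h4
    exact h4
  refine ⟨β₀ / G.det, ?_⟩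
  have h5 : Jm * (G.det • (Jm * X)) = Jm * (-(β₀ • G)) := by rw [h3]
  rw [Matrix.mul_smul, ← mul_assoc, Jm_mul_Jm, Matrix.neg_mul, Matrix.one_mul, Matrix.mul_neg,
    Matrix.mul_smul, smul_neg, neg_inj] at h5
  rw [div_eq_inv_mul, ← smul_smul, ← h5, smul_smul, inv_mul_cancel₀ hdet, one_smul]

end two

/-! ### general matrix lemmas -/

theorem formOfGram_eq_dot {κ : Type} [Fintype κ] (G : Matrix κ κ F) (x y : κ → F) :
    formOfGram id G x y = x ⬝ᵥ (G *ᵥ y) := by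
  unfold formOfGram
  simp only [dotProduct, Matrix.mulVec, id, Finset.mul_sum, mul_assoc]

theorem dot_mulVec_mulVec {κ : Type} [Fintype κ] (M G : Matrix κ κ F) (x y : κ → F) :
    (M *ᵥ x) ⬝ᵥ (G *ᵥ y) = x ⬝ᵥ ((Mᵀ * G) *ᵥ y) := by
  rw [← Matrix.mulVec_mulVec, Matrix.dotProduct_mulVec x Mᵀ, Matrix.vecMul_transpose]

theorem ext_dot {κ : Type} [Fintype κ] [DecidableEq κ] (X Y : Matrix κ κ F)
    (h : ∀ u v : κ → F, u ⬝ᵥ (X *ᵥ v) = u ⬝ᵥ (Y *ᵥ v)) : X = Y := by
  ext i j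
  have h1 := h (Pi.single i 1) (Pi.single j 1)
  simpa using h1

theorem neg_kronecker' {κ μ : Type} (A : Matrix κ κ F) (B : Matrix μ μ F) :
    (-A) ⊗ₖ B = -(A ⊗ₖ B) := by
  ext i j
  simp [Matrix.kroneckerMap_apply]

theorem smul_kronecker' {κ μ : Type} (c : F) (A : Matrix κ κ F) (B : Matrix μ μ F) :
    (c • A) ⊗ₖ B = c • (A ⊗ₖ B) := by
  ext i j
  simp [Matrix.kroneckerMap_apply, mul_assoc]

/-! ### conjugating coordinate matrices by the coordinate isomorphism of a tensor structure -/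

section conj

variable {n₁ n₂ : ℕ} (e : Fin n ≃ Fin n₁ × Fin n₂) (P : GL (Fin n) F)

/-- the matrix on `F^n` acting as `M` in the tensor coordinates -/
noncomputable def conjMat (M : Matrix (Fin n₁ × Fin n₂) (Fin n₁ × Fin n₂) F) : Matrix (Fin n) (Fin n) F :=
  LinearMap.toMatrix' (((tensPhi e P).toLinearMap.comp (Matrix.toLin' M)).comp
    (tensPhi e P).symm.toLinearMap)

theorem conjMat_mulVec (M : Matrix (Fin n₁ × Fin n₂) (Fin n₁ × Fin n₂) F) (x : Fin n₁ × Fin n₂ → F) :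
    conjMat e P M *ᵥ (tensPhi e P x) = tensPhi e P (M *ᵥ x) := by
  unfold conjMat
  rw [LinearMap.toMatrix'_mulVec]
  simp

theorem ext_phi (X Y : Matrix (Fin n) (Fin n) F)
    (h : ∀ x : Fin n₁ × Fin n₂ → F, X *ᵥ (tensPhi e P x) = Y *ᵥ (tensPhi e P x)) : X = Y := by
  apply Matrix.toLin'.injective
  apply LinearMap.ext
  intro v
  have h1 := h ((tensPhi e P).symm v)
  rw [LinearEquiv.apply_symm_apply] at h1
  rw [Matrix.toLin'_apply, Matrix.toLin'_apply, h1]

end conj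

/-! ### the construction -/

section main

variable {n₂ : ℕ} {Q : (Fin n → F) → F}

theorem polar_map_of_isometry (h : GL (Fin n) F) (hh : h ∈ isometryGroup F Q) (u v : Fin n → F) :
    QuadraticMap.polar Q ((h : Matrix (Fin n) (Fin n) F) *ᵥ u) ((h : Matrix (Fin n) (Fin n) F) *ᵥ v) =
      QuadraticMap.polar Q u v := by
  have h1 : ∀ w, Q ((h : Matrix (Fin n) (Fin n) F) *ᵥ w) = Q w := fun w => hh w w
  unfold QuadraticMap.polar
  rw [← Matrix.mulVec_add, h1, h1, h1]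

theorem exists_skew_of_tensor
    (h2 : (2 : F) ≠ 0) {H : Subgroup (GL (Fin n) F)} (hH : H ≤ isometryGroup F Q) (hn₂ : 2 ≤ n₂)
    (e : Fin n ≃ Fin 2 × Fin n₂) (P : GL (Fin n) F)
    (f₁ : (Fin 2 → F) → (Fin 2 → F) → F) (f₂ : (Fin n₂ → F) → (Fin n₂ → F) → F)
    (h₁ : IsSymmetricForm f₁) (h₂ : IsSymmetricForm f₂)
    (hT : IsTensorFormStructure id (QuadraticMap.polar Q) f₁ f₂ e P)
    (hle : H ≤ tensorProductSubgroup 2 n₂ e P) :
    ∃ (S : Matrix (Fin n) (Fin n) F) (δ : F), δ ≠ 0 ∧ S * S = δ • (1 : Matrix (Fin n) (Fin n) F) ∧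
      (∀ u v, QuadraticMap.polar Q (S *ᵥ u) v = - QuadraticMap.polar Q u (S *ᵥ v)) ∧
      (∀ h ∈ H, (h : Matrix (Fin n) (Fin n) F) * S = S * (h : Matrix (Fin n) (Fin n) F) ∨
        (h : Matrix (Fin n) (Fin n) F) * S = -(S * (h : Matrix (Fin n) (Fin n) F))) := by
  classical
  obtain ⟨c, hc0, hc⟩ := hT
  set G₁ := gramMatrix f₁ with hG₁
  set G₂ := gramMatrix f₂ with hG₂
  have hG₁t : G₁ᵀ = G₁ := by
    ext i j
    exact h₁.symm _ _
  have hdet : G₁.det ≠ 0 := det_gramMatrix_ne_zero h₁.bilinear h₁.nondegenerate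
  have hf₁ : ∀ x y, f₁ x y = x ⬝ᵥ (G₁ *ᵥ y) := by
    intro x y
    rw [← formOfGram_gramMatrix h₁.bilinear, formOfGram_eq_dot]
  set s : Matrix (Fin 2) (Fin 2) F := Jm * G₁ with hs
  have hsskew : sᵀ * G₁ = -(G₁ * s) := sMat_skew G₁ hG₁t
  have hssq : s * s = (-G₁.det) • (1 : Matrix (Fin 2) (Fin 2) F) := sMat_sq G₁ hG₁t
  have hδ : -G₁.det ≠ 0 := neg_ne_zero.2 hdet
  set M : Matrix (Fin 2 × Fin n₂) (Fin 2 × Fin n₂) F := s ⊗ₖ (1 : Matrix (Fin n₂) (Fin n₂) F) with hM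
  set Φ := tensPhi e P with hΦ
  have hB : ∀ x y : Fin 2 × Fin n₂ → F, QuadraticMap.polar Q (Φ x) (Φ y) =
      c * (x ⬝ᵥ ((G₁ ⊗ₖ G₂) *ᵥ y)) := by
    intro x y
    rw [hΦ, tensPhi_apply, tensPhi_apply, hc, formOfGram_eq_dot]
  refine ⟨conjMat e P M, -G₁.det, hδ, ?_, ?_, ?_⟩
  · -- `S² = δ`
    apply ext_phi e P
    intro x
    rw [← Matrix.mulVec_mulVec, conjMat_mulVec, conjMat_mulVec, Matrix.mulVec_mulVec, hM,
      ← Matrix.mul_kronecker_mul, hssq, Matrix.one_mul, smul_kronecker', Matrix.one_kronecker_one,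
      Matrix.smul_mulVec, Matrix.one_mulVec, Matrix.smul_mulVec, Matrix.one_mulVec, map_smul]
  · -- skew-adjoint
    intro u v
    obtain ⟨x, rfl⟩ := Φ.surjective u
    obtain ⟨y, rfl⟩ := Φ.surjective v
    rw [conjMat_mulVec, conjMat_mulVec, hB, hB, ← mul_neg]
    congr 1
    have h1 : Mᵀ * (G₁ ⊗ₖ G₂) = -((G₁ ⊗ₖ G₂) * M) := by
      rw [hM, ← Matrix.kroneckerMap_transpose, Matrix.transpose_one, ← Matrix.mul_kronecker_mul,
        ← Matrix.mul_kronecker_mul, hsskew, Matrix.one_mul, Matrix.mul_one, neg_kronecker']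
    rw [dot_mulVec_mulVec, h1, Matrix.neg_mulVec, dotProduct_neg, Matrix.mulVec_mulVec]
  · -- `H` commutes or anticommutes
    intro h hh
    obtain ⟨A, B, hAB⟩ := exists_of_mem_tensorProductSubgroup (hle hh)
    have hpres := polar_map_of_isometry h (hH hh)
    -- the first factor is a similitude of `f₁`
    have hsim0 : ∀ u u' w w', f₁ ((A : Matrix (Fin 2) (Fin 2) F) *ᵥ u) ((A : Matrix (Fin 2) (Fin 2) F) *ᵥ u') *
        f₂ ((B : Matrix (Fin n₂) (Fin n₂) F) *ᵥ w) ((B : Matrix (Fin n₂) (Fin n₂) F) *ᵥ w') =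
        f₁ u u' * f₂ w w' := by
      intro u u' w w'
      have h1 := hpres (Φ (pureT u w)) (Φ (pureT u' w'))
      rw [hAB, hAB, kronecker_mulVec_pureT, kronecker_mulVec_pureT, hΦ, tensPhi_apply, tensPhi_apply,
        tensPhi_apply, tensPhi_apply, hc, hc,
        formOfGram_kronecker_pureT id (fun _ _ => rfl), formOfGram_kronecker_pureT id (fun _ _ => rfl),
        formOfGram_gramMatrix h₁.bilinear, formOfGram_gramMatrix h₁.bilinear,
        formOfGram_gramMatrix h₂.bilinear, formOfGram_gramMatrix h₂.bilinear] at h1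
      exact mul_left_cancel₀ hc0 h1
    obtain ⟨μ, hμ⟩ := exists_similarity_left h₂.nondegenerate (by omega) (A : Matrix (Fin 2) (Fin 2) F) B hsim0
    -- `s' = A s A⁻¹` is skew-adjoint for `f₁`
    set a : Matrix (Fin 2) (Fin 2) F := (A : Matrix (Fin 2) (Fin 2) F) with ha
    set a' : Matrix (Fin 2) (Fin 2) F := ((A⁻¹ : GL (Fin 2) F) : Matrix (Fin 2) (Fin 2) F) with ha'
    have haa' : a * a' = 1 := by rw [ha, ha', ← Units.val_mul, mul_inv_cancel, Units.val_one]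
    have ha'a : a' * a = 1 := by rw [ha, ha', ← Units.val_mul, inv_mul_cancel, Units.val_one]
    have hsf : ∀ x y, f₁ (s *ᵥ x) y = - f₁ x (s *ᵥ y) := by
      intro x y
      rw [hf₁, hf₁, dot_mulVec_mulVec, hsskew, Matrix.neg_mulVec, dotProduct_neg, Matrix.mulVec_mulVec]
    have hs'f : ∀ u v, f₁ ((a * s * a') *ᵥ u) v = - f₁ u ((a * s * a') *ᵥ v) := by
      intro u v
      have h1 : (a * s * a') *ᵥ u = a *ᵥ (s *ᵥ (a' *ᵥ u)) := by
        rw [Matrix.mulVec_mulVec, Matrix.mulVec_mulVec, mul_assoc]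
      have h3 : (a * s * a') *ᵥ v = a *ᵥ (s *ᵥ (a' *ᵥ v)) := by
        rw [Matrix.mulVec_mulVec, Matrix.mulVec_mulVec, mul_assoc]
      have h4 : v = a *ᵥ (a' *ᵥ v) := by rw [Matrix.mulVec_mulVec, haa', Matrix.one_mulVec]
      have h5 : u = a *ᵥ (a' *ᵥ u) := by rw [Matrix.mulVec_mulVec, haa', Matrix.one_mulVec]
      calc f₁ ((a * s * a') *ᵥ u) v
          = f₁ (a *ᵥ (s *ᵥ (a' *ᵥ u))) (a *ᵥ (a' *ᵥ v)) := by rw [h1, ← h4]
        _ = μ * f₁ (s *ᵥ (a' *ᵥ u)) (a' *ᵥ v) := hμ _ _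
        _ = -(μ * f₁ (a' *ᵥ u) (s *ᵥ (a' *ᵥ v))) := by rw [hsf, mul_neg]
        _ = -f₁ (a *ᵥ (a' *ᵥ u)) (a *ᵥ (s *ᵥ (a' *ᵥ v))) := by rw [hμ]
        _ = -f₁ u ((a * s * a') *ᵥ v) := by rw [← h5, h3]
    have hs'G : (a * s * a')ᵀ * G₁ = -(G₁ * (a * s * a')) := by
      apply ext_dot
      intro u v
      have h1 := hs'f u v
      rw [hf₁, hf₁, dot_mulVec_mulVec, Matrix.mulVec_mulVec] at h1
      rw [h1, Matrix.neg_mulVec, dotProduct_neg]
    obtain ⟨β, hβ⟩ := eq_smul_sMat_of_skew G₁ hG₁t h2 hdet (a * s * a') hs'G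
    rw [← hs] at hβ
    have hββ : β * β = 1 := by
      have h1 : (a * s * a') * (a * s * a') = (-G₁.det) • (1 : Matrix (Fin 2) (Fin 2) F) := by
        calc (a * s * a') * (a * s * a') = a * s * (a' * a) * s * a' := by
              simp only [mul_assoc]
          _ = a * (s * s) * a' := by rw [ha'a, mul_one, mul_assoc a s s]
          _ = (-G₁.det) • (1 : Matrix (Fin 2) (Fin 2) F) := by
              rw [hssq, Matrix.mul_smul, Matrix.smul_mul, mul_one, haa']
      rw [hβ, Matrix.smul_mul, Matrix.mul_smul, hssq, smul_smul, smul_smul] at h1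
      have h3 := congrFun (congrFun h1 0) 0
      rw [Matrix.smul_apply, Matrix.smul_apply, Matrix.one_apply_eq, smul_eq_mul, smul_eq_mul, mul_one,
        mul_one] at h3
      have h4 : β * β * -G₁.det = 1 * -G₁.det := by rw [one_mul]; exact h3
      exact mul_right_cancel₀ hδ h4
    have has : a * s = β • (s * a) := by
      calc a * s = (a * s * a') * a := by rw [mul_assoc, mul_assoc, ha'a, mul_one]
        _ = β • (s * a) := by rw [hβ, Matrix.smul_mul]
    -- transfer to `S`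
    have hmain : (h : Matrix (Fin n) (Fin n) F) * conjMat e P M =
        β • (conjMat e P M * (h : Matrix (Fin n) (Fin n) F)) := by
      apply ext_phi e P
      intro x
      rw [← Matrix.mulVec_mulVec, conjMat_mulVec, hAB, Matrix.smul_mulVec,
        ← Matrix.mulVec_mulVec, hAB, conjMat_mulVec, ← map_smul, Matrix.mulVec_mulVec,
        Matrix.mulVec_mulVec, ← Matrix.smul_mulVec]
      congr 2
      rw [hM, ← Matrix.mul_kronecker_mul, ← Matrix.mul_kronecker_mul, has, Matrix.mul_one,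
        Matrix.one_mul, smul_kronecker']
    have hβ1 : β = 1 ∨ β = -1 := mul_self_eq_one_iff.1 hββ
    rcases hβ1 with h1 | h1
    · left
      rw [hmain, h1, one_smul]
    · right
      rw [hmain, h1, neg_smul, one_smul]

end main

end Cfsg.Agent.Lib.Helper45.OeETensor2
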