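/-
helper45: project ASCHOE (helper55): module ASCHOE-[E-TENSOR2]
`Cfsg.Agent.Lib.Helper55.Oe.tsPair_or_fieldU_of_tensorSym_two` (exact sheet statement).
-/
import Mathlib
import Cfsg.Prelude.Def_GeometricClasses
import Cfsg.Agent.Lib.Helper99.AschDefs
import Cfsg.Agent.Lib.Helper55.Oe.Defs
import Cfsg.Agent.Lib.Helper45.OeETensor2A
import Cfsg.Agent.Lib.Helper45.OeETensor2B

set_option autoImplicit false

namespace Cfsg.Agent.Lib.Helper55.Oe

open Cfsg Cfsg.Geo Cfsg.Agent.Lib.Helper99.Asch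
open scoped MatrixGroups Matrix Kronecker

variable {n : ℕ} {F : Type*} [Field F] [Fintype F]

/-- ASCHOE-[E-TENSOR2] (exact sheet statement) -/
theorem tsPair_or_fieldU_of_tensorSym_two {Q : (Fin n → F) → F} (hQ : IsNondegenerateQuadraticForm Q)
    (h2 : (2 : F) ≠ 0) {H : Subgroup (GL (Fin n) F)} (hH : H ≤ isometryGroup F Q) (n₂ : ℕ) (hn₂ : 2 ≤ n₂)
    (e : Fin n ≃ Fin 2 × Fin n₂) (P : GL (Fin n) F)
    (f₁ : (Fin 2 → F) → (Fin 2 → F) → F) (f₂ : (Fin n₂ → F) → (Fin n₂ → F) → F)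
    (h₁ : IsSymmetricForm f₁) (h₂ : IsSymmetricForm f₂)
    (hT : IsTensorFormStructure id (QuadraticMap.polar Q) f₁ f₂ e P)
    (hle : H ≤ tensorProductSubgroup 2 n₂ e P) : OutTSPair Q H ∨ OutFieldU Q H := by
  have hn : 0 < n := by
    have h1 := Fintype.card_congr e
    rw [Fintype.card_fin, Fintype.card_prod, Fintype.card_fin, Fintype.card_fin] at h1
    omega
  obtain ⟨S, δ, hδ, hS2, hskew, hH'⟩ :=
    Cfsg.Agent.Lib.Helper45.OeETensor2.exists_skew_of_tensor h2 hH hn₂ e P f₁ f₂ h₁ h₂ hT hle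
  exact Cfsg.Agent.Lib.Helper45.OeETensor2.tsPair_or_fieldU_of_skew hQ h2 hn S δ hδ hS2 hskew hH'

end Cfsg.Agent.Lib.Helper55.Oe
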