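/-
helper45: project ASCHOE (helper55): hedge of module ASCHOE-[II-COMM], geometric half.

Two ways of producing a totally singular subspace of half the dimension from isometries of a non-degenerate
quadratic form `Q` on `F^n` (`2 ≠ 0`):
* `x` an isometric involution and `y` an isometry anticommuting with it: `V = V₊ ⊥ V₋` with isometric halves
  (then ASCHOE-[T-EVEN]);
* `x, y` anticommuting isometries with `x² = y² = -1`: for `a² + b² = -1` the matrix `s = a x + b y` is an involution with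
  `Q (s v) = - Q v`, anticommuting with `x y`; its eigenspaces are totally singular of dimension `n / 2`.
-/
import Mathlib
import Cfsg.Prelude.Def_GeometricClasses
import Cfsg.Agent.Lib.Helper55.Oe.Defs
import Cfsg.Agent.Lib.Helper52.OeTEven
import Cfsg.Agent.Lib.Helper45.OeETensor2A

set_option autoImplicit false

namespace Cfsg.Agent.Lib.Helper45.OeIIComm

open Cfsg Cfsg.Geo Cfsg.Agent.Lib.Helper55.Oe Cfsg.Agent.Lib.Helper45.OeETensor2
open scoped MatrixGroups Matrix Kronecker

variable {n : ℕ} {F : Type*} [Field F]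

/-! ### involutions -/

theorem eig_sup_eig (h2 : (2 : F) ≠ 0) (S : Matrix (Fin n) (Fin n) F) (hS : S * S = 1) :
    eig S 1 ⊔ eig S (-1) = ⊤ := by
  rw [eq_top_iff]
  intro v _
  have hSS : ∀ w, S *ᵥ (S *ᵥ w) = w := by
    intro w
    rw [Matrix.mulVec_mulVec, hS, Matrix.one_mulVec]
  have h1 : (2 : F)⁻¹ • (v + S *ᵥ v) ∈ eig S 1 := by
    apply Submodule.smul_mem
    rw [mem_eig, Matrix.mulVec_add, hSS, one_smul, add_comm]
  have h3 : (2 : F)⁻¹ • (v - S *ᵥ v) ∈ eig S (-1) := by
    apply Submodule.smul_mem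
    rw [mem_eig, Matrix.mulVec_sub, hSS, neg_smul, one_smul, neg_sub]
  have h4 : v = (2 : F)⁻¹ • (v + S *ᵥ v) + (2 : F)⁻¹ • (v - S *ᵥ v) := by
    rw [← smul_add, add_add_sub_cancel, ← two_smul F v, smul_smul, inv_mul_cancel₀ h2, one_smul]
  rw [h4]
  exact Submodule.add_mem_sup h1 h3

theorem eig_inf_eig (h2 : (2 : F) ≠ 0) (S : Matrix (Fin n) (Fin n) F) :
    eig S 1 ⊓ eig S (-1) = ⊥ := by
  rw [eq_bot_iff]
  rintro v ⟨h1, h3⟩
  have h1' : S *ᵥ v = (1 : F) • v := h1
  have h3' : S *ᵥ v = (-1 : F) • v := h3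
  rw [h1', one_smul, neg_smul, one_smul] at h3'
  have h4 : (2 : F) • v = 0 := by
    rw [two_smul]
    nth_rewrite 1 [h3']
    exact neg_add_cancel v
  rcases smul_eq_zero.1 h4 with h | h
  · exact absurd h h2
  · exact (Submodule.mem_bot F).2 h

theorem mulVec_injective (k : GL (Fin n) F) :
    Function.Injective (Matrix.toLin' (k : Matrix (Fin n) (Fin n) F)) := by
  intro v w hvw
  rw [Matrix.toLin'_apply, Matrix.toLin'_apply] at hvw
  have := congrArg (fun u => ((k⁻¹ : GL (Fin n) F) : Matrix (Fin n) (Fin n) F) *ᵥ u) hvw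
  simpa [Matrix.mulVec_mulVec, ← Units.val_mul] using this

theorem map_eig_anti (k : GL (Fin n) F) (S : Matrix (Fin n) (Fin n) F) (μ : F)
    (hk : (k : Matrix (Fin n) (Fin n) F) * S = -(S * (k : Matrix (Fin n) (Fin n) F))) :
    (eig S μ).map (Matrix.toLin' (k : Matrix (Fin n) (Fin n) F)) = eig S (-μ) := by
  rw [map_eig k S (-S) μ (by rw [hk, Matrix.neg_mul]), eig_neg]

theorem finrank_eig_eq (k : GL (Fin n) F) (S : Matrix (Fin n) (Fin n) F)
    (hk : (k : Matrix (Fin n) (Fin n) F) * S = -(S * (k : Matrix (Fin n) (Fin n) F))) :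
    Module.finrank F (eig S 1) = Module.finrank F (eig S (-1)) := by
  have e := Submodule.equivMapOfInjective _ (mulVec_injective k) (eig S 1)
  rw [e.finrank_eq, map_eig_anti k S 1 hk]

theorem two_mul_finrank_eig (h2 : (2 : F) ≠ 0) (k : GL (Fin n) F) (S : Matrix (Fin n) (Fin n) F)
    (hS : S * S = 1)
    (hk : (k : Matrix (Fin n) (Fin n) F) * S = -(S * (k : Matrix (Fin n) (Fin n) F))) :
    2 * Module.finrank F (eig S 1) = n := by
  have h1 := Submodule.finrank_sup_add_finrank_inf_eq (eig S 1) (eig S (-1))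
  rw [eig_sup_eig h2 S hS, eig_inf_eig h2 S, finrank_top, finrank_bot, Module.finrank_fin_fun,
    ← finrank_eig_eq k S hk] at h1
  omega

/-! ### the quadratic form -/

variable {Q : (Fin n → F) → F}

theorem isometry_apply {g : GL (Fin n) F} (hg : g ∈ isometryGroup F Q) (v : Fin n → F) :
    Q ((g : Matrix (Fin n) (Fin n) F) *ᵥ v) = Q v := hg v v

theorem polar_isometry {g : GL (Fin n) F} (hg : g ∈ isometryGroup F Q) (u v : Fin n → F) :
    QuadraticMap.polar Q ((g : Matrix (Fin n) (Fin n) F) *ᵥ u) ((g : Matrix (Fin n) (Fin n) F) *ᵥ v) =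
      QuadraticMap.polar Q u v := by
  unfold QuadraticMap.polar
  rw [← Matrix.mulVec_add, isometry_apply hg, isometry_apply hg, isometry_apply hg]

/-- eigenvectors of an isometry for eigenvalues with product `-1` are orthogonal -/
theorem polar_eig_eq_zero (hQ : IsNondegenerateQuadraticForm Q) (h2 : (2 : F) ≠ 0) {x : GL (Fin n) F}
    (hx : x ∈ isometryGroup F Q) (μ ν : F) (hμν : μ * ν = -1) (u v : Fin n → F)
    (hu : u ∈ eig (x : Matrix (Fin n) (Fin n) F) μ) (hv : v ∈ eig (x : Matrix (Fin n) (Fin n) F) ν) :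
    QuadraticMap.polar Q u v = 0 := by
  have h1 := polar_isometry hx u v
  rw [mem_eig.1 hu, mem_eig.1 hv] at h1
  have h3 : QuadraticMap.polar Q (μ • u) (ν • v) = (μ * ν) * QuadraticMap.polar Q u v := by
    rw [← polarLin_apply hQ, ← polarLin_apply hQ, map_smul, map_smul, LinearMap.smul_apply, smul_eq_mul,
      smul_eq_mul]
    ring
  rw [h3, hμν] at h1
  have h4 : (2 : F) * QuadraticMap.polar Q u v = 0 := by linear_combination -h1
  rcases mul_eq_zero.1 h4 with h | h
  · exact absurd h h2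
  · exact h

theorem isNondegenerateOn_eig (hQ : IsNondegenerateQuadraticForm Q) (h2 : (2 : F) ≠ 0) {x : GL (Fin n) F}
    (hx : x ∈ isometryGroup F Q) (hxx : (x : Matrix (Fin n) (Fin n) F) * (x : Matrix (Fin n) (Fin n) F) = 1)
    (μ ν : F) (hμν : μ * ν = -1)
    (hsup : eig (x : Matrix (Fin n) (Fin n) F) μ ⊔ eig (x : Matrix (Fin n) (Fin n) F) ν = ⊤) :
    IsNondegenerateOn (QuadraticMap.polar Q) (eig (x : Matrix (Fin n) (Fin n) F) μ) := by
  have _ := hxx
  intro w hw hw0
  obtain ⟨⟨a, ha⟩, ⟨b, hb⟩⟩ := hQ.nondegenerate w hw0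
  have hamem : a ∈ eig (x : Matrix (Fin n) (Fin n) F) μ ⊔ eig (x : Matrix (Fin n) (Fin n) F) ν := by
    rw [hsup]; trivial
  have hbmem : b ∈ eig (x : Matrix (Fin n) (Fin n) F) μ ⊔ eig (x : Matrix (Fin n) (Fin n) F) ν := by
    rw [hsup]; trivial
  obtain ⟨a₁, ha₁, a₂, ha₂, rfl⟩ := Submodule.mem_sup.1 hamem
  obtain ⟨b₁, hb₁, b₂, hb₂, rfl⟩ := Submodule.mem_sup.1 hbmem
  have hνμ : ν * μ = -1 := by rw [mul_comm]; exact hμν
  constructor
  · refine ⟨a₁, ha₁, ?_⟩
    intro h0
    apply ha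
    rw [← polarLin_apply hQ, map_add, LinearMap.add_apply, polarLin_apply, polarLin_apply, h0,
      polar_eig_eq_zero hQ h2 hx ν μ hνμ a₂ w ha₂ hw, add_zero]
  · refine ⟨b₁, hb₁, ?_⟩
    intro h0
    apply hb
    rw [← polarLin_apply hQ, map_add, polarLin_apply, polarLin_apply, h0,
      polar_eig_eq_zero hQ h2 hx μ ν hμν w b₂ hw hb₂, add_zero]

theorem areIsometricFor_of_map {y : GL (Fin n) F} (hy : y ∈ isometryGroup F Q)
    (A B : Submodule F (Fin n → F))
    (h : A.map (Matrix.toLin' (y : Matrix (Fin n) (Fin n) F)) = B) : AreIsometricFor Q A B := by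
  refine ⟨(Submodule.equivMapOfInjective _ (mulVec_injective y) A).trans (LinearEquiv.ofEq _ _ h), ?_⟩
  intro w
  have h1 : ((((Submodule.equivMapOfInjective _ (mulVec_injective y) A).trans (LinearEquiv.ofEq _ _ h)) w : B) :
      Fin n → F) = (y : Matrix (Fin n) (Fin n) F) *ᵥ (w : Fin n → F) := by
    simp [Matrix.toLin'_apply]
  rw [h1, isometry_apply hy]

/-- case A: an isometric involution with an anticommuting isometry -/
theorem isPlusTypeOn_of_involution [Fintype F] (hQ : IsNondegenerateQuadraticForm Q) (h2 : (2 : F) ≠ 0)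
    (hn : n = 8) {x y : GL (Fin n) F} (hx : x ∈ isometryGroup F Q) (hy : y ∈ isometryGroup F Q)
    (hxx : (x : Matrix (Fin n) (Fin n) F) * (x : Matrix (Fin n) (Fin n) F) = 1)
    (hyx : (y : Matrix (Fin n) (Fin n) F) * (x : Matrix (Fin n) (Fin n) F) =
      -((x : Matrix (Fin n) (Fin n) F) * (y : Matrix (Fin n) (Fin n) F))) :
    IsPlusTypeOn Q ⊤ := by
  set X : Matrix (Fin n) (Fin n) F := (x : Matrix (Fin n) (Fin n) F) with hX
  have hsup : eig X 1 ⊔ eig X (-1) = ⊤ := eig_sup_eig h2 X hxx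
  have hsup' : eig X (-1) ⊔ eig X 1 = ⊤ := by rw [sup_comm]; exact hsup
  have hfr1 : 2 * Module.finrank F (eig X 1) = n := two_mul_finrank_eig h2 y X hxx hyx
  have hfr2 : Module.finrank F (eig X 1) = Module.finrank F (eig X (-1)) := finrank_eig_eq y X hyx
  let D : Fin 2 → Submodule F (Fin n → F) := ![eig X 1, eig X (-1)]
  have h11 : (1 : F) * (-1) = -1 := by ring
  have h11' : (-1 : F) * 1 = -1 := by ring
  have hm1 : (eig X 1).map (Matrix.toLin' (y : Matrix (Fin n) (Fin n) F)) = eig X (-1) :=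
    map_eig_anti y X 1 hyx
  have hm2 : (eig X (-1)).map (Matrix.toLin' (y : Matrix (Fin n) (Fin n) F)) = eig X 1 := by
    have := map_eig_anti y X (-1) hyx
    rwa [neg_neg] at this
  have key := isPlusTypeOn_iSup_of_even hQ 4 D
    (by
      intro i
      fin_cases i
      · show Module.finrank F (eig X 1) = 4
        omega
      · show Module.finrank F (eig X (-1)) = 4
        omega)
    (by
      intro i
      fin_cases i
      · exact isNondegenerateOn_eig hQ h2 hx hxx 1 (-1) h11 hsup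
      · exact isNondegenerateOn_eig hQ h2 hx hxx (-1) 1 h11' hsup')
    (by
      intro i j hij
      fin_cases i <;> fin_cases j
      · exact absurd rfl hij
      · exact fun u hu v hv => polar_eig_eq_zero hQ h2 hx 1 (-1) h11 u v hu hv
      · exact fun u hu v hv => polar_eig_eq_zero hQ h2 hx (-1) 1 h11' u v hu hv
      · exact absurd rfl hij)
    (by
      intro i j
      fin_cases i <;> fin_cases j
      · exact ⟨LinearEquiv.refl F _, fun w => rfl⟩
      · exact areIsometricFor_of_map hy _ _ hm1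
      · exact areIsometricFor_of_map hy _ _ hm2
      · exact ⟨LinearEquiv.refl F _, fun w => rfl⟩)
    (by decide) (by decide)
  have htop : iSup D = ⊤ := by
    rw [eq_top_iff, ← hsup]
    exact sup_le (le_iSup D 0) (le_iSup D 1)
  rwa [htop] at key

end Cfsg.Agent.Lib.Helper45.OeIIComm
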