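/-
helper45: project ASCHOE (helper55): hedge of module ASCHOE-[II-COMM] (sheet B).

`N` minimal `H`-normalised above the scalars, absolutely irreducible with scalar commutators, `H` a group of
isometries of the non-degenerate quadratic form `Q` on `F^n`, `n ∈ {8, 10, 12}`: then `n = 8` and `Q` is of plus type.
`|N/Z| = n²` is a power of a prime `r`, so `n = 8`, `r = 2`.  Two non-commuting elements `x, y` of `N ⊓ I` anticommute and
have squares `±1`; if one of them is an involution `V = V₊ ⊥ V₋` with isometric halves ([T-EVEN]); otherwise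
`x² = y² = -1` and an eigenspace of `a x + b y`, `a² + b² = -1`, is totally singular of dimension 4.
-/
import Mathlib
import Cfsg.Prelude.Def_GeometricClasses
import Cfsg.Agent.Lib.Helper99.AschDefs
import Cfsg.Agent.Lib.Helper55.Oe.Defs
import Cfsg.Agent.Lib.Helper93.AschExpr
import Cfsg.Agent.Lib.Helper47.AschKronNormFinal
import Cfsg.Agent.Lib.Helper45.AschRTwo
import Cfsg.Agent.Lib.Helper45.OeIICommA

set_option autoImplicit false

namespace Cfsg.Agent.Lib.Helper45.OeIIComm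

open Cfsg Cfsg.Geo Cfsg.Agent.Lib.Helper99.Asch Cfsg.Agent.Lib.Helper55.Oe
open Cfsg.Agent.Lib.Helper45.OeETensor2 Cfsg.Agent.Lib.Helper45.AschRTwo
open scoped MatrixGroups Matrix Kronecker

variable {n : ℕ} {F : Type*} [Field F]

/-! ### the quaternion case -/

theorem exists_sq_add_sq_eq_neg_one [Fintype F] : ∃ a b : F, a ^ 2 + b ^ 2 = -1 := by
  have : NeZero (ringChar F) := ⟨CharP.char_ne_zero_of_finite F (ringChar F)⟩
  obtain ⟨a, b, hab⟩ := CharP.sq_add_sq F (ringChar F) (-1)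
  exact ⟨a, b, by simpa using hab⟩

variable {Q : (Fin n → F) → F}

theorem quad_add (Q : (Fin n → F) → F) (p q : Fin n → F) :
    Q (p + q) = Q p + Q q + QuadraticMap.polar Q p q := by
  unfold QuadraticMap.polar
  ring

/-- case B: anticommuting isometries with squares `-1` -/
theorem isPlusTypeOn_of_quaternion [Fintype F] (hQ : IsNondegenerateQuadraticForm Q) (h2 : (2 : F) ≠ 0)
    {x y : GL (Fin n) F} (hx : x ∈ isometryGroup F Q) (hy : y ∈ isometryGroup F Q)
    (hxx : (x : Matrix (Fin n) (Fin n) F) * (x : Matrix (Fin n) (Fin n) F) = -1)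
    (hyy : (y : Matrix (Fin n) (Fin n) F) * (y : Matrix (Fin n) (Fin n) F) = -1)
    (hxy : (x : Matrix (Fin n) (Fin n) F) * (y : Matrix (Fin n) (Fin n) F) =
      -((y : Matrix (Fin n) (Fin n) F) * (x : Matrix (Fin n) (Fin n) F))) :
    IsPlusTypeOn Q ⊤ := by
  obtain ⟨a, b, hab⟩ := exists_sq_add_sq_eq_neg_one (F := F)
  set X : Matrix (Fin n) (Fin n) F := (x : Matrix (Fin n) (Fin n) F) with hX
  set Y : Matrix (Fin n) (Fin n) F := (y : Matrix (Fin n) (Fin n) F) with hY
  have hk : x * y ∈ isometryGroup F Q := Subgroup.mul_mem _ hx hy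
  have hK : ((x * y : GL (Fin n) F) : Matrix (Fin n) (Fin n) F) = X * Y := Units.val_mul x y
  have hyx : Y * X = -(X * Y) := by rw [hxy, neg_neg]
  have hXYX : X * Y * X = Y := by
    rw [mul_assoc, hyx, mul_neg, ← mul_assoc, hxx, neg_mul, one_mul, neg_neg]
  have hXYY : X * Y * Y = -X := by rw [mul_assoc, hyy, mul_neg, mul_one]
  have hXXY : X * (X * Y) = -Y := by rw [← mul_assoc, hxx, neg_mul, one_mul]
  have hYXY : Y * (X * Y) = X := by
    rw [← mul_assoc, hyx, neg_mul, mul_assoc, hyy, mul_neg, mul_one, neg_neg]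
  have hKK : X * Y * (X * Y) = -1 := by rw [← mul_assoc, hXYX, hyy]
  set s : Matrix (Fin n) (Fin n) F := a • X + b • Y with hs
  have hss : s * s = 1 := by
    have h1 : s * s = (-(a ^ 2 + b ^ 2)) • (1 : Matrix (Fin n) (Fin n) F) := by
      rw [hs, add_mul, mul_add, mul_add, smul_mul_assoc, smul_mul_assoc, smul_mul_assoc, smul_mul_assoc,
        mul_smul_comm, mul_smul_comm, mul_smul_comm, mul_smul_comm, hxx, hyy, hyx]
      module
    rw [h1, hab, neg_neg, one_smul]
  have hks : ((x * y : GL (Fin n) F) : Matrix (Fin n) (Fin n) F) * s =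
      -(s * ((x * y : GL (Fin n) F) : Matrix (Fin n) (Fin n) F)) := by
    rw [hK, hs, mul_add, mul_smul_comm, mul_smul_comm, hXYX, hXYY, add_mul, smul_mul_assoc, smul_mul_assoc,
      hXXY, hYXY]
    module
  -- `Q (s v) = - Q v`
  have hpol0 : ∀ v, QuadraticMap.polar Q v ((X * Y) *ᵥ v) = 0 := by
    intro v
    have h1 := polar_isometry hk v ((X * Y) *ᵥ v)
    rw [hK, Matrix.mulVec_mulVec (v := v) (X * Y) (X * Y), hKK, Matrix.neg_mulVec, Matrix.one_mulVec,
      polar_neg_right hQ, QuadraticMap.polar_comm] at h1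
    have h4 : (2 : F) * QuadraticMap.polar Q v ((X * Y) *ᵥ v) = 0 := by linear_combination -h1
    rcases mul_eq_zero.1 h4 with h | h
    · exact absurd h h2
    · exact h
  have hpolXY : ∀ v, QuadraticMap.polar Q (X *ᵥ v) (Y *ᵥ v) = 0 := by
    intro v
    have h1 := polar_isometry hx (X *ᵥ v) (Y *ᵥ v)
    rw [← hX, Matrix.mulVec_mulVec, Matrix.mulVec_mulVec, hxx, Matrix.neg_mulVec, Matrix.one_mulVec] at h1
    rw [← h1, QuadraticMap.polar_comm, polar_neg_right hQ, QuadraticMap.polar_comm, hpol0, neg_zero]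
  have hQs : ∀ v, Q (s *ᵥ v) = - Q v := by
    intro v
    have h1 : s *ᵥ v = a • (X *ᵥ v) + b • (Y *ᵥ v) := by
      rw [hs, Matrix.add_mulVec, Matrix.smul_mulVec, Matrix.smul_mulVec]
    have h3 : QuadraticMap.polar Q (a • (X *ᵥ v)) (b • (Y *ᵥ v)) = 0 := by
      rw [← polarLin_apply hQ, map_smul, map_smul, LinearMap.smul_apply, polarLin_apply, hpolXY, smul_zero,
        smul_zero]
    rw [h1, quad_add Q, hQ.smul, hQ.smul, h3, hX, hY, isometry_apply hx, isometry_apply hy]
    linear_combination (Q v) * hab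
  refine ⟨eig s 1, le_top, ?_, ?_⟩
  · intro u hu
    have h1 := hQs u
    rw [mem_eig.1 hu, one_smul] at h1
    have h4 : (2 : F) * Q u = 0 := by linear_combination h1
    rcases mul_eq_zero.1 h4 with h | h
    · exact absurd h h2
    · exact h
  · rw [two_mul_finrank_eig h2 (x * y) s hss hks, finrank_top, Module.finrank_fin_fun]

/-! ### the order of `N / Z` -/

theorem sq_eq_prime_pow [Fintype F] (hn : 0 < n) {H N : Subgroup (GL (Fin n) F)} (hN : IsMinNrm H N)
    (habs : ActsAbsolutelyIrreducibly (matrixSet N)) (hab : CommScalar N) (r : ℕ) (hr : r.Prime)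
    (hexp : ∀ x ∈ N, x ^ r ∈ scalars (Fin n) F) : ∃ k : ℕ, n ^ 2 = r ^ k := by
  classical
  have : Fact r.Prime := ⟨hr⟩
  have hcard := Cfsg.Agent.Lib.Helper99.Asch.card_eq_of_commScalar hn N habs hab
  rw [inf_eq_right.2 hN.scalars_le] at hcard
  have hp : IsPGroup r (↥N ⧸ (scalars (Fin n) F).subgroupOf N) := by
    intro g
    induction g using QuotientGroup.induction_on with
    | H x =>
      refine ⟨1, ?_⟩
      rw [pow_one, ← QuotientGroup.mk_pow, QuotientGroup.eq_one_iff, Subgroup.mem_subgroupOf]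
      exact hexp x x.2
  obtain ⟨k, hk⟩ := hp.exists_card_eq
  have h1 := Subgroup.card_eq_card_quotient_mul_card_subgroup ((scalars (Fin n) F).subgroupOf N)
  have h3 : Nat.card ((scalars (Fin n) F).subgroupOf N) = Nat.card (scalars (Fin n) F) :=
    Nat.card_congr (Subgroup.subgroupOfEquivOfLe hN.scalars_le).toEquiv
  have hZpos : 0 < Nat.card (scalars (Fin n) F) := Nat.card_pos
  rw [hk, h3, hcard, mul_comm] at h1
  exact ⟨k, Nat.eq_of_mul_eq_mul_right hZpos h1⟩

theorem eq_eight_of_sq_eq_prime_pow (hn : n = 8 ∨ n = 10 ∨ n = 12) (r k : ℕ) (hr : r.Prime)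
    (h : n ^ 2 = r ^ k) : n = 8 ∧ r = 2 := by
  have key : ∀ p : ℕ, p.Prime → p ∣ n ^ 2 → p = r := fun p hp hd =>
    (Nat.prime_dvd_prime_iff_eq hp hr).1 (hp.dvd_of_dvd_pow (h ▸ hd))
  rcases hn with rfl | rfl | rfl
  · exact ⟨rfl, (key 2 Nat.prime_two (by norm_num)).symm⟩
  · have h1 := key 2 Nat.prime_two (by norm_num)
    have h3 := key 5 (by norm_num) (by norm_num)
    omega
  · have h1 := key 2 Nat.prime_two (by norm_num)
    have h3 := key 3 Nat.prime_three (by norm_num)
    omega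

/-! ### scalars and isometries -/

theorem exists_quad_ne_zero (hQ : IsNondegenerateQuadraticForm Q) (hn : 0 < n) : ∃ v, Q v ≠ 0 := by
  by_contra hcon
  have h0 : ∀ v, Q v = 0 := by
    intro v
    by_contra h
    exact hcon ⟨v, h⟩
  have hv : (Pi.single (⟨0, hn⟩ : Fin n) (1 : F) : Fin n → F) ≠ 0 := by
    intro h
    have := congrFun h ⟨0, hn⟩
    simp at this
  obtain ⟨⟨a, ha⟩, _⟩ := hQ.nondegenerate _ hv
  apply ha
  unfold QuadraticMap.polar
  rw [h0, h0, h0]
  ring

theorem scalar_isometry (hQ : IsNondegenerateQuadraticForm Q) (hn : 0 < n) (g : GL (Fin n) F)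
    (hgI : g ∈ isometryGroup F Q) (hgZ : g ∈ scalars (Fin n) F) :
    (g : Matrix (Fin n) (Fin n) F) = 1 ∨ (g : Matrix (Fin n) (Fin n) F) = -1 := by
  obtain ⟨c, hc⟩ := (mem_scalars_iff g).1 hgZ
  obtain ⟨v, hv⟩ := exists_quad_ne_zero hQ hn
  have h1 := isometry_apply hgI v
  rw [hc, Matrix.smul_mulVec, Matrix.one_mulVec, hQ.smul] at h1
  have h3 : (c : F) * (c : F) = 1 := by
    have : ((c : F) ^ 2 - 1) * Q v = 0 := by linear_combination h1
    rcases mul_eq_zero.1 this with h | h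
    · linear_combination h
    · exact absurd h hv
  rcases mul_self_eq_one_iff.1 h3 with h | h
  · left
    rw [hc, h, one_smul]
  · right
    rw [hc, h, neg_smul, one_smul]

theorem exists_iso_mul_scalar {H N : Subgroup (GL (Fin n) F)} (hH : H ≤ isometryGroup F Q)
    (hN : IsMinNrm H N) {x : GL (Fin n) F} (hx : x ∈ N) :
    ∃ x₀ ∈ N, x₀ ∈ isometryGroup F Q ∧ ∃ z ∈ scalars (Fin n) F, x = x₀ * z := by
  obtain ⟨h, hh, z, hz, rfl⟩ := Subgroup.mem_sup_of_normal_right.1 (hN.le_sup hx)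
  refine ⟨h, ?_, hH hh, z, hz, rfl⟩
  have : h = h * z * z⁻¹ := by group
  rw [this]
  exact N.mul_mem hx (N.inv_mem (hN.scalars_le hz))

/-- in `N ⊓ I` squares and commutators are `±1` -/
theorem sq_pm_one [Fintype F] (hQ : IsNondegenerateQuadraticForm Q) (hn : 0 < n)
    {N : Subgroup (GL (Fin n) F)} (hexp : ∀ x ∈ N, x ^ 2 ∈ scalars (Fin n) F) {x : GL (Fin n) F}
    (hxN : x ∈ N) (hxI : x ∈ isometryGroup F Q) :
    (x : Matrix (Fin n) (Fin n) F) * (x : Matrix (Fin n) (Fin n) F) = 1 ∨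
      (x : Matrix (Fin n) (Fin n) F) * (x : Matrix (Fin n) (Fin n) F) = -1 := by
  have h1 := scalar_isometry hQ hn (x ^ 2) (Subgroup.pow_mem _ hxI 2) (hexp x hxN)
  rwa [pow_two, Units.val_mul] at h1

end Cfsg.Agent.Lib.Helper45.OeIIComm

namespace Cfsg.Agent.Lib.Helper55.Oe

open Cfsg Cfsg.Geo Cfsg.Agent.Lib.Helper99.Asch Cfsg.Agent.Lib.Helper45.OeIIComm
open Cfsg.Agent.Lib.Helper45.AschRTwo
open scoped MatrixGroups Matrix Kronecker

variable {n : ℕ} {F : Type*} [Field F] [Fintype F]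

/-- ASCHOE-[II-COMM] -/
theorem eight_plus_of_commScalar {Q : (Fin n → F) → F} (hQ : IsNondegenerateQuadraticForm Q)
    (hn : n = 8 ∨ n = 10 ∨ n = 12) {H : Subgroup (GL (Fin n) F)} (hH : H ≤ isometryGroup F Q)
    (N : Subgroup (GL (Fin n) F)) (hN : IsMinNrm H N) (habs : ActsAbsolutelyIrreducibly (matrixSet N))
    (hab : CommScalar N) : n = 8 ∧ IsPlusTypeOn Q ⊤ := by
  classical
  have hn0 : 0 < n := by rcases hn with h | h | h <;> omega
  have hn2 : 2 ≤ n := by rcases hn with h | h | h <;> omega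
  obtain ⟨r, hr, hexp⟩ := exists_prime_exponent hn2 H N hN hab
  obtain ⟨k, hk⟩ := sq_eq_prime_pow hn0 hN habs hab r hr hexp
  obtain ⟨hn8, hr2⟩ := eq_eight_of_sq_eq_prime_pow hn r k hr hk
  subst hr2
  refine ⟨hn8, ?_⟩
  -- a non-commuting pair in `N ⊓ I`
  obtain ⟨x', hx'N, y', hy'N, hne⟩ := exists_not_comm hn0 N habs hN.not_le
  obtain ⟨x, hxN, hxI, zx, hzx, rfl⟩ := exists_iso_mul_scalar hH hN hx'N
  obtain ⟨y, hyN, hyI, zy, hzy, rfl⟩ := exists_iso_mul_scalar hH hN hy'N
  have hne' : x * y ≠ y * x := by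
    intro h
    apply hne
    calc x * zx * (y * zy) = x * (zx * y) * zy := by group
      _ = x * (y * zx) * zy := by rw [scalar_comm hzx y]
      _ = (x * y) * (zx * zy) := by group
      _ = (y * x) * (zy * zx) := by rw [h, scalar_comm hzx zy]
      _ = y * (x * zy) * zx := by group
      _ = y * (zy * x) * zx := by rw [scalar_comm hzy x]
      _ = y * zy * (x * zx) := by group
  set c : GL (Fin n) F := x * y * x⁻¹ * y⁻¹ with hc
  have hcI : c ∈ isometryGroup F Q :=
    Subgroup.mul_mem _ (Subgroup.mul_mem _ (Subgroup.mul_mem _ hxI hyI) (Subgroup.inv_mem _ hxI))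
      (Subgroup.inv_mem _ hyI)
  have hcZ : c ∈ scalars (Fin n) F := hab x hxN y hyN
  have hxy : x * y = c * (y * x) := by rw [hc]; group
  rcases scalar_isometry hQ hn0 c hcI hcZ with h1 | h1
  · exfalso
    apply hne'
    have : c = 1 := Units.ext h1
    rw [hxy, this, one_mul]
  · have hXY : (x : Matrix (Fin n) (Fin n) F) * (y : Matrix (Fin n) (Fin n) F) =
        -((y : Matrix (Fin n) (Fin n) F) * (x : Matrix (Fin n) (Fin n) F)) := by
      rw [← Units.val_mul, hxy, Units.val_mul, h1, Units.val_mul, neg_mul, one_mul]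
    have h2 : (2 : F) ≠ 0 := by
      intro h20
      apply hne'
      apply Units.ext
      rw [Units.val_mul, hXY, Units.val_mul]
      have : (-1 : F) = 1 := by linear_combination -h20
      rw [← neg_one_smul F, this, one_smul]
    rcases sq_pm_one hQ hn0 hexp hxN hxI with hxx | hxx
    · exact isPlusTypeOn_of_involution hQ h2 hn8 hxI hyI hxx (by rw [hXY, neg_neg])
    · rcases sq_pm_one hQ hn0 hexp hyN hyI with hyy | hyy
      · exact isPlusTypeOn_of_involution hQ h2 hn8 hyI hxI hyy hXY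
      · exact isPlusTypeOn_of_quaternion hQ h2 hxI hyI hxx hyy hXY

end Cfsg.Agent.Lib.Helper55.Oe
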