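import Cfsg.Agent.Lib.Helper69.Aut.OutDefs
import Cfsg.Agent.Lib.Helper91.OutInn
import Cfsg.Agent.S1036
import Cfsg.Agent.S1043
import Cfsg.Agent.S1051
import Cfsg.Agent.Lib.Helper18.Borel

/-!
# project OUT, module [INN] (helper45): the inner automorphisms fixing `U` and `V` are the conjugations by `H`
(step (b) = helper91's `mem_diagonal_of_normalizes`)
-/

set_option autoImplicit false

namespace Cfsg.Agent.Lib.Helper45.Aut

open Cfsg Cfsg.Lie Cfsg.Agent.Lib.Helper18 Cfsg.Agent.Lib.Helper91.ChevGen Cfsg.Agent.Lib.Helper69.Aut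

universe u

variable {F : Type u} [Field F] {D : ChevalleyDatum}

section general

variable {Γ : Type*} [Group Γ]

theorem map_conj_eq_of_mem_normalizer {K : Subgroup Γ} {g : Γ}
    (hg : g ∈ Subgroup.normalizer (K : Set Γ)) : K.map (MulAut.conj g).toMonoidHom = K := by
  ext x
  rw [Subgroup.mem_map]
  constructor
  · rintro ⟨k, hk, rfl⟩
    exact (Subgroup.mem_normalizer_iff.1 hg k).1 hk
  · intro hx
    refine ⟨g⁻¹ * x * g, ?_, ?_⟩
    · apply (Subgroup.mem_normalizer_iff.1 hg (g⁻¹ * x * g)).2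
      have e : g * (g⁻¹ * x * g) * g⁻¹ = x := by group
      rw [e]; exact hx
    · show g * (g⁻¹ * x * g) * g⁻¹ = x
      group

theorem mem_normalizer_of_map_conj_eq {K : Subgroup Γ} {g : Γ}
    (h : K.map (MulAut.conj g).toMonoidHom = K) : g ∈ Subgroup.normalizer (K : Set Γ) := by
  rw [Subgroup.mem_normalizer_iff]
  intro k
  constructor
  · intro hk
    rw [← h]
    exact ⟨k, hk, rfl⟩
  · intro hk
    rw [← h] at hk
    obtain ⟨k', hk', hkk⟩ := hk
    have h1 : g * k' * g⁻¹ = g * k * g⁻¹ := hkk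
    have : k' = k := mul_left_cancel (mul_right_cancel h1)
    rw [← this]; exact hk'

end general

/-- MODULE OUT-[INN] -/
theorem card_Nrm_inf_Inn [Finite F] (hD : D ∈ [chevG2, chevB2, chevD4, chevF4, chevE6, chevE7, chevE8]) :
    Nat.card ↥(Nrm hD F ⊓ Cfsg.Inn ↥(D.group F)) = Nat.card ↥(D.diagonalSubgroup F) := by
  have hBG : D.borelSubgroup F ≤ D.group F := (Cfsg.Agent.S1043.result D hD).1
  have hHB : D.diagonalSubgroup F ≤ D.borelSubgroup F := le_sup_right
  have hHG : D.diagonalSubgroup F ≤ D.group F := hHB.trans hBG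
  have hUG : D.posUnipotent F ≤ D.group F := posUnipotent_le_group' hD
  have hVG : D.negUnipotent F ≤ D.group F := negUnipotent_le_group' hD
  have hHNU := (Cfsg.Agent.S1036.result (F := F) D hD).1
  have hHNV := diagonal_le_normalizer_negUnipotent (F := F) D hD
  -- conjugation by `h ∈ H` is normalised
  have hnorm : ∀ h : GL D.Idx F, ∀ hh : h ∈ D.diagonalSubgroup F,
      (MulAut.conj (⟨h, hHG hh⟩ : ↥(D.group F)) : MulAut ↥(D.group F)) ∈
        Nrm hD F ⊓ Cfsg.Inn ↥(D.group F) := by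
    intro h hh
    refine ⟨?_, ⟨_, rfl⟩⟩
    show IsNormalized _
    constructor
    · have := img_conjS (⟨h, hHG hh⟩ : ↥(D.group F)) (D.posUnipotent F) hUG
      unfold conjS at this
      rw [this]
      exact map_conj_eq_of_mem_normalizer (hHNU hh)
    · have := img_conjS (⟨h, hHG hh⟩ : ↥(D.group F)) (D.negUnipotent F) hVG
      unfold conjS at this
      rw [this]
      exact map_conj_eq_of_mem_normalizer (hHNV hh)
  symm
  apply Nat.card_congr
  refine Equiv.ofBijective
    (fun h : ↥(D.diagonalSubgroup F) =>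
      (⟨MulAut.conj (⟨h.1, hHG h.2⟩ : ↥(D.group F)), hnorm h.1 h.2⟩ :
        ↥(Nrm hD F ⊓ Cfsg.Inn ↥(D.group F)))) ⟨?_, ?_⟩
  · -- injective
    intro h h' heq
    have h1 : (MulAut.conj (⟨h.1, hHG h.2⟩ : ↥(D.group F)) : MulAut ↥(D.group F)) =
        MulAut.conj (⟨h'.1, hHG h'.2⟩ : ↥(D.group F)) := congrArg Subtype.val heq
    set a : ↥(D.group F) := ⟨h.1, hHG h.2⟩ with ha
    set b : ↥(D.group F) := ⟨h'.1, hHG h'.2⟩ with hb
    -- `a⁻¹ b` is central in `G`
    have hcen : ∀ y : ↥(D.group F), a⁻¹ * b * y = y * (a⁻¹ * b) := by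
      intro y
      have h2 : a * y * a⁻¹ = b * y * b⁻¹ := by
        have := congrArg (fun θ : MulAut ↥(D.group F) => θ y) h1
        simpa only [MulAut.conj_apply] using this
      calc a⁻¹ * b * y = a⁻¹ * (b * y * b⁻¹) * b := by group
        _ = a⁻¹ * (a * y * a⁻¹) * b := by rw [h2]
        _ = y * (a⁻¹ * b) := by group
    have hxB : a⁻¹ * b ∈ ((D.borelSubgroup F).subgroupOf (D.group F)).normalCore := by
      intro y
      have e : y * (a⁻¹ * b) * y⁻¹ = a⁻¹ * b := by
        rw [← hcen y]; group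
      rw [e, Subgroup.mem_subgroupOf]
      exact hHB ((D.diagonalSubgroup F).mul_mem ((D.diagonalSubgroup F).inv_mem h.2) h'.2)
    rw [Cfsg.Agent.S1051.result D hD, Subgroup.mem_bot] at hxB
    have h3 : a = b := by
      have : a * (a⁻¹ * b) = a * 1 := by rw [hxB]
      rw [mul_one] at this
      rw [← this]; group
    apply Subtype.ext
    have h4 : (a : GL D.Idx F) = (b : GL D.Idx F) := congrArg Subtype.val h3
    exact h4
  · -- surjective
    rintro ⟨θ, hθN, x, rfl⟩
    have hθN' : IsNormalized (MulAut.conj x : ↥(D.group F) ≃* ↥(D.group F)) := hθN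
    obtain ⟨hU, hV⟩ := hθN'
    have hU' : (D.posUnipotent F).map (MulAut.conj (x : GL D.Idx F)).toMonoidHom =
        D.posUnipotent F := by
      rw [← img_conjS x _ hUG]; exact hU
    have hV' : (D.negUnipotent F).map (MulAut.conj (x : GL D.Idx F)).toMonoidHom =
        D.negUnipotent F := by
      rw [← img_conjS x _ hVG]; exact hV
    have hxH : (x : GL D.Idx F) ∈ D.diagonalSubgroup F :=
      Cfsg.Agent.Lib.Helper91.OutInn.mem_diagonal_of_normalizes hD (x : GL D.Idx F) x.2
        (Subgroup.mem_normalizer_iff.1 (mem_normalizer_of_map_conj_eq hU'))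
        (Subgroup.mem_normalizer_iff.1 (mem_normalizer_of_map_conj_eq hV'))
    refine ⟨⟨x, hxH⟩, ?_⟩
    apply Subtype.ext
    rfl

end Cfsg.Agent.Lib.Helper45.Aut
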