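import Cfsg.Agent.Lib.Helper45.Quartets
import Cfsg.Agent.Lib.Helper7.M12General

/-!
# The stabiliser of a quartet inside a dodecad stabiliser (abstract, via sharp 5-transitivity)
-/

set_option autoImplicit false

namespace Cfsg.Agent.Lib.Helper45.QuartetStab
open Cfsg Cfsg.Agent.Lib.Helper7 Cfsg.Agent.Lib.Helper45.Quartets
open scoped Pointwise

/-- An element of the dodecad stabiliser fixing five points of the dodecad is the identity. -/
theorem eq_one_of_fixes {d : Finset GolayPt} (hd : d ∈ dodecads) {g : Equiv.Perm GolayPt}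
    (hg : g ∈ stabM24 d) {s : Finset GolayPt} (hs : s ⊆ d) (h5 : 5 ≤ s.card)
    (hfix : ∀ p ∈ s, g p = p) : g = 1 := by
  obtain ⟨x, hx⟩ := exists_emb_of_five_le_card (s := s) h5
  obtain ⟨g0, _, huniq⟩ := existsUnique_stabM24_map hd x x (fun i => hs (hx i)) (fun i => hs (hx i))
  rw [huniq g ⟨hg, fun i => hfix _ (hx i)⟩, huniq 1 ⟨(stabM24 d).one_mem, fun i => rfl⟩]

/-! ### Basic facts on quartets -/

theorem quartet_card {d : Finset GolayPt} {Q : Finset (Finset GolayPt)} (hQ : Q ∈ quartets d)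
    {t : Finset GolayPt} (ht : t ∈ Q) : t.card = 3 := (hQ.2.1 t ht).1

theorem quartet_subset {d : Finset GolayPt} {Q : Finset (Finset GolayPt)} (hQ : Q ∈ quartets d)
    {t : Finset GolayPt} (ht : t ∈ Q) : t ⊆ d := (hQ.2.1 t ht).2

theorem quartet_hex {d : Finset GolayPt} {Q : Finset (Finset GolayPt)} (hQ : Q ∈ quartets d)
    {t u : Finset GolayPt} (ht : t ∈ Q) (hu : u ∈ Q) (hne : t ≠ u) : t ∪ u ∈ hexadsOn d :=
  hQ.2.2 t ht u hu hne

theorem quartet_disjoint {d : Finset GolayPt} {Q : Finset (Finset GolayPt)} (hQ : Q ∈ quartets d)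
    {t u : Finset GolayPt} (ht : t ∈ Q) (hu : u ∈ Q) (hne : t ≠ u) : Disjoint t u := by
  rw [← Finset.card_union_eq_card_add_card, (quartet_hex hQ ht hu hne).1, quartet_card hQ ht,
    quartet_card hQ hu]

/-- The triples of a quartet cover the dodecad. -/
theorem quartet_cover {d : Finset GolayPt} (hd : d ∈ dodecads) {Q : Finset (Finset GolayPt)}
    (hQ : Q ∈ quartets d) {p : GolayPt} (hp : p ∈ d) : ∃ t ∈ Q, p ∈ t := by
  have hsub : Q.biUnion id ⊆ d := by
    intro x hx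
    obtain ⟨t, ht, hxt⟩ := Finset.mem_biUnion.mp hx
    exact quartet_subset hQ ht hxt
  have hcard : (Q.biUnion id).card = 12 := by
    rw [Finset.card_biUnion]
    · have h3 : ∀ t ∈ Q, (id t).card = 3 := fun t ht => quartet_card hQ ht
      rw [Finset.sum_congr rfl h3, Finset.sum_const, hQ.1]; rfl
    · intro t ht u hu hne
      exact quartet_disjoint hQ ht hu hne
  have heq : Q.biUnion id = d := Finset.eq_of_subset_of_card_le hsub (by rw [hcard, hd.2])
  rw [← heq] at hp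
  obtain ⟨t, ht, hpt⟩ := Finset.mem_biUnion.mp hp
  exact ⟨t, ht, hpt⟩

theorem quartet_unique {d : Finset GolayPt} {Q : Finset (Finset GolayPt)} (hQ : Q ∈ quartets d)
    {t u : Finset GolayPt} (ht : t ∈ Q) (hu : u ∈ Q) {p : GolayPt} (hpt : p ∈ t) (hpu : p ∈ u) :
    t = u := by
  by_contra hne
  exact Finset.disjoint_left.mp (quartet_disjoint hQ ht hu hne) hpt hpu

/-- A quartet has a triple different from a given one. -/
theorem exists_other {d : Finset GolayPt} {Q : Finset (Finset GolayPt)} (hQ : Q ∈ quartets d)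
    (t : Finset GolayPt) : ∃ u ∈ Q, u ≠ t := by
  by_contra hcon
  push Not at hcon
  have : Q ⊆ {t} := fun u hu => Finset.mem_singleton.mpr (hcon u hu)
  have := Finset.card_le_card this
  rw [hQ.1, Finset.card_singleton] at this
  omega

/-! ### Flag transitivity -/

theorem triple_eq {t : Finset GolayPt} (ht : t.card = 3) {a1 a2 a3 : GolayPt} (h1 : a1 ∈ t)
    (h2 : a2 ∈ t) (h3 : a3 ∈ t) (h12 : a1 ≠ a2) (h13 : a1 ≠ a3) (h23 : a2 ≠ a3) :
    t = {a1, a2, a3} := by
  symm
  apply Finset.eq_of_subset_of_card_le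
  · intro x hx
    simp only [Finset.mem_insert, Finset.mem_singleton] at hx
    rcases hx with rfl | rfl | rfl <;> assumption
  · rw [ht, Finset.card_insert_of_notMem (by simp [h12, h13]),
      Finset.card_insert_of_notMem (by simp [h23]), Finset.card_singleton]

/-- The stabiliser of a quartet in the dodecad stabiliser is transitive on flags: a triple with
an ordering of its points together with an ordered pair of points of a second triple. -/
theorem exists_map_flag {d : Finset GolayPt} (hd : d ∈ dodecads) {Q : Finset (Finset GolayPt)}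
    (hQ : Q ∈ quartets d) {t u t' u' : Finset GolayPt} (ht : t ∈ Q) (hu : u ∈ Q) (htu : t ≠ u)
    (ht' : t' ∈ Q) (hu' : u' ∈ Q) (htu' : t' ≠ u') {a1 a2 a3 a4 a5 b1 b2 b3 b4 b5 : GolayPt}
    (ha1 : a1 ∈ t) (ha2 : a2 ∈ t) (ha3 : a3 ∈ t) (ha12 : a1 ≠ a2) (ha13 : a1 ≠ a3)
    (ha23 : a2 ≠ a3) (ha4 : a4 ∈ u) (ha5 : a5 ∈ u) (ha45 : a4 ≠ a5)
    (hb1 : b1 ∈ t') (hb2 : b2 ∈ t') (hb3 : b3 ∈ t') (hb12 : b1 ≠ b2) (hb13 : b1 ≠ b3)
    (hb23 : b2 ≠ b3) (hb4 : b4 ∈ u') (hb5 : b5 ∈ u') (hb45 : b4 ≠ b5) :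
    ∃ g : Equiv.Perm GolayPt, g ∈ M24 ∧ g • d = d ∧ g • Q = Q ∧ g • t = t' ∧ g • u = u' ∧
      g a1 = b1 ∧ g a2 = b2 ∧ g a3 = b3 ∧ g a4 = b4 ∧ g a5 = b5 := by
  have hdis := quartet_disjoint hQ ht hu htu
  have hdis' := quartet_disjoint hQ ht' hu' htu'
  have na : ∀ {p q : GolayPt}, p ∈ t → q ∈ u → p ≠ q := fun hp hq h =>
    Finset.disjoint_left.mp hdis hp (h ▸ hq)
  have nb : ∀ {p q : GolayPt}, p ∈ t' → q ∈ u' → p ≠ q := fun hp hq h =>
    Finset.disjoint_left.mp hdis' hp (h ▸ hq)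
  have e14 := na ha1 ha4
  have e15 := na ha1 ha5
  have e24 := na ha2 ha4
  have e25 := na ha2 ha5
  have e34 := na ha3 ha4
  have e35 := na ha3 ha5
  have f14 := nb hb1 hb4
  have f15 := nb hb1 hb5
  have f24 := nb hb2 hb4
  have f25 := nb hb2 hb5
  have f34 := nb hb3 hb4
  have f35 := nb hb3 hb5
  let x : Fin 5 ↪ GolayPt := ⟨![a1, a2, a3, a4, a5], by
    intro i j h
    fin_cases i <;> fin_cases j <;> simp at h <;> first | rfl | (exfalso; tauto)⟩
  let y : Fin 5 ↪ GolayPt := ⟨![b1, b2, b3, b4, b5], by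
    intro i j h
    fin_cases i <;> fin_cases j <;> simp at h <;> first | rfl | (exfalso; tauto)⟩
  have htd := quartet_subset hQ ht
  have hud := quartet_subset hQ hu
  have htd' := quartet_subset hQ ht'
  have hud' := quartet_subset hQ hu'
  obtain ⟨g, ⟨hg, hgmap⟩, _⟩ := existsUnique_stabM24_map hd x y (by
    intro i
    fin_cases i
    · exact htd ha1
    · exact htd ha2
    · exact htd ha3
    · exact hud ha4
    · exact hud ha5) (by
    intro i
    fin_cases i
    · exact htd' hb1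
    · exact htd' hb2
    · exact htd' hb3
    · exact hud' hb4
    · exact hud' hb5)
  have g1 : g a1 = b1 := hgmap 0
  have g2 : g a2 = b2 := hgmap 1
  have g3 : g a3 = b3 := hgmap 2
  have g4 : g a4 = b4 := hgmap 3
  have g5 : g a5 = b5 := hgmap 4
  have hgM : g ∈ M24 := (mem_stabM24.mp hg).1
  have hgd : g • d = d := (mem_stabM24.mp hg).2
  have hgt : g • t = t' := by
    rw [triple_eq (quartet_card hQ ht) ha1 ha2 ha3 ha12 ha13 ha23,
      triple_eq (quartet_card hQ ht') hb1 hb2 hb3 hb12 hb13 hb23, Finset.smul_finset_insert,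
      Finset.smul_finset_insert, Finset.smul_finset_singleton, Equiv.Perm.smul_def,
      Equiv.Perm.smul_def, Equiv.Perm.smul_def, g1, g2, g3]
  have hgu : g • u = u' := by
    have hhex : g • (t ∪ u) ∈ hexadsOn d := by
      have := smul_mem_hexadsOn hgM (quartet_hex hQ ht hu htu)
      rwa [hgd] at this
    have hhex' := quartet_hex hQ ht' hu' htu'
    have hs5 : ({b1, b2, b3, b4, b5} : Finset GolayPt).card = 5 := by
      rw [Finset.card_insert_of_notMem (by simp [hb12, hb13, f14, f15]),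
        Finset.card_insert_of_notMem (by simp [hb23, f24, f25]),
        Finset.card_insert_of_notMem (by simp [f34, f35]),
        Finset.card_insert_of_notMem (by simp [hb45]), Finset.card_singleton]
    have hsub1 : ({b1, b2, b3, b4, b5} : Finset GolayPt) ⊆ g • (t ∪ u) := by
      intro z hz
      simp only [Finset.mem_insert, Finset.mem_singleton] at hz
      rcases hz with rfl | rfl | rfl | rfl | rfl
      · rw [← g1, apply_mem_perm_smul_finset]; exact Finset.mem_union_left _ ha1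
      · rw [← g2, apply_mem_perm_smul_finset]; exact Finset.mem_union_left _ ha2
      · rw [← g3, apply_mem_perm_smul_finset]; exact Finset.mem_union_left _ ha3
      · rw [← g4, apply_mem_perm_smul_finset]; exact Finset.mem_union_right _ ha4
      · rw [← g5, apply_mem_perm_smul_finset]; exact Finset.mem_union_right _ ha5
    have hsub2 : ({b1, b2, b3, b4, b5} : Finset GolayPt) ⊆ t' ∪ u' := by
      intro z hz
      simp only [Finset.mem_insert, Finset.mem_singleton] at hz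
      rcases hz with rfl | rfl | rfl | rfl | rfl
      · exact Finset.mem_union_left _ hb1
      · exact Finset.mem_union_left _ hb2
      · exact Finset.mem_union_left _ hb3
      · exact Finset.mem_union_right _ hb4
      · exact Finset.mem_union_right _ hb5
    have heq := hexadsOn_eq_of_five hhex hhex' (le_of_eq hs5.symm) hsub1 hsub2
    rw [Finset.smul_finset_union, hgt] at heq
    have hd2 : Disjoint t' (g • u) := by rw [← hgt]; exact smul_disjoint hdis
    rw [← Finset.union_sdiff_cancel_left hd2, heq, Finset.union_sdiff_cancel_left hdis']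
  have hgQ : g • Q = Q := by
    obtain ⟨Q₀, _, huniq⟩ := existsUnique_quartet hd (quartet_card hQ ht') (quartet_card hQ hu')
      hdis' (quartet_hex hQ ht' hu' htu')
    have h1 : g • Q = Q₀ := by
      apply huniq
      refine ⟨?_, ?_, ?_⟩
      · have := smul_mem_quartets hgM hQ
        rwa [hgd] at this
      · rw [← hgt]; exact Finset.smul_mem_smul_finset ht
      · rw [← hgu]; exact Finset.smul_mem_smul_finset hu
    rw [h1, huniq Q ⟨hQ, ht', hu'⟩]
  exact ⟨g, hgM, hgd, hgQ, hgt, hgu, g1, g2, g3, g4, g5⟩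

/-! ### The stabiliser as a permutation group, transitivity on the dodecad -/

/-- The stabiliser of `d` and `Q`, as a group of permutations. -/
def KP (d : Finset GolayPt) (Q : Finset (Finset GolayPt)) : Subgroup (Equiv.Perm GolayPt) :=
  stabM24 d ⊓ MulAction.stabilizer (Equiv.Perm GolayPt) Q

theorem mem_KP {d : Finset GolayPt} {Q : Finset (Finset GolayPt)} {g : Equiv.Perm GolayPt} :
    g ∈ KP d Q ↔ g ∈ M24 ∧ g • d = d ∧ g • Q = Q := by
  simp [KP, mem_stabM24, MulAction.mem_stabilizer_iff, and_assoc]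

theorem exists_triple_of_mem {t : Finset GolayPt} (ht : t.card = 3) {p : GolayPt} (hp : p ∈ t) :
    ∃ b c, b ∈ t ∧ c ∈ t ∧ p ≠ b ∧ p ≠ c ∧ b ≠ c := by
  have h2 : (t.erase p).card = 2 := by rw [Finset.card_erase_of_mem hp, ht]
  obtain ⟨b, c, hbc, he⟩ := Finset.card_eq_two.mp h2
  have hb : b ∈ t.erase p := by rw [he]; simp
  have hc : c ∈ t.erase p := by rw [he]; simp
  rw [Finset.mem_erase] at hb hc
  exact ⟨b, c, hb.2, hc.2, fun h => hb.1 h.symm, fun h => hc.1 h.symm, hbc⟩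

theorem exists_pair_of_card {u : Finset GolayPt} (hu : u.card = 3) :
    ∃ a b, a ∈ u ∧ b ∈ u ∧ a ≠ b := by
  obtain ⟨a, ha, b, hb, hab⟩ := Finset.one_lt_card.mp (by rw [hu]; norm_num : 1 < u.card)
  exact ⟨a, b, ha, hb, hab⟩

/-- The quartet stabiliser is transitive on the dodecad. -/
theorem exists_KP_map_point {d : Finset GolayPt} (hd : d ∈ dodecads)
    {Q : Finset (Finset GolayPt)} (hQ : Q ∈ quartets d) {p q : GolayPt} (hp : p ∈ d)
    (hq : q ∈ d) : ∃ g ∈ KP d Q, g p = q := by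
  obtain ⟨t, ht, hpt⟩ := quartet_cover hd hQ hp
  obtain ⟨t', ht', hqt⟩ := quartet_cover hd hQ hq
  obtain ⟨u, hu, hut⟩ := exists_other hQ t
  obtain ⟨u', hu', hut'⟩ := exists_other hQ t'
  obtain ⟨a2, a3, ha2, ha3, h12, h13, h23⟩ := exists_triple_of_mem (quartet_card hQ ht) hpt
  obtain ⟨b2, b3, hb2, hb3, k12, k13, k23⟩ := exists_triple_of_mem (quartet_card hQ ht') hqt
  obtain ⟨a4, a5, ha4, ha5, h45⟩ := exists_pair_of_card (quartet_card hQ hu)
  obtain ⟨b4, b5, hb4, hb5, k45⟩ := exists_pair_of_card (quartet_card hQ hu')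
  obtain ⟨g, hgM, hgd, hgQ, _, _, g1, _⟩ := exists_map_flag hd hQ ht hu (Ne.symm hut) ht' hu'
    (Ne.symm hut') hpt ha2 ha3 h12 h13 h23 ha4 ha5 h45 hqt hb2 hb3 k12 k13 k23 hb4 hb5 k45
  exact ⟨g, mem_KP.mpr ⟨hgM, hgd, hgQ⟩, g1⟩

/-! ### Permutations of a three-element type -/

section perm3

theorem fin3_F1 : ∀ σ τ : Equiv.Perm (Fin 3), σ ^ 3 = 1 → τ ^ 3 = 1 → (σ * τ) ^ 3 = 1 := by
  decide +kernel
theorem fin3_F3 : ∀ σ : Equiv.Perm (Fin 3), σ ^ 3 = 1 → ∀ x, σ x = x → σ = 1 := by decide +kernel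
theorem fin3_F4 : ∀ σ τ : Equiv.Perm (Fin 3), σ ^ 3 = 1 → σ ≠ 1 → σ * τ = τ * σ → τ ^ 3 = 1 := by
  decide +kernel
theorem fin3_F7 : ∀ σ τ : Equiv.Perm (Fin 3), σ ^ 3 = 1 → τ ^ 3 = 1 → σ * τ = τ * σ := by
  decide +kernel
theorem fin3_F5 : Fintype.card {σ : Equiv.Perm (Fin 3) // σ ^ 3 = 1} = 3 := by decide +kernel

variable {α : Type*} [Fintype α]

theorem perm3_F1 (h : Fintype.card α = 3) (σ τ : Equiv.Perm α) (hσ : σ ^ 3 = 1) (hτ : τ ^ 3 = 1) :
    (σ * τ) ^ 3 = 1 := by
  let e := Fintype.equivFinOfCardEq h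
  let ψ := Equiv.permCongrHom e
  apply ψ.injective
  rw [map_pow, map_mul, map_one]
  exact fin3_F1 _ _ (by rw [← map_pow, hσ, map_one]) (by rw [← map_pow, hτ, map_one])

theorem perm3_F3 (h : Fintype.card α = 3) (σ : Equiv.Perm α) (hσ : σ ^ 3 = 1) (x : α)
    (hx : σ x = x) : σ = 1 := by
  let e := Fintype.equivFinOfCardEq h
  let ψ := Equiv.permCongrHom e
  apply ψ.injective
  rw [map_one]
  refine fin3_F3 _ (by rw [← map_pow, hσ, map_one]) (e x) ?_
  show e (σ (e.symm (e x))) = e x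
  rw [Equiv.symm_apply_apply, hx]

theorem perm3_F4 (h : Fintype.card α = 3) (σ τ : Equiv.Perm α) (hσ : σ ^ 3 = 1) (h1 : σ ≠ 1)
    (hc : σ * τ = τ * σ) : τ ^ 3 = 1 := by
  let e := Fintype.equivFinOfCardEq h
  let ψ := Equiv.permCongrHom e
  apply ψ.injective
  rw [map_pow, map_one]
  refine fin3_F4 (ψ σ) _ (by rw [← map_pow, hσ, map_one]) ?_ (by rw [← map_mul, hc, map_mul])
  intro h'
  exact h1 (ψ.injective (by rw [h', map_one]))

theorem perm3_F7 (h : Fintype.card α = 3) (σ τ : Equiv.Perm α) (hσ : σ ^ 3 = 1) (hτ : τ ^ 3 = 1) :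
    σ * τ = τ * σ := by
  let e := Fintype.equivFinOfCardEq h
  let ψ := Equiv.permCongrHom e
  apply ψ.injective
  rw [map_mul, map_mul]
  exact fin3_F7 _ _ (by rw [← map_pow, hσ, map_one]) (by rw [← map_pow, hτ, map_one])

theorem perm3_F5 (h : Fintype.card α = 3) : Nat.card {σ : Equiv.Perm α // σ ^ 3 = 1} = 3 := by
  let e := Fintype.equivFinOfCardEq h
  let ψ := Equiv.permCongrHom e
  have : {σ : Equiv.Perm α // σ ^ 3 = 1} ≃ {σ : Equiv.Perm (Fin 3) // σ ^ 3 = 1} :=
    ψ.toEquiv.subtypeEquiv (fun σ => by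
      show σ ^ 3 = 1 ↔ ψ σ ^ 3 = 1
      rw [← map_pow]
      constructor
      · intro h'; rw [h', map_one]
      · intro h'; exact ψ.injective (by rw [h', map_one]))
  rw [Nat.card_congr this, Nat.card_eq_fintype_card, fin3_F5]

end perm3

theorem fin3_F8 : ∀ σ τ : Equiv.Perm (Fin 3), ∀ x y : Fin 3, x ≠ y → σ x = τ x → σ y = τ y →
    σ = τ := by
  decide +kernel

theorem perm3_F8 {α : Type*} [Fintype α] (h : Fintype.card α = 3) (σ τ : Equiv.Perm α) (x y : α)
    (hxy : x ≠ y) (hx : σ x = τ x) (hy : σ y = τ y) : σ = τ := by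
  let e := Fintype.equivFinOfCardEq h
  let ψ := Equiv.permCongrHom e
  apply ψ.injective
  refine fin3_F8 _ _ (e x) (e y) (fun h' => hxy (e.injective h')) ?_ ?_
  · show e (σ (e.symm (e x))) = e (τ (e.symm (e x)))
    rw [Equiv.symm_apply_apply, hx]
  · show e (σ (e.symm (e y))) = e (τ (e.symm (e y)))
    rw [Equiv.symm_apply_apply, hy]

/-! ### Restriction to a triple -/

theorem mem_iff_of_smul_eq {g : Equiv.Perm GolayPt} {t : Finset GolayPt} (h : g • t = t)
    (x : GolayPt) : g x ∈ t ↔ x ∈ t := by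
  conv_lhs => rw [← h]
  exact apply_mem_perm_smul_finset g t x

theorem smul_eq_of_maps {g : Equiv.Perm GolayPt} {t : Finset GolayPt} (h : ∀ x ∈ t, g x ∈ t) :
    g • t = t := by
  apply Finset.eq_of_subset_of_card_le
  · intro y hy
    obtain ⟨x, hx, rfl⟩ := Finset.mem_smul_finset.mp hy
    exact h x hx
  · rw [card_perm_smul_finset]

/-- The restriction of a permutation to an invariant finset. -/
def rho (g : Equiv.Perm GolayPt) (t : Finset GolayPt) (h : g • t = t) : Equiv.Perm ↥t :=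
  g.subtypePerm (mem_iff_of_smul_eq h)

theorem rho_apply (g : Equiv.Perm GolayPt) (t : Finset GolayPt) (h : g • t = t) (x : ↥t) :
    ((rho g t h x : ↥t) : GolayPt) = g x := rfl

theorem rho_mul (g g' : Equiv.Perm GolayPt) (t : Finset GolayPt) (h : g • t = t)
    (h' : g' • t = t) (h'' : (g * g') • t = t) : rho (g * g') t h'' = rho g t h * rho g' t h' := by
  ext x
  rfl

theorem smul_pow_eq {g : Equiv.Perm GolayPt} {t : Finset GolayPt} (h : g • t = t) (n : ℕ) :
    (g ^ n) • t = t := by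
  induction n with
  | zero => simp
  | succ n ih => rw [pow_succ, mul_smul, h, ih]

theorem rho_pow_apply (g : Equiv.Perm GolayPt) (t : Finset GolayPt) (h : g • t = t) (n : ℕ)
    (x : ↥t) : (((rho g t h ^ n) x : ↥t) : GolayPt) = (g ^ n) x := by
  induction n generalizing x with
  | zero => simp
  | succ n ih =>
    rw [pow_succ, pow_succ, Equiv.Perm.mul_apply, Equiv.Perm.mul_apply, ih, rho_apply]

theorem rho_pow_eq_one {g : Equiv.Perm GolayPt} {t : Finset GolayPt} (h : g • t = t) {n : ℕ}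
    (hn : g ^ n = 1) : rho g t h ^ n = 1 := by
  ext x
  rw [rho_pow_apply, hn]
  rfl

theorem card_coe_triple {t : Finset GolayPt} (ht : t.card = 3) : Fintype.card ↥t = 3 := by
  rw [Fintype.card_coe, ht]

/-! ### The subgroups `K0` and `N0` -/

/-- Elements of the quartet stabiliser fixing every triple of the quartet. -/
def K0 (d : Finset GolayPt) (Q : Finset (Finset GolayPt)) : Subgroup (Equiv.Perm GolayPt) where
  carrier := {g | g ∈ KP d Q ∧ ∀ t ∈ Q, g • t = t}
  mul_mem' := by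
    rintro a b ⟨ha, ha'⟩ ⟨hb, hb'⟩
    exact ⟨(KP d Q).mul_mem ha hb, fun t ht => by rw [mul_smul, hb' t ht, ha' t ht]⟩
  one_mem' := ⟨(KP d Q).one_mem, fun t _ => one_smul _ t⟩
  inv_mem' := by
    rintro a ⟨ha, ha'⟩
    exact ⟨(KP d Q).inv_mem ha, fun t ht => by rw [inv_smul_eq_iff, ha' t ht]⟩

theorem mem_K0 {d : Finset GolayPt} {Q : Finset (Finset GolayPt)} {g : Equiv.Perm GolayPt} :
    g ∈ K0 d Q ↔ g ∈ KP d Q ∧ ∀ t ∈ Q, g • t = t := Iff.rfl

theorem KP_le_stabM24 (d : Finset GolayPt) (Q : Finset (Finset GolayPt)) : KP d Q ≤ stabM24 d :=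
  inf_le_left

/-- An element of the dodecad stabiliser fixing every point of the dodecad is trivial. -/
theorem eq_one_of_fix_d {d : Finset GolayPt} (hd : d ∈ dodecads) {g : Equiv.Perm GolayPt}
    (hg : g ∈ stabM24 d) (h : ∀ p ∈ d, g p = p) : g = 1 :=
  eq_one_of_fixes hd hg (le_refl d) (by rw [hd.2]; norm_num) h

/-- Elements of `K0` of order dividing three. -/
def N0 {d : Finset GolayPt} (hd : d ∈ dodecads) {Q : Finset (Finset GolayPt)}
    (hQ : Q ∈ quartets d) : Subgroup (Equiv.Perm GolayPt) where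
  carrier := {g | g ∈ K0 d Q ∧ g ^ 3 = 1}
  mul_mem' := by
    rintro a b ⟨ha, ha3⟩ ⟨hb, hb3⟩
    refine ⟨(K0 d Q).mul_mem ha hb, ?_⟩
    have hab : a * b ∈ K0 d Q := (K0 d Q).mul_mem ha hb
    apply eq_one_of_fix_d hd ((stabM24 d).pow_mem (KP_le_stabM24 d Q hab.1) 3)
    intro p hp
    obtain ⟨t, ht, hpt⟩ := quartet_cover hd hQ hp
    have h3 := card_coe_triple (quartet_card hQ ht)
    have key := perm3_F1 h3 (rho a t (ha.2 t ht)) (rho b t (hb.2 t ht))
      (rho_pow_eq_one _ ha3) (rho_pow_eq_one _ hb3)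
    rw [← rho_mul a b t (ha.2 t ht) (hb.2 t ht) (hab.2 t ht)] at key
    have := rho_pow_apply (a * b) t (hab.2 t ht) 3 ⟨p, hpt⟩
    rw [key] at this
    exact this.symm
  one_mem' := ⟨(K0 d Q).one_mem, one_pow 3⟩
  inv_mem' := by
    rintro a ⟨ha, ha3⟩
    exact ⟨(K0 d Q).inv_mem ha, by rw [inv_pow, ha3, inv_one]⟩

theorem mem_N0 {d : Finset GolayPt} (hd : d ∈ dodecads) {Q : Finset (Finset GolayPt)}
    (hQ : Q ∈ quartets d) {g : Equiv.Perm GolayPt} : g ∈ N0 hd hQ ↔ g ∈ K0 d Q ∧ g ^ 3 = 1 :=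
  Iff.rfl

end Cfsg.Agent.Lib.Helper45.QuartetStab
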