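import Cfsg.Agent.Lib.Helper45.QuartetStab

/-!
# The quartet stabiliser: the normal subgroup of order nine
-/

set_option autoImplicit false

namespace Cfsg.Agent.Lib.Helper45.QuartetStab
open Cfsg Cfsg.Agent.Lib.Helper7 Cfsg.Agent.Lib.Helper45.Quartets
open scoped Pointwise

variable {d : Finset GolayPt} {Q : Finset (Finset GolayPt)}

theorem eq_of_eqOn_d (hd : d ∈ dodecads) {g h : Equiv.Perm GolayPt} (hg : g ∈ stabM24 d)
    (hh : h ∈ stabM24 d) (heq : ∀ p ∈ d, g p = h p) : g = h := by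
  have h1 : h⁻¹ * g = 1 := by
    apply eq_one_of_fix_d hd ((stabM24 d).mul_mem ((stabM24 d).inv_mem hh) hg)
    intro p hp
    rw [Equiv.Perm.mul_apply, heq p hp]
    simp
  calc g = h * (h⁻¹ * g) := by group
    _ = h := by rw [h1, mul_one]

theorem smul_mem_of_mem_KP {k : Equiv.Perm GolayPt} (hk : k ∈ KP d Q) {t : Finset GolayPt}
    (ht : t ∈ Q) : k • t ∈ Q := by
  have := Finset.smul_mem_smul_finset (a := k) ht
  rwa [(mem_KP.mp hk).2.2] at this

/-- `K0` is normalised by the quartet stabiliser. -/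
theorem conj_mem_K0 {k n : Equiv.Perm GolayPt} (hk : k ∈ KP d Q) (hn : n ∈ K0 d Q) :
    k * n * k⁻¹ ∈ K0 d Q := by
  refine ⟨(KP d Q).mul_mem ((KP d Q).mul_mem hk hn.1) ((KP d Q).inv_mem hk), ?_⟩
  intro t ht
  have h1 : k⁻¹ • t ∈ Q := smul_mem_of_mem_KP ((KP d Q).inv_mem hk) ht
  rw [mul_smul, mul_smul, hn.2 _ h1, smul_inv_smul]

theorem conj_mem_N0 (hd : d ∈ dodecads) (hQ : Q ∈ quartets d) {k n : Equiv.Perm GolayPt}
    (hk : k ∈ KP d Q) (hn : n ∈ N0 hd hQ) : k * n * k⁻¹ ∈ N0 hd hQ := by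
  refine ⟨conj_mem_K0 hk hn.1, ?_⟩
  rw [conj_pow, hn.2]
  group

theorem N0_le_KP (hd : d ∈ dodecads) (hQ : Q ∈ quartets d) : N0 hd hQ ≤ KP d Q :=
  fun _ hn => hn.1.1

/-- Existence of elements of `N0` with prescribed action on two triples. -/
theorem exists_N0 (hd : d ∈ dodecads) (hQ : Q ∈ quartets d) {t u : Finset GolayPt} (ht : t ∈ Q)
    (hu : u ∈ Q) (htu : t ≠ u) (σ₁ : Equiv.Perm ↥t) (σ₂ : Equiv.Perm ↥u) (h₁ : σ₁ ^ 3 = 1)
    (h₂ : σ₂ ^ 3 = 1) :
    ∃ n, ∃ hn : n ∈ N0 hd hQ, rho n t (hn.1.2 t ht) = σ₁ ∧ rho n u (hn.1.2 u hu) = σ₂ := by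
  have ht3 := quartet_card hQ ht
  have hu3 := quartet_card hQ hu
  obtain ⟨a1, a2, a3, h12, h13, h23, hteq⟩ := Finset.card_eq_three.mp ht3
  have ha1 : a1 ∈ t := by rw [hteq]; simp
  have ha2 : a2 ∈ t := by rw [hteq]; simp
  have ha3 : a3 ∈ t := by rw [hteq]; simp
  obtain ⟨a4, a5, ha4, ha5, h45⟩ := exists_pair_of_card hu3
  have inj1 : ∀ {p q : GolayPt} (hp : p ∈ t) (hq : q ∈ t), p ≠ q →
      ((σ₁ ⟨p, hp⟩ : ↥t) : GolayPt) ≠ ((σ₁ ⟨q, hq⟩ : ↥t) : GolayPt) := by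
    intro p q hp hq hpq h
    apply hpq
    have := σ₁.injective (Subtype.ext h)
    exact congrArg Subtype.val this
  have inj2 : ∀ {p q : GolayPt} (hp : p ∈ u) (hq : q ∈ u), p ≠ q →
      ((σ₂ ⟨p, hp⟩ : ↥u) : GolayPt) ≠ ((σ₂ ⟨q, hq⟩ : ↥u) : GolayPt) := by
    intro p q hp hq hpq h
    apply hpq
    have := σ₂.injective (Subtype.ext h)
    exact congrArg Subtype.val this
  obtain ⟨g, hgM, hgd, hgQ, hgt, hgu, g1, g2, g3, g4, g5⟩ := exists_map_flag hd hQ ht hu htu ht hu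
    htu ha1 ha2 ha3 h12 h13 h23 ha4 ha5 h45 (σ₁ ⟨a1, ha1⟩).2 (σ₁ ⟨a2, ha2⟩).2 (σ₁ ⟨a3, ha3⟩).2
    (inj1 ha1 ha2 h12) (inj1 ha1 ha3 h13) (inj1 ha2 ha3 h23) (σ₂ ⟨a4, ha4⟩).2 (σ₂ ⟨a5, ha5⟩).2
    (inj2 ha4 ha5 h45)
  have hgK : g ∈ KP d Q := mem_KP.mpr ⟨hgM, hgd, hgQ⟩
  have hgS : g ∈ stabM24 d := KP_le_stabM24 d Q hgK
  have r1 : rho g t hgt = σ₁ := by
    apply perm3_F8 (card_coe_triple ht3) _ _ ⟨a1, ha1⟩ ⟨a2, ha2⟩
      (fun h => h12 (congrArg Subtype.val h))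
    · exact Subtype.ext g1
    · exact Subtype.ext g2
  have r2 : rho g u hgu = σ₂ := by
    apply perm3_F8 (card_coe_triple hu3) _ _ ⟨a4, ha4⟩ ⟨a5, ha5⟩
      (fun h => h45 (congrArg Subtype.val h))
    · exact Subtype.ext g4
    · exact Subtype.ext g5
  have hg3 : g ^ 3 = 1 := by
    apply eq_one_of_fixes hd ((stabM24 d).pow_mem hgS 3) (s := t ∪ u)
      (Finset.union_subset (quartet_subset hQ ht) (quartet_subset hQ hu))
    · rw [Finset.card_union_of_disjoint (quartet_disjoint hQ ht hu htu), ht3, hu3]; norm_num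
    · intro p hp
      rcases Finset.mem_union.mp hp with hp | hp
      · have := rho_pow_apply g t hgt 3 ⟨p, hp⟩
        rw [r1, h₁] at this
        exact this.symm
      · have := rho_pow_apply g u hgu 3 ⟨p, hp⟩
        rw [r2, h₂] at this
        exact this.symm
  have hgK0 : g ∈ K0 d Q := by
    refine ⟨hgK, ?_⟩
    intro t' ht'
    by_cases e1 : t' = t
    · rw [e1]; exact hgt
    by_cases e2 : t' = u
    · rw [e2]; exact hgu
    by_contra hne
    -- the three triples t', g t', g² t' are distinct members of Q ∖ {t, u}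
    have m1 : g • t' ∈ Q := smul_mem_of_mem_KP hgK ht'
    have m2 : g • g • t' ∈ Q := smul_mem_of_mem_KP hgK m1
    have n1 : g • t' ≠ t := fun h => e1 (smul_left_cancel g (h.trans hgt.symm))
    have n2 : g • t' ≠ u := fun h => e2 (smul_left_cancel g (h.trans hgu.symm))
    have n3 : g • g • t' ≠ t := fun h => n1 (smul_left_cancel g (h.trans hgt.symm))
    have n4 : g • g • t' ≠ u := fun h => n2 (smul_left_cancel g (h.trans hgu.symm))
    have d1 : g • g • t' ≠ g • t' := fun h => hne (smul_left_cancel g h)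
    have d2 : g • g • t' ≠ t' := by
      intro h
      apply hne
      have h3 : g • g • g • t' = t' := by
        rw [← mul_smul, ← mul_smul, ← pow_three', hg3, one_smul]
      rw [h] at h3
      exact h3
    have hsub : ({t', g • t', g • g • t'} : Finset (Finset GolayPt)) ⊆ (Q.erase t).erase u := by
      intro z hz
      simp only [Finset.mem_insert, Finset.mem_singleton] at hz
      rw [Finset.mem_erase, Finset.mem_erase]
      rcases hz with rfl | rfl | rfl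
      · exact ⟨e2, e1, ht'⟩
      · exact ⟨n2, n1, m1⟩
      · exact ⟨n4, n3, m2⟩
    have hc3 : ({t', g • t', g • g • t'} : Finset (Finset GolayPt)).card = 3 := by
      rw [Finset.card_insert_of_notMem (by simp [Ne.symm hne, Ne.symm d2]),
        Finset.card_insert_of_notMem (by simp [Ne.symm d1]), Finset.card_singleton]
    have hc2 : ((Q.erase t).erase u).card = 2 := by
      rw [Finset.card_erase_of_mem (Finset.mem_erase.mpr ⟨Ne.symm htu, hu⟩),
        Finset.card_erase_of_mem ht, hQ.1]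
    have := Finset.card_le_card hsub
    omega
  exact ⟨g, ⟨hgK0, hg3⟩, r1, r2⟩

/-- Two elements of `KP` agreeing on two triples are equal. -/
theorem eq_of_eqOn_two (hd : d ∈ dodecads) (hQ : Q ∈ quartets d) {t u : Finset GolayPt}
    (ht : t ∈ Q) (hu : u ∈ Q) (htu : t ≠ u) {g h : Equiv.Perm GolayPt} (hg : g ∈ stabM24 d)
    (hh : h ∈ stabM24 d) (heq : ∀ p ∈ t ∪ u, g p = h p) : g = h := by
  have h1 : h⁻¹ * g = 1 := by
    apply eq_one_of_fixes hd ((stabM24 d).mul_mem ((stabM24 d).inv_mem hh) hg) (s := t ∪ u)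
      (Finset.union_subset (quartet_subset hQ ht) (quartet_subset hQ hu))
    · rw [Finset.card_union_of_disjoint (quartet_disjoint hQ ht hu htu), quartet_card hQ ht,
        quartet_card hQ hu]; norm_num
    · intro p hp
      rw [Equiv.Perm.mul_apply, heq p hp]
      simp
  calc g = h * (h⁻¹ * g) := by group
    _ = h := by rw [h1, mul_one]

theorem N0_le_stabM24 (hd : d ∈ dodecads) (hQ : Q ∈ quartets d) : N0 hd hQ ≤ stabM24 d :=
  fun _ hn => KP_le_stabM24 d Q hn.1.1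

/-- `N0` has order nine. -/
theorem card_N0 (hd : d ∈ dodecads) (hQ : Q ∈ quartets d) : Nat.card (N0 hd hQ) = 9 := by
  obtain ⟨t, ht, u, hu, htu⟩ := Finset.one_lt_card.mp (by rw [hQ.1]; norm_num : 1 < Q.card)
  have ht3 := card_coe_triple (quartet_card hQ ht)
  have hu3 := card_coe_triple (quartet_card hQ hu)
  let F : N0 hd hQ → {σ : Equiv.Perm ↥t // σ ^ 3 = 1} × {σ : Equiv.Perm ↥u // σ ^ 3 = 1} :=
    fun n => (⟨rho n.1 t (n.2.1.2 t ht), rho_pow_eq_one _ n.2.2⟩,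
      ⟨rho n.1 u (n.2.1.2 u hu), rho_pow_eq_one _ n.2.2⟩)
  have hF : Function.Bijective F := by
    constructor
    · intro n n' h
      have h1 : rho n.1 t (n.2.1.2 t ht) = rho n'.1 t (n'.2.1.2 t ht) :=
        congrArg (fun z => z.1.1) h
      have h2 : rho n.1 u (n.2.1.2 u hu) = rho n'.1 u (n'.2.1.2 u hu) :=
        congrArg (fun z => z.2.1) h
      apply Subtype.ext
      apply eq_of_eqOn_two hd hQ ht hu htu (N0_le_stabM24 hd hQ n.2) (N0_le_stabM24 hd hQ n'.2)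
      intro p hp
      rcases Finset.mem_union.mp hp with hp | hp
      · have := congrArg (fun σ : Equiv.Perm ↥t => ((σ ⟨p, hp⟩ : ↥t) : GolayPt)) h1
        exact this
      · have := congrArg (fun σ : Equiv.Perm ↥u => ((σ ⟨p, hp⟩ : ↥u) : GolayPt)) h2
        exact this
    · rintro ⟨⟨σ₁, h₁⟩, ⟨σ₂, h₂⟩⟩
      obtain ⟨n, hn, r1, r2⟩ := exists_N0 hd hQ ht hu htu σ₁ σ₂ h₁ h₂
      refine ⟨⟨n, hn⟩, ?_⟩
      apply Prod.ext
      · exact Subtype.ext r1
      · exact Subtype.ext r2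
  rw [Nat.card_eq_of_bijective F hF, Nat.card_prod, perm3_F5 ht3, perm3_F5 hu3]

/-- `N0` is abelian. -/
theorem N0_comm (hd : d ∈ dodecads) (hQ : Q ∈ quartets d) {a b : Equiv.Perm GolayPt}
    (ha : a ∈ N0 hd hQ) (hb : b ∈ N0 hd hQ) : a * b = b * a := by
  have hab := (N0 hd hQ).mul_mem ha hb
  have hba := (N0 hd hQ).mul_mem hb ha
  apply eq_of_eqOn_d hd (N0_le_stabM24 hd hQ hab) (N0_le_stabM24 hd hQ hba)
  intro p hp
  obtain ⟨t, ht, hpt⟩ := quartet_cover hd hQ hp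
  have key := perm3_F7 (card_coe_triple (quartet_card hQ ht)) (rho a t (ha.1.2 t ht))
    (rho b t (hb.1.2 t ht)) (rho_pow_eq_one _ ha.2) (rho_pow_eq_one _ hb.2)
  rw [← rho_mul a b t _ _ (hab.1.2 t ht), ← rho_mul b a t _ _ (hba.1.2 t ht)] at key
  exact congrArg (fun σ : Equiv.Perm ↥t => ((σ ⟨p, hpt⟩ : ↥t) : GolayPt)) key

/-- For every triple there is a nontrivial element of `N0` fixing it pointwise. -/
theorem exists_N0_fixing (hd : d ∈ dodecads) (hQ : Q ∈ quartets d) {t : Finset GolayPt}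
    (ht : t ∈ Q) : ∃ n ∈ N0 hd hQ, n ≠ 1 ∧ ∀ p ∈ t, n p = p := by
  obtain ⟨u, hu, hut⟩ := exists_other hQ t
  have hu3 := card_coe_triple (quartet_card hQ hu)
  -- a nontrivial element of order three on `u`
  obtain ⟨σ₂, h₂, hne⟩ : ∃ σ₂ : Equiv.Perm ↥u, σ₂ ^ 3 = 1 ∧ σ₂ ≠ 1 := by
    by_contra hcon
    push Not at hcon
    have : Nat.card {σ : Equiv.Perm ↥u // σ ^ 3 = 1} ≤ 1 := by
      rw [Nat.card_eq_fintype_card]
      apply Fintype.card_le_one_iff.mpr
      rintro ⟨a, ha⟩ ⟨b, hb⟩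
      apply Subtype.ext
      exact (hcon a ha).trans (hcon b hb).symm
    rw [perm3_F5 hu3] at this
    omega
  obtain ⟨n, hn, r1, r2⟩ := exists_N0 hd hQ ht hu (Ne.symm hut) 1 σ₂ (one_pow 3) h₂
  refine ⟨n, hn, ?_, ?_⟩
  · rintro rfl
    apply hne
    rw [← r2]
    ext x
    rfl
  · intro p hp
    have := congrArg (fun σ : Equiv.Perm ↥t => ((σ ⟨p, hp⟩ : ↥t) : GolayPt)) r1
    exact this

/-- A nontrivial element of `N0` fixing a point of a triple fixes no point of the other triples. -/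
theorem N0_fix_unique (hd : d ∈ dodecads) (hQ : Q ∈ quartets d) {n : Equiv.Perm GolayPt}
    (hn : n ∈ N0 hd hQ) (hn1 : n ≠ 1) {t t' : Finset GolayPt} (ht : t ∈ Q) (ht' : t' ∈ Q)
    {p q : GolayPt} (hp : p ∈ t) (hq : q ∈ t') (hnp : n p = p) (hnq : n q = q) : t = t' := by
  by_contra hne
  apply hn1
  have e1 := perm3_F3 (card_coe_triple (quartet_card hQ ht)) (rho n t (hn.1.2 t ht))
    (rho_pow_eq_one _ hn.2) ⟨p, hp⟩ (Subtype.ext hnp)
  have e2 := perm3_F3 (card_coe_triple (quartet_card hQ ht')) (rho n t' (hn.1.2 t' ht'))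
    (rho_pow_eq_one _ hn.2) ⟨q, hq⟩ (Subtype.ext hnq)
  apply eq_of_eqOn_two hd hQ ht ht' hne (N0_le_stabM24 hd hQ hn) (stabM24 d).one_mem
  intro x hx
  rcases Finset.mem_union.mp hx with hx | hx
  · exact congrArg (fun σ : Equiv.Perm ↥t => ((σ ⟨x, hx⟩ : ↥t) : GolayPt)) e1
  · exact congrArg (fun σ : Equiv.Perm ↥t' => ((σ ⟨x, hx⟩ : ↥t') : GolayPt)) e2

/-- `N0` is self-centralising in the quartet stabiliser. -/
theorem mem_N0_of_commute (hd : d ∈ dodecads) (hQ : Q ∈ quartets d) {k : Equiv.Perm GolayPt}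
    (hk : k ∈ KP d Q) (hc : ∀ n ∈ N0 hd hQ, k * n = n * k) : k ∈ N0 hd hQ := by
  have hkS := KP_le_stabM24 d Q hk
  -- `k` fixes every triple
  have hk0 : ∀ t ∈ Q, k • t = t := by
    intro t ht
    obtain ⟨n, hn, hn1, hfix⟩ := exists_N0_fixing hd hQ ht
    apply smul_eq_of_maps
    intro x hx
    have hkx : k x ∈ d := by
      rw [← (mem_KP.mp hk).2.1, apply_mem_perm_smul_finset]
      exact quartet_subset hQ ht hx
    obtain ⟨t', ht', hxt'⟩ := quartet_cover hd hQ hkx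
    have hfix' : n (k x) = k x := by
      have := congrArg (fun σ : Equiv.Perm GolayPt => σ x) (hc n hn)
      simp only [Equiv.Perm.mul_apply] at this
      rw [← this, hfix x hx]
    rw [N0_fix_unique hd hQ hn hn1 ht ht' hx hxt' (hfix x hx) hfix']
    exact hxt'
  refine ⟨⟨hk, hk0⟩, ?_⟩
  -- `k ^ 3` fixes the dodecad pointwise
  apply eq_one_of_fix_d hd ((stabM24 d).pow_mem hkS 3)
  intro p hp
  obtain ⟨t, ht, hpt⟩ := quartet_cover hd hQ hp
  obtain ⟨u, hu, hut⟩ := exists_other hQ t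
  obtain ⟨n, hn, hn1, hfix⟩ := exists_N0_fixing hd hQ hu
  have h3 := card_coe_triple (quartet_card hQ ht)
  have hρ1 : rho n t (hn.1.2 t ht) ≠ 1 := by
    intro h1
    obtain ⟨q, hq⟩ : ∃ q, q ∈ u := by
      apply Finset.card_pos.mp
      rw [quartet_card hQ hu]; norm_num
    have hnp : n p = p := congrArg (fun σ : Equiv.Perm ↥t => ((σ ⟨p, hpt⟩ : ↥t) : GolayPt)) h1
    exact hut (N0_fix_unique hd hQ hn hn1 ht hu hpt hq hnp (hfix q hq)).symm
  have hcomm : rho n t (hn.1.2 t ht) * rho k t (hk0 t ht) =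
      rho k t (hk0 t ht) * rho n t (hn.1.2 t ht) := by
    have e1 : (n * k) • t = t := by rw [mul_smul, hk0 t ht, hn.1.2 t ht]
    have e2 : (k * n) • t = t := by rw [mul_smul, hn.1.2 t ht, hk0 t ht]
    rw [← rho_mul n k t _ _ e1, ← rho_mul k n t _ _ e2]
    apply Equiv.ext
    intro x
    apply Subtype.ext
    show (n * k) x = (k * n) x
    rw [hc n hn]
  have key := perm3_F4 h3 _ _ (rho_pow_eq_one (hn.1.2 t ht) hn.2) hρ1 hcomm
  have := rho_pow_apply k t (hk0 t ht) 3 ⟨p, hpt⟩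
  rw [key] at this
  exact this.symm

end Cfsg.Agent.Lib.Helper45.QuartetStab
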