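import Cfsg.Agent.Lib.Helper7.M12General
import Cfsg.Agent.Lib.Helper7.Hexads
import Cfsg.Prelude.Def_SporadicCombinatorics

/-!
# Hexads and quartets of a dodecad: transport along `M24`, standard position
-/

set_option autoImplicit false

namespace Cfsg.Agent.Lib.Helper45.Quartets
open Cfsg Cfsg.Agent.Lib.Helper7
open scoped Pointwise

/-! ### Transport along `M24` -/

theorem smul_mem_hexadsOn {g : Equiv.Perm GolayPt} (hg : g ∈ M24) {d h : Finset GolayPt}
    (hh : h ∈ hexadsOn d) : g • h ∈ hexadsOn (g • d) := by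
  obtain ⟨h6, o, ho, rfl⟩ := hh
  refine ⟨by rw [card_perm_smul_finset]; exact h6, g • o, smul_mem_octads hg ho, ?_⟩
  rw [Finset.smul_finset_inter]

theorem smul_mem_quartets {g : Equiv.Perm GolayPt} (hg : g ∈ M24) {d : Finset GolayPt}
    {Q : Finset (Finset GolayPt)} (hQ : Q ∈ quartets d) : g • Q ∈ quartets (g • d) := by
  obtain ⟨h4, h3, hp⟩ := hQ
  refine ⟨by rw [Finset.card_smul_finset]; exact h4, ?_, ?_⟩
  · intro t ht
    obtain ⟨t', ht', rfl⟩ := Finset.mem_smul_finset.mp ht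
    exact ⟨by rw [card_perm_smul_finset]; exact (h3 t' ht').1,
      Finset.smul_finset_subset_smul_finset (h3 t' ht').2⟩
  · intro t ht u hu hne
    obtain ⟨t', ht', rfl⟩ := Finset.mem_smul_finset.mp ht
    obtain ⟨u', hu', rfl⟩ := Finset.mem_smul_finset.mp hu
    have hne' : t' ≠ u' := fun h => hne (by rw [h])
    rw [← Finset.smul_finset_union]
    exact smul_mem_hexadsOn hg (hp t' ht' u' hu' hne')

theorem hexadsOn_subset {d h : Finset GolayPt} (hh : h ∈ hexadsOn d) : h ⊆ d := by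
  obtain ⟨_, o, _, rfl⟩ := hh
  exact Finset.inter_subset_right

/-- Two hexads on `d` sharing five points are equal. -/
theorem hexadsOn_eq_of_five {d h h' s : Finset GolayPt} (hh : h ∈ hexadsOn d)
    (hh' : h' ∈ hexadsOn d) (hs : 5 ≤ s.card) (hsh : s ⊆ h) (hsh' : s ⊆ h') : h = h' := by
  obtain ⟨_, o, ho, rfl⟩ := hh
  obtain ⟨_, o', ho', rfl⟩ := hh'
  have : o = o' := by
    apply octad_eq_of_five ho ho'
    refine le_trans hs (Finset.card_le_card ?_)
    intro x hx
    rw [Finset.mem_inter]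
    exact ⟨(Finset.mem_inter.mp (hsh hx)).1, (Finset.mem_inter.mp (hsh' hx)).1⟩
  rw [this]

/-! ### The standard position -/

/-- The standard triples on `d0` (masks): `a0 ∪ b0` is the hexad through the five base points,
and `{a0, b0, v0, w0}` is the quartet through `a0`, `b0`. -/
def a0 : ℕ := 0x800003
def b0 : ℕ := 0x400c
def v0 : ℕ := 0x1240
def w0 : ℕ := 0x8180

theorem setOf_a0 : setOf a0 = {bp 0, bp 1, bp 2} := by decide
theorem setOf_base5_eq : setOf 0x80000f = {bp 0, bp 1, bp 2, bp 3, bp 4} := by decide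
theorem setOf_m0_sdiff : setOf 0x80400f \ setOf a0 = setOf b0 := by decide

/-- `setOf m` is a hexad on `d0` as soon as `m = o &&& d0Mask` for an octad mask `o` and `m` has
six bits. -/
theorem setOf_mem_hexadsOn_d0 {m o : ℕ} (ho : isOctadMask o = true) (hm : o &&& d0Mask = m)
    (h6 : pc m = 6) : setOf m ∈ hexadsOn d0 := by
  refine ⟨by rw [card_setOf, h6], setOf o, setOf_mem_octads ho, ?_⟩
  rw [d0, ← setOf_and, hm]

theorem hex_m0 : setOf 0x80400f ∈ hexadsOn d0 :=
  setOf_mem_hexadsOn_d0 (o := 0x82402f) (by decide) (by decide) (by decide)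

theorem smul_disjoint {g : Equiv.Perm GolayPt} {s t : Finset GolayPt} (h : Disjoint s t) :
    Disjoint (g • s) (g • t) := by
  rw [Finset.disjoint_iff_inter_eq_empty, ← Finset.smul_finset_inter,
    Finset.disjoint_iff_inter_eq_empty.mp h, Finset.smul_finset_empty]

/-- Any dodecad with a hexad on it split into two triples can be moved to the standard position. -/
theorem exists_map_std {d t u : Finset GolayPt} (hd : d ∈ dodecads) (ht : t.card = 3)
    (hu : u.card = 3) (htu : Disjoint t u) (hh : t ∪ u ∈ hexadsOn d) :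
    ∃ g ∈ M24, g • d = d0 ∧ g • t = setOf a0 ∧ g • u = setOf b0 := by
  obtain ⟨ρ, hρ, hρd⟩ := exists_map_dodecad hd
  obtain ⟨x0, x1, x2, h01, h02, h12, rfl⟩ := Finset.card_eq_three.mp ht
  obtain ⟨x3, x4, x5, h34, h35, h45, rfl⟩ := Finset.card_eq_three.mp hu
  have hsub := hexadsOn_subset hh
  have hmem : ∀ y ∈ d, ρ y ∈ d0 := fun y hy => by
    rw [← hρd, apply_mem_perm_smul_finset]; exact hy
  have hd3 : ∀ y ∈ ({x0, x1, x2} : Finset GolayPt), y ≠ x3 ∧ y ≠ x4 := by
    intro y hy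
    have h3 : x3 ∈ ({x3, x4, x5} : Finset GolayPt) := by simp
    have h4 : x4 ∈ ({x3, x4, x5} : Finset GolayPt) := by simp
    exact ⟨fun h => Finset.disjoint_left.mp htu hy (h ▸ h3),
      fun h => Finset.disjoint_left.mp htu hy (h ▸ h4)⟩
  have e0 := hd3 x0 (by simp)
  have e1 := hd3 x1 (by simp)
  have e2 := hd3 x2 (by simp)
  let x : Fin 5 ↪ GolayPt := ⟨![ρ x0, ρ x1, ρ x2, ρ x3, ρ x4], by
    intro i j h
    fin_cases i <;> fin_cases j <;> simp at h <;> first | rfl | (exfalso; tauto)⟩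
  obtain ⟨a, ha, hax⟩ := exists_H12_map_emb_to_base (k := 5) (le_refl 5) x (by
    intro i
    fin_cases i
    · exact hmem x0 (hsub (by simp))
    · exact hmem x1 (hsub (by simp))
    · exact hmem x2 (hsub (by simp))
    · exact hmem x3 (hsub (by simp))
    · exact hmem x4 (hsub (by simp)))
  have haM : a ∈ M24 := (mem_stabM24.mp ha).1
  have had : a • d0 = d0 := (mem_stabM24.mp ha).2
  have hgM : a * ρ ∈ M24 := M24.mul_mem haM hρ
  have hgd : (a * ρ) • d = d0 := by rw [mul_smul, hρd, had]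
  have g0 : (a * ρ) x0 = bp 0 := hax 0
  have g1 : (a * ρ) x1 = bp 1 := hax 1
  have g2 : (a * ρ) x2 = bp 2 := hax 2
  have g3 : (a * ρ) x3 = bp 3 := hax 3
  have g4 : (a * ρ) x4 = bp 4 := hax 4
  have hgt : (a * ρ) • ({x0, x1, x2} : Finset GolayPt) = setOf a0 := by
    rw [setOf_a0, Finset.smul_finset_insert, Finset.smul_finset_insert,
      Finset.smul_finset_singleton, Equiv.Perm.smul_def, Equiv.Perm.smul_def,
      Equiv.Perm.smul_def, g0, g1, g2]
  refine ⟨a * ρ, hgM, hgd, hgt, ?_⟩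
  have hhex : (a * ρ) • (({x0, x1, x2} : Finset GolayPt) ∪ {x3, x4, x5}) ∈ hexadsOn d0 := by
    rw [← hgd]; exact smul_mem_hexadsOn hgM hh
  have h5 : setOf 0x80000f ⊆ (a * ρ) • (({x0, x1, x2} : Finset GolayPt) ∪ {x3, x4, x5}) := by
    rw [setOf_base5_eq]
    intro y hy
    simp only [Finset.mem_insert, Finset.mem_singleton] at hy
    rcases hy with rfl | rfl | rfl | rfl | rfl
    · rw [← g0, apply_mem_perm_smul_finset]; simp
    · rw [← g1, apply_mem_perm_smul_finset]; simp
    · rw [← g2, apply_mem_perm_smul_finset]; simp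
    · rw [← g3, apply_mem_perm_smul_finset]; simp
    · rw [← g4, apply_mem_perm_smul_finset]; simp
  have h5' : setOf 0x80000f ⊆ setOf 0x80400f := by decide
  have heq := hexadsOn_eq_of_five hhex hex_m0 (s := setOf 0x80000f) (by decide) h5 h5'
  rw [Finset.smul_finset_union, hgt] at heq
  have hdis : Disjoint (setOf a0) ((a * ρ) • ({x3, x4, x5} : Finset GolayPt)) := by
    rw [← hgt]; exact smul_disjoint htu
  rw [← setOf_m0_sdiff, ← heq, Finset.union_sdiff_cancel_left hdis]

/-! ### The unique quartet in standard position -/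

theorem setOf_two_pow {i : ℕ} (hi : i < 24) : setOf (2 ^ i) = {pt i} := by
  ext p
  rw [mem_setOf, Nat.testBit_two_pow, Finset.mem_singleton]
  constructor
  · intro h
    have : i = idx p := by simpa using h
    rw [this, pt_idx]
  · intro h
    rw [h, idx_pt hi]
    simp

/-- Mask of a triple of points. -/
def tri (i j k : ℕ) : ℕ := 2 ^ i ||| 2 ^ j ||| 2 ^ k

theorem setOf_tri (x y z : GolayPt) : setOf (tri (idx x) (idx y) (idx z)) = {x, y, z} := by
  unfold tri
  rw [setOf_or, setOf_or, setOf_two_pow (idx_lt x), setOf_two_pow (idx_lt y),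
    setOf_two_pow (idx_lt z), pt_idx, pt_idx, pt_idx]
  ext p
  simp only [Finset.mem_union, Finset.mem_singleton, Finset.mem_insert]
  tauto

theorem tri_lt {i j k : ℕ} (hi : i < 24) (hj : j < 24) (hk : k < 24) : tri i j k < 2 ^ 24 := by
  unfold tri
  exact Nat.or_lt_two_pow (Nat.or_lt_two_pow (Nat.pow_lt_pow_right (by norm_num) hi)
    (Nat.pow_lt_pow_right (by norm_num) hj)) (Nat.pow_lt_pow_right (by norm_num) hk)

/-- For the eighteen triples `c` in the complementary hexad other than `v0`, `w0`: an octad whose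
hexad shares exactly five points with `a0 ∪ c`. -/
def witL : List (ℕ × ℕ) :=
  [(0x1c0, 0x4111c3), (0x2c0, 0x46e3), (0x10c0, 0x4111c3), (0x80c0, 0x1280cb), (0x340, 0x248343),
   (0x1140, 0x4111c3), (0x8140, 0x248343), (0x8240, 0x248343), (0x9040, 0xb067), (0x380, 0x22387),
   (0x1180, 0x4111c3), (0x1280, 0x89a83), (0x8280, 0x89a83), (0x9080, 0x89a83), (0x1300, 0x10132b),
   (0x8300, 0x248343), (0x9100, 0x2d503), (0x9200, 0x89a83)]

/-- `c` is `v0`, `w0`, or `a0 ∪ c` is certified not to be a hexad. -/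
def good (c : ℕ) : Bool :=
  c == v0 || c == w0 || witL.any (fun p => p.1 == c && isOctadMask p.2 &&
    (pc (p.2 &&& d0Mask) == 6) && (pc ((p.2 &&& d0Mask) &&& (a0 ||| c)) == 5) &&
    ((p.2 &&& d0Mask) != (a0 ||| c)))

def L6 : List ℕ := [6, 7, 8, 9, 12, 15]

theorem mem_L6 : ∀ q < 24, (0x93c0 : ℕ).testBit q = true → q ∈ L6 := by decide

theorem good_all : ∀ i ∈ L6, ∀ j ∈ L6, ∀ k ∈ L6, i ≠ j → i ≠ k → j ≠ k →
    good (tri i j k) = true := by
  decide +kernel

theorem eq_of_good {c : ℕ} (hc : c < 2 ^ 24) (hg : good c = true)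
    (hh : setOf a0 ∪ setOf c ∈ hexadsOn d0) : c = v0 ∨ c = w0 := by
  unfold good at hg
  simp only [Bool.or_eq_true, beq_iff_eq, List.any_eq_true, Bool.and_eq_true, bne_iff_ne] at hg
  rcases hg with (h | h) | ⟨p, _, ⟨⟨⟨⟨rfl, ho⟩, h6⟩, h5⟩, hne⟩⟩
  · exact Or.inl h
  · exact Or.inr h
  · exfalso
    have hhex := setOf_mem_hexadsOn_d0 ho rfl h6
    rw [← setOf_or] at hh
    have heq := hexadsOn_eq_of_five hhex hh (s := setOf ((p.2 &&& d0Mask) &&& (a0 ||| p.1)))
      (by rw [card_setOf, h5]) (by rw [setOf_and]; exact Finset.inter_subset_left)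
      (by rw [setOf_and]; exact Finset.inter_subset_right)
    have ha0 : a0 < 2 ^ 24 := by decide
    have hd0 : d0Mask < 2 ^ 24 := by decide
    exact hne (setOf_injOn (lt_of_le_of_lt Nat.and_le_right hd0) (Nat.or_lt_two_pow ha0 hc) heq)

theorem hex_ab : setOf a0 ∪ setOf b0 ∈ hexadsOn d0 := by
  rw [← setOf_or]
  exact setOf_mem_hexadsOn_d0 (o := 0x82402f) (by decide) (by decide) (by decide)
theorem hex_av : setOf a0 ∪ setOf v0 ∈ hexadsOn d0 := by
  rw [← setOf_or]
  exact setOf_mem_hexadsOn_d0 (o := 0x821253) (by decide) (by decide) (by decide)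
theorem hex_aw : setOf a0 ∪ setOf w0 ∈ hexadsOn d0 := by
  rw [← setOf_or]
  exact setOf_mem_hexadsOn_d0 (o := 0x8081b3) (by decide) (by decide) (by decide)
theorem hex_bv : setOf b0 ∪ setOf v0 ∈ hexadsOn d0 := by
  rw [← setOf_or]
  exact setOf_mem_hexadsOn_d0 (o := 0x527c) (by decide) (by decide) (by decide)
theorem hex_bw : setOf b0 ∪ setOf w0 ∈ hexadsOn d0 := by
  rw [← setOf_or]
  exact setOf_mem_hexadsOn_d0 (o := 0x2c19c) (by decide) (by decide) (by decide)
theorem hex_vw : setOf v0 ∪ setOf w0 ∈ hexadsOn d0 := by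
  rw [← setOf_or]
  exact setOf_mem_hexadsOn_d0 (o := 0x293e0) (by decide) (by decide) (by decide)

/-- The standard quartet. -/
def Q0 : Finset (Finset GolayPt) := {setOf a0, setOf b0, setOf v0, setOf w0}

theorem Q0_card : Q0.card = 4 := by decide

theorem Q0_mem_quartets : Q0 ∈ quartets d0 := by
  refine ⟨Q0_card, ?_, ?_⟩
  · intro t ht
    simp only [Q0, Finset.mem_insert, Finset.mem_singleton] at ht
    rcases ht with rfl | rfl | rfl | rfl <;> decide
  · intro t ht u hu hne
    simp only [Q0, Finset.mem_insert, Finset.mem_singleton] at ht hu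
    rcases ht with rfl | rfl | rfl | rfl <;> rcases hu with rfl | rfl | rfl | rfl
    · exact absurd rfl hne
    · exact hex_ab
    · exact hex_av
    · exact hex_aw
    · rw [Finset.union_comm]; exact hex_ab
    · exact absurd rfl hne
    · exact hex_bv
    · exact hex_bw
    · rw [Finset.union_comm]; exact hex_av
    · rw [Finset.union_comm]; exact hex_bv
    · exact absurd rfl hne
    · exact hex_vw
    · rw [Finset.union_comm]; exact hex_aw
    · rw [Finset.union_comm]; exact hex_bw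
    · rw [Finset.union_comm]; exact hex_vw
    · exact absurd rfl hne

theorem compl_std : d0 \ (setOf a0 ∪ setOf b0) = setOf 0x93c0 := by decide

/-- Any triple of a quartet through `a0`, `b0` other than these is `v0` or `w0`. -/
theorem mem_quartet_std {Q : Finset (Finset GolayPt)} (hQ : Q ∈ quartets d0)
    (ha : setOf a0 ∈ Q) (hb : setOf b0 ∈ Q) {x : Finset GolayPt} (hx : x ∈ Q)
    (hxa : x ≠ setOf a0) (hxb : x ≠ setOf b0) : x = setOf v0 ∨ x = setOf w0 := by
  obtain ⟨_, h3, hp⟩ := hQ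
  obtain ⟨hx3, hxd⟩ := h3 x hx
  have hax := hp _ ha x hx (Ne.symm hxa)
  have hbx := hp _ hb x hx (Ne.symm hxb)
  have hda : Disjoint (setOf a0) x := by
    rw [← Finset.card_union_eq_card_add_card, hax.1, hx3, card_setOf]; decide
  have hdb : Disjoint (setOf b0) x := by
    rw [← Finset.card_union_eq_card_add_card, hbx.1, hx3, card_setOf]; decide
  have hsub : x ⊆ setOf 0x93c0 := by
    rw [← compl_std]
    intro y hy
    rw [Finset.mem_sdiff, Finset.mem_union]
    refine ⟨hxd hy, ?_⟩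
    rintro (h | h)
    · exact Finset.disjoint_left.mp hda h hy
    · exact Finset.disjoint_left.mp hdb h hy
  obtain ⟨y1, y2, y3, h12, h13, h23, rfl⟩ := Finset.card_eq_three.mp hx3
  have hm : ∀ y ∈ ({y1, y2, y3} : Finset GolayPt), idx y ∈ L6 := fun y hy =>
    mem_L6 (idx y) (idx_lt y) (mem_setOf.mp (hsub hy))
  have hg := good_all (idx y1) (hm y1 (by simp)) (idx y2) (hm y2 (by simp)) (idx y3)
    (hm y3 (by simp)) (fun h => h12 (idx_injective h)) (fun h => h13 (idx_injective h))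
    (fun h => h23 (idx_injective h))
  rw [← setOf_tri] at hax ⊢
  rcases eq_of_good (tri_lt (idx_lt y1) (idx_lt y2) (idx_lt y3)) hg hax with h | h
  · left; rw [h]
  · right; rw [h]

theorem existsUnique_std :
    ∃! Q : Finset (Finset GolayPt), Q ∈ quartets d0 ∧ setOf a0 ∈ Q ∧ setOf b0 ∈ Q := by
  refine ⟨Q0, ⟨Q0_mem_quartets, by simp [Q0], by simp [Q0]⟩, ?_⟩
  rintro Q ⟨hQ, ha, hb⟩
  apply Finset.eq_of_subset_of_card_le
  · intro x hx
    by_cases hxa : x = setOf a0
    · rw [hxa]; simp [Q0]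
    by_cases hxb : x = setOf b0
    · rw [hxb]; simp [Q0]
    rcases mem_quartet_std hQ ha hb hx hxa hxb with h | h <;> rw [h] <;> simp [Q0]
  · rw [Q0_card, hQ.1]

/-- A quartet of a dodecad is determined by any two of its triples (this is statement S1596). -/
theorem existsUnique_quartet {d t u : Finset GolayPt} (hd : d ∈ dodecads) (ht : t.card = 3)
    (hu : u.card = 3) (htu : Disjoint t u) (hh : t ∪ u ∈ hexadsOn d) :
    ∃! Q : Finset (Finset GolayPt), Q ∈ quartets d ∧ t ∈ Q ∧ u ∈ Q := by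
  obtain ⟨g, hg, hgd, hgt, hgu⟩ := exists_map_std hd ht hu htu hh
  obtain ⟨Q, ⟨hQ, ha, hb⟩, huniq⟩ := existsUnique_std
  have hginv : g⁻¹ ∈ M24 := M24.inv_mem hg
  have hd' : g⁻¹ • d0 = d := by rw [← hgd, inv_smul_smul]
  refine ⟨g⁻¹ • Q, ⟨?_, ?_, ?_⟩, ?_⟩
  · rw [← hd']; exact smul_mem_quartets hginv hQ
  · rw [Finset.mem_smul_finset]
    exact ⟨setOf a0, ha, by rw [← hgt, inv_smul_smul]⟩
  · rw [Finset.mem_smul_finset]
    exact ⟨setOf b0, hb, by rw [← hgu, inv_smul_smul]⟩
  · rintro Q' ⟨hQ', ht', hu'⟩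
    have h1 : g • Q' = Q := by
      apply huniq
      refine ⟨by rw [← hgd]; exact smul_mem_quartets hg hQ', ?_, ?_⟩
      · rw [← hgt]; exact Finset.smul_mem_smul_finset ht'
      · rw [← hgu]; exact Finset.smul_mem_smul_finset hu'
    rw [← h1, inv_smul_smul]

end Cfsg.Agent.Lib.Helper45.Quartets
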