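import Cfsg.Agent.Lib.Helper45.QuartetStab2
import Cfsg.Agent.S1597
import Cfsg.Agent.S5185

/-!
# The quartet stabiliser: order 432 and the quotient `GL(2, 3)`
-/

set_option autoImplicit false

namespace Cfsg.Agent.Lib.Helper45.QuartetStab
open Cfsg Cfsg.Agent.Lib.Helper7 Cfsg.Agent.Lib.Helper45.Quartets
open scoped Pointwise

variable {d : Finset GolayPt} {Q : Finset (Finset GolayPt)}

/-- The quartet stabiliser has order 432. -/
theorem card_KP (hd : d ∈ dodecads) (hQ : Q ∈ quartets d) : Nat.card (KP d Q) = 432 := by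
  have horb : MulAction.orbit ↥(stabM24 d) Q = quartets d := by
    ext Q'
    constructor
    · rintro ⟨g, rfl⟩
      have hg := mem_stabM24.mp g.2
      have := smul_mem_quartets hg.1 hQ
      rw [hg.2] at this
      exact this
    · intro hQ'
      obtain ⟨g, hgM, hgd, hgQ⟩ := (Cfsg.Agent.S1597.result d hd).2 Q hQ Q' hQ'
      exact ⟨⟨g, mem_stabM24.mpr ⟨hgM, hgd⟩⟩, hgQ⟩
  have hidx := MulAction.index_stabilizer ↥(stabM24 d) Q
  rw [horb, (Cfsg.Agent.S1597.result d hd).1] at hidx
  have hmul := (MulAction.stabilizer ↥(stabM24 d) Q).card_mul_index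
  rw [hidx, card_stabM24_dodecad hd] at hmul
  have hequiv : ↥(MulAction.stabilizer ↥(stabM24 d) Q) ≃ ↥(KP d Q) :=
    { toFun := fun x => ⟨x.1.1, ⟨x.1.2, x.2⟩⟩
      invFun := fun y => ⟨⟨y.1, y.2.1⟩, y.2.2⟩
      left_inv := fun x => rfl
      right_inv := fun y => rfl }
  rw [← Nat.card_congr hequiv]
  omega

theorem card_GL23 : Nat.card (GL (Fin 2) (ZMod 3)) = 48 := by
  rw [Matrix.card_GL_field (𝔽 := ZMod 3) 2, Fin.prod_univ_two, ZMod.card]
  norm_num

/-- The normal subgroup of order nine with quotient `GL(2, 3)`, at the level of permutations. -/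
theorem exists_normal_KP (hd : d ∈ dodecads) (hQ : Q ∈ quartets d) :
    ∃ (N : Subgroup ↥(KP d Q)) (_ : N.Normal), Nat.card N = 9 ∧
      Nonempty (↥(KP d Q) ⧸ N ≃* GL (Fin 2) (ZMod 3)) := by
  have : Finite ↥(KP d Q) := inferInstance
  set N : Subgroup ↥(KP d Q) := (N0 hd hQ).subgroupOf (KP d Q) with hN
  have memN : ∀ g : ↥(KP d Q), g ∈ N ↔ (g : Equiv.Perm GolayPt) ∈ N0 hd hQ := fun g =>
    Subgroup.mem_subgroupOf
  have hNn : N.Normal := by
    refine ⟨fun n hn g => ?_⟩
    rw [memN] at hn ⊢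
    exact conj_mem_N0 hd hQ g.2 hn
  have hNcard : Nat.card N = 9 := by
    rw [hN, Nat.card_congr (Subgroup.subgroupOfEquivOfLe (N0_le_KP hd hQ)).toEquiv, card_N0]
  have hcomm : ∀ a b : N, a * b = b * a := by
    intro a b
    apply Subtype.ext
    apply Subtype.ext
    exact N0_comm hd hQ ((memN a.1).mp a.2) ((memN b.1).mp b.2)
  have hexp : ∀ a : N, a ^ 3 = 1 := by
    intro a
    apply Subtype.ext
    apply Subtype.ext
    exact ((memN a.1).mp a.2).2
  have hp3 : Fact (Nat.Prime 3) := ⟨by norm_num⟩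
  obtain ⟨e⟩ := Cfsg.Agent.S5185.nonempty_mulEquiv_of_elementary (p := 3) hcomm hexp
    (by rw [hNcard]; norm_num)
  let φ0 : ↥(KP d Q) →* MulAut ↥N := MulAut.conjNormal
  let ψ : MulAut ↥N ≃* GL (Fin 2) (ZMod 3) :=
    (MulAut.congr e).trans (Cfsg.Agent.S5185.mulAutEquivGL 3)
  let φ : ↥(KP d Q) →* GL (Fin 2) (ZMod 3) := ψ.toMonoidHom.comp φ0
  have hker : φ.ker = N := by
    ext g
    rw [MonoidHom.mem_ker]
    constructor
    · intro hg
      have h0 : φ0 g = 1 := by
        apply ψ.injective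
        rw [map_one]
        exact hg
      rw [memN]
      apply mem_N0_of_commute hd hQ g.2
      intro n hn
      have h1 := congrArg (fun α : MulAut ↥N => ((α ⟨⟨n, N0_le_KP hd hQ hn⟩, (memN _).mpr hn⟩ : ↥N) :
        ↥(KP d Q))) h0
      simp only [φ0, MulAut.conjNormal_apply, MulAut.one_apply] at h1
      have h2 := congrArg (Subtype.val) h1
      simp only [Subgroup.coe_mul, Subgroup.coe_inv] at h2
      calc (g : Equiv.Perm GolayPt) * n = ((g : Equiv.Perm GolayPt) * n * (g : Equiv.Perm GolayPt)⁻¹) * g := by group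
        _ = n * g := by rw [h2]
    · intro hg
      show ψ (φ0 g) = 1
      have h0 : φ0 g = 1 := by
        ext n
        simp only [φ0, MulAut.conjNormal_apply, MulAut.one_apply]
        have := hcomm ⟨g, hg⟩ n
        have h3 : g * (n : ↥(KP d Q)) = (n : ↥(KP d Q)) * g := congrArg Subtype.val this
        rw [h3]
        group
      rw [h0, map_one]
  have hrange : φ.range = ⊤ := by
    apply Subgroup.eq_top_of_card_eq
    rw [← Nat.card_congr (QuotientGroup.quotientKerEquivRange φ).toEquiv, hker, card_GL23]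
    have h1 := Subgroup.card_eq_card_quotient_mul_card_subgroup N
    rw [card_KP hd hQ, hNcard] at h1
    omega
  have hsurj : Function.Surjective φ := MonoidHom.range_eq_top.mp hrange
  refine ⟨N, hNn, hNcard, ⟨?_⟩⟩
  have e1 : ↥(KP d Q) ⧸ φ.ker ≃* GL (Fin 2) (ZMod 3) :=
    QuotientGroup.quotientKerEquivOfSurjective φ hsurj
  exact (QuotientGroup.quotientMulEquivOfEq hker.symm).trans e1

end Cfsg.Agent.Lib.Helper45.QuartetStab
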