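import Mathlib
import Cfsg.Agent.Lib.Helper72.DegEqDefs

/-!
# S0983: a verified solver for helper72's degree-equation data (helper45)

`mem_allSols`: if `DegData n p Deg d e ε s f` holds then `(d, e, l, f)` (with `l` a list enumerating `s`)
occurs in the explicitly computable list `allSols n p B okx okf`, where `okx`, `okf` are arbitrary
boolean side conditions known to hold for the members of `s` and for `f`.  For most orders the
list is `[]` (checked by kernel evaluation), which refutes the data.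
-/

set_option autoImplicit false

namespace Cfsg.Agent.Lib.Helper45.Range6232

open Cfsg.Agent.Lib.Helper72.DegEq Cfsg.Agent.Lib.Helper9

/-- candidates for the number of Sylow `p`-subgroups -/
def dcands (n p : ℕ) : List ℕ :=
  (List.range (n / p + 1)).filter fun d =>
    decide ((n / p) % d = 0) && decide (d % p = 1) && decide (d ≠ 1) && !(Sieve.excl n p 1 (n / p) d)

/-- candidates for `e = |N(P) : C(P)|` -/
def ecands (n p d : ℕ) : List ℕ :=
  (List.range (n / p / d + 1)).filter fun e =>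
    decide ((n / p / d) % e = 0) && decide ((p - 1) % e = 0) && decide (e ≠ 1)

/-- candidates for the members of `s` -/
def cand (n p : ℕ) (lo : ℤ) (B : ℕ) (okx : ℤ → Bool) : List ℤ :=
  ((List.range (2 * B + 1)).map fun i : ℕ => (i : ℤ) - (B : ℤ)).filter fun x =>
    decide (x ∣ (n : ℤ)) && decide ((p : ℤ) ∣ x - 1) && decide (lo ≤ x ∨ x ≤ -lo) && okx x

/-- all solutions `(members of s, f)` of the degree equation with `k` more members to choose -/
def sols (N lo c : ℤ) (okf : ℤ → Bool) (L : List ℤ) : ℕ → ℤ → ℤ → List ℤ → List (List ℤ × ℤ)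
  | 0, sm, sq, acc =>
    ([sm, -sm].filter fun f =>
      decide (lo ≤ f) && decide (f ∣ N) && decide (sq + c * f ^ 2 ≤ N) && okf f).map fun f => (acc, f)
  | k + 1, sm, sq, acc =>
    L.flatMap fun x => sols N lo c okf L k (sm + x) (sq + x ^ 2) (x :: acc)

/-- the lower bound for the degrees: `2p` when `C(P) ≠ P` -/
def loOf (n p d e : ℕ) : ℤ := if e < n / p / d then 2 * (p : ℤ) else 2

/-- all solutions for all configurations `(d, e)` -/
def allSols (n p B : ℕ) (okx okf : ℤ → Bool) : List (ℕ × ℕ × List ℤ × ℤ) :=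
  (dcands n p).flatMap fun d => (ecands n p d).flatMap fun e =>
    (sols (n : ℤ) (loOf n p d e) (((p - 1) / e : ℕ) : ℤ) okf
      (cand n p (loOf n p d e) B okx) (e - 1) 1 1 []).map fun lf => (d, e, lf.1, lf.2)

theorem sq_le_sum_sq {s : Multiset ℤ} {x : ℤ} (hx : x ∈ s) :
    x ^ 2 ≤ (s.map (fun y => y ^ 2)).sum := by
  have hmem : x ^ 2 ∈ s.map (fun y => y ^ 2) := Multiset.mem_map_of_mem _ hx
  refine Multiset.single_le_sum ?_ _ hmem
  intro y hy
  obtain ⟨z, _, rfl⟩ := Multiset.mem_map.mp hy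
  positivity

theorem sols_sound (N lo c : ℤ) (okf : ℤ → Bool) (L : List ℤ) (f : ℤ) (hlo : lo ≤ f) (hfN : f ∣ N)
    (hokf : okf f = true) (s : Multiset ℤ) :
    ∀ (sm sq : ℤ) (acc : List ℤ), (∀ x ∈ s, x ∈ L) → (f = sm + s.sum ∨ f = -(sm + s.sum)) →
      sq + (s.map (fun y => y ^ 2)).sum + c * f ^ 2 ≤ N →
      ∃ l : List ℤ, (l : Multiset ℤ) = s + (acc : Multiset ℤ) ∧
        (l, f) ∈ sols N lo c okf L (Multiset.card s) sm sq acc := by
  induction s using Multiset.induction with
  | empty =>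
    intro sm sq acc _ hf hsq
    refine ⟨acc, by simp, ?_⟩
    simp only [Multiset.card_zero, sols, List.mem_map, List.mem_filter, Bool.and_eq_true,
      decide_eq_true_eq]
    refine ⟨f, ⟨?_, ⟨⟨hlo, hfN⟩, ?_⟩, hokf⟩, rfl⟩
    · simp only [Multiset.sum_zero, add_zero] at hf
      rcases hf with hf | hf
      · simp [hf]
      · simp [hf]
    · simpa using hsq
  | cons a t ih =>
    intro sm sq acc hL hf hsq
    have haL : a ∈ L := hL a (Multiset.mem_cons_self a t)
    have htL : ∀ x ∈ t, x ∈ L := fun x hx => hL x (Multiset.mem_cons_of_mem hx)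
    have hf' : f = (sm + a) + t.sum ∨ f = -((sm + a) + t.sum) := by
      rw [Multiset.sum_cons] at hf
      rcases hf with hf | hf
      · left; rw [hf]; ring
      · right; rw [hf]; ring
    have hsq' : (sq + a ^ 2) + (t.map (fun y => y ^ 2)).sum + c * f ^ 2 ≤ N := by
      rw [Multiset.map_cons, Multiset.sum_cons] at hsq
      linarith
    obtain ⟨l, hl, hmem⟩ := ih (sm + a) (sq + a ^ 2) (a :: acc) htL hf' hsq'
    refine ⟨l, ?_, ?_⟩
    · rw [hl]
      rw [← Multiset.cons_coe, Multiset.add_cons, Multiset.cons_add]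
    · rw [Multiset.card_cons]
      simp only [sols, List.mem_flatMap]
      exact ⟨a, haL, hmem⟩

theorem mem_allSols {n p : ℕ} {Deg : Set ℕ} {d e : ℕ} {ε : ℤ} {s : Multiset ℤ} {f : ℤ}
    (h : DegData n p Deg d e ε s f) (hnp : 0 < n / p) (B : ℕ) (hB : n < (B + 1) ^ 2)
    (okx okf : ℤ → Bool) (hokx : ∀ x ∈ s, okx x = true) (hokf : okf f = true) :
    ∃ l : List ℤ, (l : Multiset ℤ) = s ∧ (d, e, l, f) ∈ allSols n p B okx okf := by
  have hd_pos : 0 < d := Nat.pos_of_dvd_of_pos h.hd_dvd hnp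
  have hu_pos : 0 < n / p / d := Nat.div_pos (Nat.le_of_dvd hnp h.hd_dvd) hd_pos
  -- `d`
  have hd_mem : d ∈ dcands n p := by
    unfold dcands
    rw [List.mem_filter, List.mem_range]
    refine ⟨Nat.lt_succ_of_le (Nat.le_of_dvd hnp h.hd_dvd), ?_⟩
    simp only [Bool.and_eq_true, decide_eq_true_eq, Bool.not_eq_true']
    exact ⟨⟨⟨Nat.mod_eq_zero_of_dvd h.hd_dvd, h.hd_mod⟩, h.hd_ne⟩, h.hd_excl⟩
  -- `e`
  have he_mem : e ∈ ecands n p d := by
    unfold ecands
    rw [List.mem_filter, List.mem_range]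
    refine ⟨Nat.lt_succ_of_le (Nat.le_of_dvd hu_pos h.he_dvd), ?_⟩
    simp only [Bool.and_eq_true, decide_eq_true_eq]
    exact ⟨⟨Nat.mod_eq_zero_of_dvd h.he_dvd, Nat.mod_eq_zero_of_dvd h.he_dvd'⟩, h.he_ne⟩
  -- bounds
  have hf_pos : (0 : ℤ) ≤ (((p - 1) / e : ℕ) : ℤ) * f ^ 2 := by positivity
  have hsum_nonneg : (0 : ℤ) ≤ (s.map (fun y => y ^ 2)).sum := by
    apply Multiset.sum_nonneg
    intro y hy
    obtain ⟨z, _, rfl⟩ := Multiset.mem_map.mp hy
    positivity
  have hBz : (n : ℤ) < ((B : ℤ) + 1) ^ 2 := by exact_mod_cast hB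
  -- the lower bound
  have hlo_x : ∀ x ∈ s, loOf n p d e ≤ x ∨ x ≤ -loOf n p d e := by
    intro x hx
    unfold loOf
    split_ifs with hbig
    · exact h.hs_big hbig x hx
    · exact h.hs_two x hx
  have hlo_f : loOf n p d e ≤ f := by
    unfold loOf
    split_ifs with hbig
    · exact h.hf_big hbig
    · exact h.hf_two
  -- members of `s` are candidates
  have hcand : ∀ x ∈ s, x ∈ cand n p (loOf n p d e) B okx := by
    intro x hx
    have hx2 : x ^ 2 < ((B : ℤ) + 1) ^ 2 := by
      have := sq_le_sum_sq hx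
      have := h.hsq
      linarith
    have habs := abs_lt_of_sq_lt_sq' hx2 (by positivity)
    have h1 : (0 : ℤ) ≤ x + B := by linarith [habs.1]
    have h2 : ((x + B).toNat : ℤ) = x + B := Int.toNat_of_nonneg h1
    have hrange : (x + B).toNat ∈ List.range (2 * B + 1) := by
      rw [List.mem_range]
      have h3 : ((x + B).toNat : ℤ) < 2 * B + 1 := by rw [h2]; linarith [habs.2]
      exact_mod_cast h3
    have hmap : x ∈ (List.range (2 * B + 1)).map fun i : ℕ => (i : ℤ) - (B : ℤ) :=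
      List.mem_map.mpr ⟨(x + B).toNat, hrange, by rw [h2]; ring⟩
    unfold cand
    rw [List.mem_filter]
    refine ⟨hmap, ?_⟩
    simp only [Bool.and_eq_true, decide_eq_true_eq]
    exact ⟨⟨⟨h.hs_dvd x hx, h.hs_mod x hx⟩, hlo_x x hx⟩, hokx x hx⟩
  -- the equation
  have hfeq : f = 1 + s.sum ∨ f = -(1 + s.sum) := by
    rcases h.hε with he | he
    · left; rw [← h.heq, he, one_mul]
    · right; rw [← h.heq, he]; ring
  have hcard : Multiset.card s = e - 1 := by have := h.hcard; omega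
  obtain ⟨l, hl, hmem⟩ := sols_sound (n : ℤ) (loOf n p d e) (((p - 1) / e : ℕ) : ℤ) okf
    (cand n p (loOf n p d e) B okx) f hlo_f h.hf_dvd hokf s 1 1 [] hcand hfeq h.hsq
  refine ⟨l, by simpa using hl, ?_⟩
  unfold allSols
  rw [List.mem_flatMap]
  refine ⟨d, hd_mem, ?_⟩
  rw [List.mem_flatMap]
  refine ⟨e, he_mem, ?_⟩
  rw [List.mem_map]
  rw [hcard] at hmem
  exact ⟨(l, f), hmem, rfl⟩

end Cfsg.Agent.Lib.Helper45.Range6232
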