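import Mathlib
import Cfsg.Agent.Lib.Helper72.DegEqDefs
import Cfsg.Agent.Lib.Helper45.Range6232Tools

/-!
# S0983 module [A4536] (helper45, for helper72): no degree data for order 4536, p = 7
-/

set_option autoImplicit false

namespace Cfsg.Agent.Lib.Helper45.Range6232

open Cfsg.Agent.Lib.Helper72.DegEq

theorem allSols_4536 : allSols 4536 7 67 (fun _ => true) (fun _ => true) = [] := by
  decide +kernel

/-- MODULE S0983-[A4536] -/
theorem arith_4536 {Deg : Set ℕ} {d e : ℕ} {ε : ℤ} {s : Multiset ℤ} {f : ℤ}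
    (h : DegData 4536 7 Deg d e ε s f) : False := by
  obtain ⟨l, _, hl⟩ := mem_allSols h (by norm_num) 67 (by norm_num) (fun _ => true)
    (fun _ => true) (fun _ _ => rfl) rfl
  rw [allSols_4536] at hl
  exact List.not_mem_nil hl

end Cfsg.Agent.Lib.Helper45.Range6232
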