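import Mathlib
import Cfsg.Agent.Lib.Helper72.DegEqDefs
import Cfsg.Agent.Lib.Helper45.Range6232Tools

/-!
# S0983 module [A5460] (helper45, for helper72): order 5460, primes 13 and 7 with the same `Deg`

`p = 13` forces `s = {-12, -12, -12}`, `f = 35`, `e = u = 4`, so every degree is divisible by `13` or
lies in `{1, 12, 35}`; with this side condition the data for `p = 7` has no solution.
-/

set_option autoImplicit false

namespace Cfsg.Agent.Lib.Helper45.Range6232

open Cfsg.Agent.Lib.Helper72.DegEq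

theorem allSols_5460_13 :
    allSols 5460 13 73 (fun _ => true) (fun _ => true) = [(105, 4, [-12, -12, -12], 35)] := by
  decide +kernel

/-- the side condition on degrees coming from `p = 13` -/
def ok5460 (x : ℤ) : Bool :=
  decide (13 ∣ x.natAbs ∨ x.natAbs = 1 ∨ x.natAbs = 35 ∨ x.natAbs = 12)

theorem allSols_5460_7 : allSols 5460 7 73 ok5460 ok5460 = [] := by
  decide +kernel

/-- MODULE S0983-[A5460] -/
theorem arith_5460 {Deg : Set ℕ} {d e : ℕ} {ε : ℤ} {s : Multiset ℤ} {f : ℤ} {d' e' : ℕ} {ε' : ℤ}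
    {s' : Multiset ℤ} {f' : ℤ} (h13 : DegData 5460 13 Deg d e ε s f)
    (h7 : DegData 5460 7 Deg d' e' ε' s' f') : False := by
  obtain ⟨l, hls, hl⟩ := mem_allSols h13 (by norm_num) 73 (by norm_num) (fun _ => true)
    (fun _ => true) (fun _ _ => rfl) rfl
  rw [allSols_5460_13, List.mem_singleton] at hl
  obtain ⟨hd, he, hl', hf⟩ : d = 105 ∧ e = 4 ∧ l = [-12, -12, -12] ∧ f = 35 := by
    simpa [Prod.ext_iff] using hl
  subst hd he hl' hf
  have hDeg : ∀ k ∈ Deg, 13 ∣ k ∨ k = 1 ∨ k = 35 ∨ k = 12 := by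
    intro k hk
    rcases h13.hall (by norm_num) k hk with h1 | h1 | h1 | ⟨x, hx, hxk⟩
    · left; exact h1
    · right; left; exact h1
    · right; right; left; exact_mod_cast h1
    · right; right; right
      rw [← hls] at hx
      have hx' : x = -12 := by simpa using hx
      rw [← hxk, hx']
      rfl
  have hok : ∀ x : ℤ, x.natAbs ∈ Deg → ok5460 x = true := by
    intro x hx
    unfold ok5460
    rw [decide_eq_true_eq]
    exact hDeg _ hx
  obtain ⟨l', _, hl'⟩ := mem_allSols h7 (by norm_num) 73 (by norm_num) ok5460 ok5460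
    (fun x hx => hok x (h7.hs_deg x hx)) (hok f' h7.hf_deg)
  rw [allSols_5460_7] at hl'
  exact List.not_mem_nil hl'

end Cfsg.Agent.Lib.Helper45.Range6232
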