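/-
helper45: project S1936 (helper22): tools for END-[F5] (the count).
-/
import Mathlib

set_option autoImplicit false
universe u

namespace Cfsg.Agent.Lib.Helper45.S1936

open scoped Pointwise

variable {G : Type u} [Group G]

/-- orbit counting for the conjugation action of a subgroup -/
theorem ncard_conj_orbit (K : Subgroup G) (a : G) :
    {x : G | ∃ k ∈ K, k * a * k⁻¹ = x}.ncard = (Subgroup.centralizer ({a} : Set G)).relIndex K := by
  let act : MulAction ↥K G := MulAction.compHom G ((MulAut.conj (G := G)).comp K.subtype)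
  have hsm : ∀ (k : ↥K) (x : G), k • x = (k : G) * x * (k : G)⁻¹ := fun k x => rfl
  have h1 := MulAction.index_stabilizer ↥K a
  have h2 : MulAction.stabilizer ↥K a = (Subgroup.centralizer ({a} : Set G)).subgroupOf K := by
    ext k
    rw [MulAction.mem_stabilizer_iff, hsm, Subgroup.mem_subgroupOf, Subgroup.mem_centralizer_singleton_iff]
    constructor
    · intro h
      calc (k : G) * a = (k : G) * a * (k : G)⁻¹ * k := by group
        _ = a * k := by rw [h]
    · intro h
      rw [h]; group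
  have h3 : MulAction.orbit ↥K a = {x : G | ∃ k ∈ K, k * a * k⁻¹ = x} := by
    ext x
    rw [MulAction.mem_orbit_iff]
    constructor
    · rintro ⟨k, hk⟩
      exact ⟨k, k.2, by rw [← hk, hsm]⟩
    · rintro ⟨k, hk, rfl⟩
      exact ⟨⟨k, hk⟩, hsm _ _⟩
  rw [← h3, ← h1, h2]
  rfl

/-- a `p`-element normalising a Sylow `p`-subgroup lies in it -/
theorem mem_sylow_of_mem_normalizer {p : ℕ} [Fact p.Prime] (P : Sylow p G) {x : G}
    (hx : x ∈ Subgroup.normalizer ((P : Subgroup G) : Set G)) (n : ℕ) (hox : orderOf x = p ^ n) :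
    x ∈ (P : Subgroup G) := by
  have hz : IsPGroup p ↥(Subgroup.zpowers x) :=
    IsPGroup.of_card (n := n) (by rw [Nat.card_zpowers, hox])
  have hle : Subgroup.zpowers x ≤ Subgroup.normalizer ((P : Subgroup G) : Set G) := by
    rw [Subgroup.zpowers_le]; exact hx
  have hsup : IsPGroup p ↥(Subgroup.zpowers x ⊔ (P : Subgroup G)) :=
    hz.to_sup_of_normal_right' P.2 hle
  have h1 := P.is_maximal' hsup le_sup_right
  have hmem : x ∈ Subgroup.zpowers x ⊔ (P : Subgroup G) :=
    Subgroup.mem_sup_left (Subgroup.mem_zpowers x)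
  rwa [h1] at hmem

/-- an element inverting a subgroup normalises it -/
theorem mem_normalizer_of_inverts (P : Subgroup G) {b : G} (hb : ∀ x ∈ P, b * x * b⁻¹ = x⁻¹) :
    b ∈ Subgroup.normalizer (P : Set G) := by
  rw [Subgroup.mem_normalizer_iff]
  intro h
  constructor
  · intro hh
    rw [hb h hh]
    exact P.inv_mem hh
  · intro hh
    have h1 := hb _ (P.inv_mem hh)
    rw [inv_inv] at h1
    have h2 : (b * h * b⁻¹)⁻¹ = h := mul_left_cancel (mul_right_cancel h1)
    rw [← h2]
    exact P.inv_mem hh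

/-- membership in a conjugate Sylow subgroup -/
theorem mem_smul_sylow {p : ℕ} (g : G) (P : Sylow p G) (y : G) :
    y ∈ ((g • P : Sylow p G) : Subgroup G) ↔ g⁻¹ * y * g ∈ (P : Subgroup G) := by
  rw [Sylow.coe_subgroup_smul, Subgroup.mem_pointwise_smul_iff_inv_smul_mem, MulAut.smul_def,
    MulAut.conj_inv_apply]

/-- two involutions of a group of order not divisible by 4 are conjugate -/
theorem conj_of_involutions_of_not_four_dvd [Finite G] (L : Subgroup G) (h4 : ¬ 4 ∣ Nat.card ↥L) {a b : G}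
    (haL : a ∈ L) (hbL : b ∈ L) (ha : orderOf a = 2) (hb : orderOf b = 2) :
    ∃ h ∈ L, h * a * h⁻¹ = b := by
  have : Fact (Nat.Prime 2) := ⟨Nat.prime_two⟩
  set aL : ↥L := ⟨a, haL⟩ with haL'
  set bL : ↥L := ⟨b, hbL⟩ with hbL'
  have hoa : orderOf aL = 2 := by rw [← Subgroup.orderOf_coe]; exact ha
  have hob : orderOf bL = 2 := by rw [← Subgroup.orderOf_coe]; exact hb
  have hzA : IsPGroup 2 ↥(Subgroup.zpowers aL) :=
    IsPGroup.of_card (n := 1) (by rw [Nat.card_zpowers, hoa, pow_one])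
  have hzB : IsPGroup 2 ↥(Subgroup.zpowers bL) :=
    IsPGroup.of_card (n := 1) (by rw [Nat.card_zpowers, hob, pow_one])
  obtain ⟨Q₁, hQ₁⟩ := hzA.exists_le_sylow
  obtain ⟨Q₂, hQ₂⟩ := hzB.exists_le_sylow
  have hcard : ∀ Q : Sylow 2 ↥L, 2 ∣ Nat.card ↥(Q : Subgroup ↥L) → Nat.card ↥(Q : Subgroup ↥L) = 2 := by
    intro Q h2
    have h1 := Q.card_eq_multiplicity
    have h3 := Nat.ordProj_dvd (Nat.card ↥L) 2
    set e := (Nat.card ↥L).factorization 2 with he
    have he1 : e ≤ 1 := by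
      by_contra hcon
      have h5 : 2 ≤ e := by omega
      apply h4
      calc (4 : ℕ) = 2 ^ 2 := by norm_num
        _ ∣ 2 ^ e := pow_dvd_pow 2 h5
        _ ∣ Nat.card ↥L := h3
    have he0 : e ≠ 0 := by
      intro h0
      rw [h1, h0, pow_zero] at h2
      omega
    have : e = 1 := by omega
    rw [h1, this, pow_one]
  have hc₁ : Nat.card ↥(Q₁ : Subgroup ↥L) = 2 := by
    apply hcard
    have := Subgroup.card_dvd_of_le hQ₁
    rwa [Nat.card_zpowers, hoa] at this
  have hc₂ : Nat.card ↥(Q₂ : Subgroup ↥L) = 2 := by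
    apply hcard
    have := Subgroup.card_dvd_of_le hQ₂
    rwa [Nat.card_zpowers, hob] at this
  have hQ₁' : Subgroup.zpowers aL = (Q₁ : Subgroup ↥L) :=
    Subgroup.eq_of_le_of_card_ge hQ₁ (by rw [hc₁, Nat.card_zpowers, hoa])
  have hQ₂' : Subgroup.zpowers bL = (Q₂ : Subgroup ↥L) :=
    Subgroup.eq_of_le_of_card_ge hQ₂ (by rw [hc₂, Nat.card_zpowers, hob])
  obtain ⟨h, hh⟩ := MulAction.exists_smul_eq ↥L Q₁ Q₂
  have hmem : h * aL * h⁻¹ ∈ ((h • Q₁ : Sylow 2 ↥L) : Subgroup ↥L) := by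
    rw [mem_smul_sylow]
    have : h⁻¹ * (h * aL * h⁻¹) * h = aL := by group
    rw [this, ← hQ₁']
    exact Subgroup.mem_zpowers aL
  rw [hh, ← hQ₂', Subgroup.mem_zpowers_iff] at hmem
  obtain ⟨k, hk⟩ := hmem
  have hk' : bL ^ (k % 2) = h * aL * h⁻¹ := by
    rw [← hk]
    have := zpow_mod_orderOf bL k
    rw [hob] at this
    exact_mod_cast this
  refine ⟨h, h.2, ?_⟩
  rcases Int.emod_two_eq_zero_or_one k with h0 | h1
  · exfalso
    rw [h0, zpow_zero] at hk'
    have h5 : aL = 1 := by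
      have : aL = h⁻¹ * (h * aL * h⁻¹) * h := by group
      rw [this, ← hk']; group
    rw [h5, orderOf_one] at hoa
    omega
  · rw [h1, zpow_one] at hk'
    have := congrArg (Subtype.val) hk'
    simpa [haL', hbL'] using this.symm

end Cfsg.Agent.Lib.Helper45.S1936
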