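/-
helper45: project S1936 (helper22): END-[F5] `prime_dvd_card_centralizer` in `_of` form: the skeleton statements
of NC, OUT, TRANS, AP, D2i-iii, F2, F3, F4 (for `M = N(T)`) and the conjugacy of all involutions (S1225) are hypotheses.
-/
import Mathlib
import Cfsg.Agent.Lib.Helper22.S1936Defs
import Cfsg.Agent.Lib.Helper45.S1936F5Kit

set_option autoImplicit false
universe u

namespace Cfsg.Agent.Lib.Helper45.S1936

open Cfsg.Agent.Lib.Helper22.S1936
open scoped Pointwise

variable {G : Type u} [Group G] [Finite G] {p : ℕ} [Fact p.Prime]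

set_option maxHeartbeats 1600000 in
/-- END-[F5] (sheet §F5), `_of` form. -/
theorem prime_dvd_card_centralizer_of (hG : MinCE p G) {T : Sylow 2 G}
    (hD : SEDatum T (Subgroup.normalizer ((T : Subgroup G) : Set G)))
    (hC : ∀ a ∈ (T : Subgroup G), a ≠ 1 →
      Subgroup.centralizer ({a} : Set G) = Subgroup.centralizer ((T : Subgroup G) : Set G))
    (hNC : ∃ n : ℕ, 0 < n ∧ (Subgroup.centralizer ((T : Subgroup G) : Set G)).relIndex
        (Subgroup.normalizer ((T : Subgroup G) : Set G)) = p ^ n)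
    (hOUT : ∃ u : G, orderOf u = 2 ∧ u ∉ Subgroup.normalizer ((T : Subgroup G) : Set G))
    (hconj : ∀ s t : G, orderOf s = 2 → orderOf t = 2 → IsConj s t)
    (hTRANS : ∀ a ∈ (T : Subgroup G), ∀ b ∈ (T : Subgroup G), orderOf a = 2 → orderOf b = 2 →
      ∃ n ∈ Subgroup.normalizer ((T : Subgroup G) : Set G), n * a * n⁻¹ = b)
    (hAP : ∀ a u : G, orderOf a = 2 → a ∈ Subgroup.normalizer ((T : Subgroup G) : Set G) →
      u ∉ Subgroup.normalizer ((T : Subgroup G) : Set G) →
      Apart (Subgroup.normalizer ((T : Subgroup G) : Set G)) a u)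
    (hD2i : ∀ a u : G, orderOf a = 2 → orderOf u = 2 →
      Apart (Subgroup.normalizer ((T : Subgroup G) : Set G)) a u →
      ∀ L : Subgroup G, L ≠ ⊤ → a ∈ L → u ∈ L → ¬ 4 ∣ Nat.card ↥L)
    (hD2ii : ∀ a u : G, orderOf a = 2 → orderOf u = 2 →
      Apart (Subgroup.normalizer ((T : Subgroup G) : Set G)) a u →
      a * u ≠ 1 ∧ ∃ n : ℕ, orderOf (a * u) = p ^ n)
    (hD2iii : ∀ a u : G, orderOf a = 2 → orderOf u = 2 →
      Apart (Subgroup.normalizer ((T : Subgroup G) : Set G)) a u →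
      ∃ P : Sylow p G, a ∈ Subgroup.normalizer ((P : Subgroup G) : Set G) ∧
        u ∈ Subgroup.normalizer ((P : Subgroup G) : Set G))
    (hF2 : ∀ a x : G, a ∈ (T : Subgroup G) → a ≠ 1 → a * x * a⁻¹ = x⁻¹ → Odd (orderOf x) → x ≠ 1 →
      a * x ∉ Subgroup.normalizer ((T : Subgroup G) : Set G))
    (hF3 : ∀ a u : G, a ∈ (T : Subgroup G) → a ≠ 1 → orderOf u = 2 →
      u ∉ Subgroup.normalizer ((T : Subgroup G) : Set G) → ∀ P : Sylow p G,
      a ∈ Subgroup.normalizer ((P : Subgroup G) : Set G) →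
      u ∈ Subgroup.normalizer ((P : Subgroup G) : Set G) → ∀ x ∈ (P : Subgroup G), a * x * a⁻¹ = x⁻¹)
    (hF4 : ∀ a u : G, a ∈ (T : Subgroup G) → a ≠ 1 → orderOf u = 2 →
      u ∉ Subgroup.normalizer ((T : Subgroup G) : Set G) → ∀ P₁ P₂ : Sylow p G,
      a ∈ Subgroup.normalizer ((P₁ : Subgroup G) : Set G) →
      u ∈ Subgroup.normalizer ((P₁ : Subgroup G) : Set G) →
      a ∈ Subgroup.normalizer ((P₂ : Subgroup G) : Set G) →
      u ∈ Subgroup.normalizer ((P₂ : Subgroup G) : Set G) → P₁ = P₂) :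
    p ∣ Nat.card ↥(Subgroup.centralizer ((T : Subgroup G) : Set G)) := by
  classical
  have hpp : p.Prime := Fact.out
  have hp5 := hG.hp5
  have : Fintype G := Fintype.ofFinite G
  have : Fintype (Sylow p G) := Fintype.ofFinite _
  set N : Subgroup G := Subgroup.normalizer ((T : Subgroup G) : Set G) with hN
  set CT : Subgroup G := Subgroup.centralizer ((T : Subgroup G) : Set G) with hCT
  have hTN : (T : Subgroup G) ≤ N := Subgroup.le_normalizer
  have hCTN : CT ≤ N := Subgroup.centralizer_le_normalizer _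
  -- an involution `a` of `T`
  obtain ⟨a, haT, ha1⟩ : ∃ a ∈ (T : Subgroup G), a ≠ 1 := by
    by_contra hcon
    have hbot : (T : Subgroup G) = ⊥ := by
      rw [Subgroup.eq_bot_iff_forall]
      intro x hx
      by_contra hx1
      exact hcon ⟨x, hx, hx1⟩
    have h8 := hD.card8
    rw [hbot, Subgroup.card_bot] at h8
    omega
  have ha2 : orderOf a = 2 := orderOf_eq_prime (hD.elem a haT) ha1
  have haN : a ∈ N := hTN haT
  have hCa : Subgroup.centralizer ({a} : Set G) = CT := hC a haT ha1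
  have haa : a * a = 1 := by rw [← pow_two]; exact hD.elem a haT
  have hainv : a⁻¹ = a := inv_eq_of_mul_eq_one_right haa
  -- involutions of `N` lie in `T`
  have hNT : ∀ u ∈ N, orderOf u = 2 → u ∈ (T : Subgroup G) := by
    intro u huN hu2
    have hz : IsPGroup 2 ↥(Subgroup.zpowers u) :=
      IsPGroup.of_card (n := 1) (by rw [Nat.card_zpowers, hu2, pow_one])
    have hle : Subgroup.zpowers u ≤ Subgroup.normalizer ((T : Subgroup G) : Set G) := by
      rw [Subgroup.zpowers_le]; exact huN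
    have hsup : IsPGroup 2 ↥(Subgroup.zpowers u ⊔ (T : Subgroup G)) :=
      hz.to_sup_of_normal_right' T.2 hle
    have h1 := T.is_maximal' hsup le_sup_right
    have hmem : u ∈ Subgroup.zpowers u ⊔ (T : Subgroup G) :=
      Subgroup.mem_sup_left (Subgroup.mem_zpowers u)
    rwa [h1] at hmem
  -- the elements of a Sylow `p`-subgroup have odd order
  have hoddP : ∀ (P : Sylow p G) (x : G), x ∈ (P : Subgroup G) → Odd (orderOf x) := by
    intro P x hx
    obtain ⟨k, hk⟩ := (IsPGroup.iff_orderOf.1 P.2) ⟨x, hx⟩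
    rw [Subgroup.orderOf_mk] at hk
    rw [hk]
    apply Odd.pow
    rcases hpp.eq_two_or_odd' with h | h
    · omega
    · exact h
  -- Part 1: `p` divides the number of involutions outside `N`
  set J : Finset G := Finset.univ.filter (fun u => orderOf u = 2 ∧ u ∉ N) with hJ
  have hpJ : p ∣ J.card := by
    obtain ⟨n, hn0, hn⟩ := hNC
    have hI : {x : G | ∃ g ∈ (⊤ : Subgroup G), g * a * g⁻¹ = x} = {u : G | orderOf u = 2} := by
      ext u
      constructor
      · rintro ⟨g, _, rfl⟩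
        have := (MulAut.conj g).orderOf_eq a
        rw [MulAut.conj_apply] at this
        show orderOf (g * a * g⁻¹) = 2
        rw [this, ha2]
      · intro hu
        obtain ⟨c, hc⟩ := isConj_iff.1 (hconj a u ha2 hu)
        exact ⟨c, Subgroup.mem_top c, hc⟩
    have hT1 : {x : G | ∃ g ∈ N, g * a * g⁻¹ = x} = {t : G | t ∈ (T : Subgroup G) ∧ t ≠ 1} := by
      ext t
      constructor
      · rintro ⟨g, hg, rfl⟩
        refine ⟨(Subgroup.mem_normalizer_iff.1 hg a).1 haT, ?_⟩
        intro h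
        apply ha1
        have : a = g⁻¹ * (g * a * g⁻¹) * g := by group
        rw [this, h]; group
      · rintro ⟨ht, ht1⟩
        exact hTRANS a haT t ht ha2 (orderOf_eq_prime (hD.elem t ht) ht1)
    have h1 := ncard_conj_orbit (⊤ : Subgroup G) a
    rw [hI, hCa, Subgroup.relIndex_top_right] at h1
    have h2 := ncard_conj_orbit N a
    rw [hT1, hCa, hn] at h2
    have hJset : (J : Set G) = {u : G | orderOf u = 2} \ {t : G | t ∈ (T : Subgroup G) ∧ t ≠ 1} := by
      ext u
      simp only [hJ, Finset.coe_filter, Finset.mem_univ, true_and, Set.mem_ofPred_eq, Set.mem_sdiff]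
      constructor
      · rintro ⟨hu, huN⟩
        exact ⟨hu, fun h => huN (hTN h.1)⟩
      · rintro ⟨hu, hnT⟩
        refine ⟨hu, fun huN => hnT ⟨hNT u huN hu, ?_⟩⟩
        intro h
        rw [h, orderOf_one] at hu
        omega
    have hsub : {t : G | t ∈ (T : Subgroup G) ∧ t ≠ 1} ⊆ {u : G | orderOf u = 2} := by
      rintro t ⟨ht, ht1⟩
      exact orderOf_eq_prime (hD.elem t ht) ht1
    have h3 : J.card = CT.index - p ^ n := by
      rw [← Set.ncard_coe_finset, hJset, Set.ncard_sdiff hsub (Set.toFinite _), h1, h2]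
    have h4 := Subgroup.relIndex_mul_index hCTN
    rw [hn] at h4
    rw [h3, ← h4]
    have h5 : p ^ n * N.index - p ^ n = p ^ n * (N.index - 1) := by
      rw [Nat.mul_sub, mul_one]
    rw [h5]
    exact Dvd.dvd.mul_right (dvd_pow_self p (by omega)) _
  -- Part 2: the involutions outside `N` are the `a x`, `x ∈ P#`, `P` inverted by `a`
  set 𝒮 : Finset (Sylow p G) :=
    Finset.univ.filter (fun P => ∀ x ∈ (P : Subgroup G), a * x * a⁻¹ = x⁻¹) with h𝒮
  set t : Sylow p G → Finset G := fun P =>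
    (Finset.univ.filter (fun x => x ∈ (P : Subgroup G) ∧ x ≠ 1)).image (fun x => a * x) with ht
  set q : ℕ := p ^ (Nat.card G).factorization p with hq
  have hcardP : ∀ P : Sylow p G, Nat.card ↥(P : Subgroup G) = q := fun P => P.card_eq_multiplicity
  have hmemt : ∀ (P : Sylow p G) (u : G), u ∈ t P ↔ ∃ x, (x ∈ (P : Subgroup G) ∧ x ≠ 1) ∧ a * x = u := by
    intro P u
    simp only [ht, Finset.mem_image, Finset.mem_filter, Finset.mem_univ, true_and]
  -- elements `a x`
  have hax : ∀ (P : Sylow p G), P ∈ 𝒮 → ∀ x ∈ (P : Subgroup G), x ≠ 1 →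
      orderOf (a * x) = 2 ∧ a * x ∉ N ∧ a * x ∈ Subgroup.normalizer ((P : Subgroup G) : Set G) ∧
        a ∈ Subgroup.normalizer ((P : Subgroup G) : Set G) := by
    intro P hP x hx hx1
    have hinv : ∀ x ∈ (P : Subgroup G), a * x * a⁻¹ = x⁻¹ := by
      simpa [h𝒮] using hP
    have h1 : a * x ∉ N := hF2 a x haT ha1 (hinv x hx) (hoddP P x hx) hx1
    have h2 : (a * x) ^ 2 = 1 := by
      have h3 := hinv x hx
      rw [hainv] at h3
      calc (a * x) ^ 2 = (a * x * a) * x := by rw [pow_two]; group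
        _ = 1 := by rw [h3]; group
    have h3 : a * x ≠ 1 := by
      intro h
      apply h1
      rw [h]
      exact N.one_mem
    have haP : a ∈ Subgroup.normalizer ((P : Subgroup G) : Set G) := mem_normalizer_of_inverts _ hinv
    exact ⟨orderOf_eq_prime h2 h3, h1,
      Subgroup.mul_mem _ haP (Subgroup.le_normalizer hx), haP⟩
  have hJU : J = 𝒮.biUnion t := by
    ext u
    rw [Finset.mem_biUnion]
    constructor
    · intro hu
      obtain ⟨hu2, huN⟩ : orderOf u = 2 ∧ u ∉ N := by simpa [hJ] using hu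
      have hap := hAP a u ha2 haN huN
      obtain ⟨P, haP, huP⟩ := hD2iii a u ha2 hu2 hap
      have hinv := hF3 a u haT ha1 hu2 huN P haP huP
      obtain ⟨hne, k, hk⟩ := hD2ii a u ha2 hu2 hap
      have hmem : a * u ∈ (P : Subgroup G) :=
        mem_sylow_of_mem_normalizer P (Subgroup.mul_mem _ haP huP) k hk
      refine ⟨P, by simpa [h𝒮] using hinv, ?_⟩
      rw [hmemt]
      exact ⟨a * u, ⟨hmem, hne⟩, by rw [← mul_assoc, haa, one_mul]⟩
    · rintro ⟨P, hP, hu⟩
      obtain ⟨x, ⟨hx, hx1⟩, rfl⟩ := (hmemt P u).1 hu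
      obtain ⟨h1, h2, _, _⟩ := hax P hP x hx hx1
      simp only [hJ, Finset.mem_filter, Finset.mem_univ, true_and]
      exact ⟨h1, h2⟩
  have hdisj : (↑𝒮 : Set (Sylow p G)).PairwiseDisjoint t := by
    intro P hP P' hP' hne
    rw [Function.onFun, Finset.disjoint_left]
    intro u hu hu'
    apply hne
    obtain ⟨x, ⟨hx, hx1⟩, rfl⟩ := (hmemt P u).1 hu
    obtain ⟨x', ⟨hx', hx1'⟩, hxx'⟩ := (hmemt P' _).1 hu'
    have hxeq : x' = x := mul_left_cancel hxx'
    subst hxeq
    obtain ⟨h1, h2, h3, h4⟩ := hax P (Finset.mem_coe.1 hP) x' hx hx1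
    obtain ⟨_, _, h3', h4'⟩ := hax P' (Finset.mem_coe.1 hP') x' hx' hx1'
    exact hF4 a (a * x') haT ha1 h1 h2 P P' h4 h3 h4' h3'
  have hcardt : ∀ P : Sylow p G, (t P).card = q - 1 := by
    intro P
    rw [ht]
    simp only
    rw [Finset.card_image_of_injective _ (mul_right_injective a)]
    have h1 : Finset.univ.filter (fun x => x ∈ (P : Subgroup G) ∧ x ≠ 1) =
        (Finset.univ.filter (fun x => x ∈ (P : Subgroup G))).erase 1 := by
      ext x
      simp only [Finset.mem_filter, Finset.mem_univ, true_and, Finset.mem_erase]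
      tauto
    rw [h1, Finset.card_erase_of_mem (by simp [Subgroup.one_mem])]
    have h2 : (Finset.univ.filter (fun x => x ∈ (P : Subgroup G))).card = Nat.card ↥(P : Subgroup G) := by
      rw [Nat.card_eq_fintype_card, Fintype.card_subtype]
    rw [h2, hcardP]
  have hJcard : J.card = 𝒮.card * (q - 1) := by
    rw [hJU, Finset.card_biUnion hdisj, Finset.sum_const_nat (fun P _ => hcardt P)]
  -- Part 3: `q > 1`
  obtain ⟨u₀, hu₀2, hu₀N⟩ := hOUT
  have hu₀J : u₀ ∈ J := by
    simp only [hJ, Finset.mem_filter, Finset.mem_univ, true_and]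
    exact ⟨hu₀2, hu₀N⟩
  rw [hJU, Finset.mem_biUnion] at hu₀J
  obtain ⟨P₀, hP₀, hu₀t⟩ := hu₀J
  obtain ⟨x₀, ⟨hx₀, hx₀1⟩, _⟩ := (hmemt P₀ u₀).1 hu₀t
  have hq1 : 1 < q := by
    rw [← hcardP P₀]
    by_contra hcon
    have h1 : Nat.card ↥(P₀ : Subgroup G) = 1 := by
      have := Nat.card_pos (α := ↥(P₀ : Subgroup G))
      omega
    rw [Subgroup.card_eq_one] at h1
    rw [h1, Subgroup.mem_bot] at hx₀
    exact hx₀1 hx₀
  have hpq : p ∣ q := by
    rw [hq]
    apply dvd_pow_self
    intro h0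
    rw [hq, h0, pow_zero] at hq1
    omega
  have hpq1 : ¬ p ∣ q - 1 := by
    intro h
    have h1 : p ∣ q - (q - 1) := Nat.dvd_sub hpq h
    have h2 : q - (q - 1) = 1 := by omega
    rw [h2] at h1
    have := hpp.one_lt
    have := Nat.le_of_dvd one_pos h1
    omega
  have hp𝒮 : p ∣ 𝒮.card := by
    rw [hJcard] at hpJ
    rcases hpp.dvd_mul.1 hpJ with h | h
    · exact h
    · exact absurd h hpq1
  -- Part 4: `C(a)` is transitive on `𝒮`
  set C : Subgroup G := Subgroup.centralizer ({a} : Set G) with hCdef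
  have hinv𝒮 : ∀ P : Sylow p G, P ∈ 𝒮 ↔ ∀ x ∈ (P : Subgroup G), a * x * a⁻¹ = x⁻¹ := by
    intro P
    simp [h𝒮]
  have hconjinv : ∀ (g : G) (P : Sylow p G), (∀ x ∈ (P : Subgroup G), a * x * a⁻¹ = x⁻¹) →
      ∀ y ∈ ((g • P : Sylow p G) : Subgroup G), (g * a * g⁻¹) * y * (g * a * g⁻¹)⁻¹ = y⁻¹ := by
    intro g P hP y hy
    rw [mem_smul_sylow] at hy
    have h1 := hP _ hy
    calc (g * a * g⁻¹) * y * (g * a * g⁻¹)⁻¹ = g * (a * (g⁻¹ * y * g) * a⁻¹) * g⁻¹ := by group
      _ = g * (g⁻¹ * y * g)⁻¹ * g⁻¹ := by rw [h1]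
      _ = y⁻¹ := by group
  have htrans : ∀ P ∈ 𝒮, ∃ c ∈ C, c • P₀ = P := by
    intro P hP
    have hPinv := (hinv𝒮 P).1 hP
    have hP₀inv := (hinv𝒮 P₀).1 hP₀
    obtain ⟨g, hg⟩ := MulAction.exists_smul_eq G P₀ P
    have ha'inv : ∀ y ∈ (P : Subgroup G), (g * a * g⁻¹) * y * (g * a * g⁻¹)⁻¹ = y⁻¹ := by
      intro y hy
      rw [← hg] at hy
      exact hconjinv g P₀ hP₀inv y hy
    set L : Subgroup G := Subgroup.normalizer ((P : Subgroup G) : Set G) with hL
    have haL : a ∈ L := mem_normalizer_of_inverts _ hPinv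
    have ha'L : g * a * g⁻¹ ∈ L := mem_normalizer_of_inverts _ ha'inv
    have ha'2 : orderOf (g * a * g⁻¹) = 2 := by
      have := (MulAut.conj g).orderOf_eq a
      rw [MulAut.conj_apply] at this
      rw [this, ha2]
    -- a non-identity element of `P`
    obtain ⟨x, hx, hx1⟩ : ∃ x ∈ (P : Subgroup G), x ≠ 1 := by
      by_contra hcon
      have hbot : (P : Subgroup G) = ⊥ := by
        rw [Subgroup.eq_bot_iff_forall]
        intro x hx
        by_contra hx1
        exact hcon ⟨x, hx, hx1⟩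
      have := hcardP P
      rw [hbot, Subgroup.card_bot] at this
      omega
    obtain ⟨hu2, huN, huL, _⟩ := hax P hP x hx hx1
    have hLtop : L ≠ ⊤ := by
      intro htop
      have hnorm : (P : Subgroup G).Normal := Subgroup.normalizer_eq_top_iff.1 htop
      have hsimple := hG.simple
      rcases hsimple.eq_bot_or_eq_top_of_normal _ hnorm with h | h
      · rw [h, Subgroup.mem_bot] at hx
        exact hx1 hx
      · have haP : a ∈ (P : Subgroup G) := by rw [h]; exact Subgroup.mem_top a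
        have := hoddP P a haP
        rw [ha2] at this
        exact absurd this (by decide)
    have h4 : ¬ 4 ∣ Nat.card ↥L :=
      hD2i a (a * x) ha2 hu2 (hAP a (a * x) ha2 haN huN) L hLtop haL huL
    obtain ⟨h, hhL, hh⟩ := conj_of_involutions_of_not_four_dvd L h4 haL ha'L ha2 ha'2
    refine ⟨h⁻¹ * g, ?_, ?_⟩
    · rw [hCdef, Subgroup.mem_centralizer_singleton_iff]
      have h1 : a = h⁻¹ * (h * a * h⁻¹) * h := by group
      calc h⁻¹ * g * a = h⁻¹ * (g * a * g⁻¹) * g := by group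
        _ = h⁻¹ * (h * a * h⁻¹) * g := by rw [hh]
        _ = a * (h⁻¹ * g) := by group
    · rw [mul_smul, hg]
      exact Sylow.smul_eq_iff_mem_normalizer.2 (Subgroup.inv_mem _ hhL)
  -- Part 5: `|𝒮|` divides `|C(a)|`
  let act : MulAction ↥C (Sylow p G) := MulAction.compHom (Sylow p G) C.subtype
  have hsm : ∀ (c : ↥C) (P : Sylow p G), c • P = (c : G) • P := fun c P => rfl
  have horb : MulAction.orbit ↥C P₀ = (↑𝒮 : Set (Sylow p G)) := by
    ext P
    rw [MulAction.mem_orbit_iff, Finset.mem_coe]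
    constructor
    · rintro ⟨c, rfl⟩
      rw [hsm, hinv𝒮]
      intro y hy
      have h1 := hconjinv (c : G) P₀ ((hinv𝒮 P₀).1 hP₀) y hy
      have hc : (c : G) * a * (c : G)⁻¹ = a := by
        have := Subgroup.mem_centralizer_singleton_iff.1 c.2
        rw [this]; group
      rwa [hc] at h1
    · intro hP
      obtain ⟨c, hc, hcP⟩ := htrans P hP
      exact ⟨⟨c, hc⟩, hcP⟩
  have h1 := MulAction.index_stabilizer ↥C P₀
  rw [horb, Set.ncard_coe_finset] at h1
  have h2 : 𝒮.card ∣ Nat.card ↥C := by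
    rw [← h1]
    exact Subgroup.index_dvd_card _
  have h3 : 𝒮.card ∣ Nat.card ↥CT := by
    rw [← hCa]
    exact h2
  exact dvd_trans hp𝒮 h3

end Cfsg.Agent.Lib.Helper45.S1936
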