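/-
helper45: project S2281 (coordinator helper53), modules S2281-[W], S2281-[Y], S2281-[PURE]
(abstract group theory from the relations of `RootSys`).
-/
import Mathlib
import Cfsg.Agent.Lib.Helper53.SpReg.Basic

set_option autoImplicit false

namespace Cfsg.Agent.Lib.Helper45.SpReg

open Cfsg.Agent.Lib.Helper53.SpReg

/-- commutator pattern 1: `z` central for `a, b, d`; `a` commutes with `b`; `X` commutes with `b` -/
theorem comm_pattern_one {G : Type*} [Group G] (a z b d X : G) (_hza : Commute z a) (hzb : Commute z b)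
    (hzd : Commute z d) (hab : Commute a b) (hXb : Commute X b) (hrel : a * d = X * d * a) :
    X = (a * z) * (b * d) * (a * z)⁻¹ * (b * d)⁻¹ := by
  have e1 : z * b * d * z⁻¹ = b * d := by
    rw [hzb.eq, mul_assoc b, hzd.eq, ← mul_assoc, mul_inv_cancel_right]
  symm
  calc (a * z) * (b * d) * (a * z)⁻¹ * (b * d)⁻¹
      = a * (z * b * d * z⁻¹) * a⁻¹ * d⁻¹ * b⁻¹ := by group
    _ = a * (b * d) * a⁻¹ * d⁻¹ * b⁻¹ := by rw [e1]
    _ = (a * b) * d * a⁻¹ * d⁻¹ * b⁻¹ := by group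
    _ = b * (a * d) * a⁻¹ * d⁻¹ * b⁻¹ := by rw [hab.eq]; group
    _ = b * (X * d * a) * a⁻¹ * d⁻¹ * b⁻¹ := by rw [hrel]
    _ = (b * X) * b⁻¹ := by group
    _ = X := by rw [← hXb.eq]; group

/-- commutator pattern 2: `⁅a z, b w⁆ = ⁅a, b⁆` when `z` commutes with `a, b, w` and `w` with `a, b` -/
theorem comm_pattern_two {G : Type*} [Group G] (a z b w X : G) (_hza : Commute z a) (hzb : Commute z b)
    (hzw : Commute z w) (hwa : Commute w a) (_hwb : Commute w b) (hrel : a * b = X * b * a) :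
    X = (a * z) * (b * w) * (a * z)⁻¹ * (b * w)⁻¹ := by
  have e1 : z * b * w * z⁻¹ = b * w := by
    rw [hzb.eq, mul_assoc b, hzw.eq, ← mul_assoc, mul_inv_cancel_right]
  have e2 : w * a⁻¹ * w⁻¹ = a⁻¹ := by
    have : w * a⁻¹ = a⁻¹ * w := (hwa.inv_right).eq
    rw [this, mul_inv_cancel_right]
  symm
  calc (a * z) * (b * w) * (a * z)⁻¹ * (b * w)⁻¹
      = a * (z * b * w * z⁻¹) * a⁻¹ * w⁻¹ * b⁻¹ := by group
    _ = a * (b * w) * a⁻¹ * w⁻¹ * b⁻¹ := by rw [e1]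
    _ = a * b * (w * a⁻¹ * w⁻¹) * b⁻¹ := by group
    _ = a * b * a⁻¹ * b⁻¹ := by rw [e2]
    _ = X * b * a * a⁻¹ * b⁻¹ := by rw [hrel]
    _ = X := by group

variable {F : Type*} [Field F] {G : Type*} [Group G] {n : ℕ} {R : RootSys F G n} {H : Subgroup G} {c : F}

theorem mem_of_eq_comm {A B X : G} (hA : A ∈ H) (hB : B ∈ H) (hX : X = A * B * A⁻¹ * B⁻¹) : X ∈ H := by
  rw [hX]
  exact H.mul_mem (H.mul_mem (H.mul_mem hA hB) (H.inv_mem hA)) (H.inv_mem hB)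

/-! ### S2281-[W] -/

theorem W0_mem (hn : 2 ≤ n) (h : Gen R H c) :
    R.S n 1 (-(c ^ 2)) * R.T 1 (-(c ^ 3)) ∈ H := by
  have hnZ : (2 : ℤ) ≤ n := by exact_mod_cast hn
  have hD : R.T n c * R.T 1 (-c) ∈ H := h.hD 1 n
  have hE : R.S 1 2 c * R.S 0 1 (-c) ∈ H := by
    have := h.hE 0 1
    norm_num at this
    exact this
  have hrel := R.rel_TSm n 1 (-c) c (by simp) (by omega)
  rw [sub_self] at hrel
  have hX : R.S n 1 (-c * c) * R.T 1 (-((-c) ^ 2 * c)) =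
      (R.T n c * R.T 1 (-c)) * (R.S 1 2 c * R.S 0 1 (-c)) * (R.T n c * R.T 1 (-c))⁻¹ *
        (R.S 1 2 c * R.S 0 1 (-c))⁻¹ := by
    apply comm_pattern_one
    · exact R.TT_comm 1 n _ _ (by rw [abs_lt]; constructor <;> omega)
    · exact R.TS_comm 1 1 2 _ _ (by rw [abs_lt]; constructor <;> omega) (by rw [abs_lt]; constructor <;> omega)
    · exact R.TS_comm 1 0 1 _ _ (by rw [abs_lt]; constructor <;> omega) (by rw [abs_lt]; constructor <;> omega)
    · exact R.TS_comm n 1 2 _ _ (by rw [abs_lt]; constructor <;> omega) (by rw [abs_lt]; constructor <;> omega)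
    · apply Commute.mul_left
      · exact R.SS_comm n 1 1 2 _ _ (by rw [abs_lt]; constructor <;> omega)
          (by rw [abs_lt]; constructor <;> omega) (by rw [abs_lt]; constructor <;> omega)
          (by rw [abs_lt]; constructor <;> omega)
      · exact R.TS_comm 1 1 2 _ _ (by rw [abs_lt]; constructor <;> omega) (by rw [abs_lt]; constructor <;> omega)
    · exact hrel
  have hmem := mem_of_eq_comm hD hE hX
  have e1 : -c * c = -(c ^ 2) := by ring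
  have e2 : -((-c) ^ 2 * c) = -(c ^ 3) := by ring
  rw [e1, e2] at hmem
  exact hmem

theorem W0'_mem (hn : 2 ≤ n) (h : Gen R H c) :
    R.S 1 n (c ^ 2) * R.T n (-(c ^ 3)) ∈ H := by
  have hnZ : (2 : ℤ) ≤ n := by exact_mod_cast hn
  have hD : R.T 1 c * R.T n (-c) ∈ H := h.hD n 1
  have hE : R.S ((n : ℤ) - 1) n c * R.S (1 + (n : ℤ)) n (-c) ∈ H := by
    have := h.hE n ((n : ℤ) - 1)
    rw [sub_add_cancel] at this
    rw [R.S_symm (1 + (n : ℤ)) n, add_comm 1 (n : ℤ)]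
    exact this
  have hrel := R.rel_TSp 1 n (-c) c (by omega) (by omega)
  have hX : R.S 1 n (-(-c * c)) * R.T n (-((-c) ^ 2 * c)) =
      (R.T 1 c * R.T n (-c)) * (R.S ((n : ℤ) - 1) n c * R.S (1 + (n : ℤ)) n (-c)) *
        (R.T 1 c * R.T n (-c))⁻¹ * (R.S ((n : ℤ) - 1) n c * R.S (1 + (n : ℤ)) n (-c))⁻¹ := by
    apply comm_pattern_one
    · exact R.TT_comm n 1 _ _ (by rw [abs_lt]; constructor <;> omega)
    · exact R.TS_comm n ((n : ℤ) - 1) n _ _ (by rw [abs_lt]; constructor <;> omega) (by rw [abs_lt]; constructor <;> omega)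
    · exact R.TS_comm n (1 + (n : ℤ)) n _ _ (by rw [abs_lt]; constructor <;> omega) (by rw [abs_lt]; constructor <;> omega)
    · exact R.TS_comm 1 ((n : ℤ) - 1) n _ _ (by rw [abs_lt]; constructor <;> omega) (by rw [abs_lt]; constructor <;> omega)
    · apply Commute.mul_left
      · exact R.SS_comm 1 n ((n : ℤ) - 1) n _ _ (by rw [abs_lt]; constructor <;> omega)
          (by rw [abs_lt]; constructor <;> omega) (by rw [abs_lt]; constructor <;> omega)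
          (by rw [abs_lt]; constructor <;> omega)
      · exact R.TS_comm n ((n : ℤ) - 1) n _ _ (by rw [abs_lt]; constructor <;> omega) (by rw [abs_lt]; constructor <;> omega)
    · exact hrel
  have hmem := mem_of_eq_comm hD hE hX
  have e1 : -(-c * c) = c ^ 2 := by ring
  have e2 : -((-c) ^ 2 * c) = -(c ^ 3) := by ring
  rw [e1, e2] at hmem
  exact hmem

/-! ### S2281-[Y] -/

theorem Y0_mem (hn : 2 ≤ n) (h : Gen R H c) :
    R.S 0 1 (c ^ 3) * R.T 1 (-(c ^ 5)) ∈ H := by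
  have hnZ : (2 : ℤ) ≤ n := by exact_mod_cast hn
  have hD : R.T 0 c * R.T 1 (-c) ∈ H := h.hD 1 0
  have hW : R.S (0 + (n : ℤ)) 1 (-(c ^ 2)) * R.T 1 (-(c ^ 3)) ∈ H := by
    rw [zero_add]; exact W0_mem hn h
  have hrel := R.rel_TSp 0 1 (-(c ^ 2)) c (by omega) (by omega)
  have hX : R.S 0 1 (-(-(c ^ 2) * c)) * R.T 1 (-((-(c ^ 2)) ^ 2 * c)) =
      (R.T 0 c * R.T 1 (-c)) * (R.S (0 + (n : ℤ)) 1 (-(c ^ 2)) * R.T 1 (-(c ^ 3))) *
        (R.T 0 c * R.T 1 (-c))⁻¹ * (R.S (0 + (n : ℤ)) 1 (-(c ^ 2)) * R.T 1 (-(c ^ 3)))⁻¹ := by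
    apply comm_pattern_two
    · exact R.TT_comm 1 0 _ _ (by rw [abs_lt]; constructor <;> omega)
    · exact R.TS_comm 1 (0 + (n : ℤ)) 1 _ _ (by rw [abs_lt]; constructor <;> omega) (by rw [abs_lt]; constructor <;> omega)
    · exact R.T_self_comm 1 _ _
    · exact R.TT_comm 1 0 _ _ (by rw [abs_lt]; constructor <;> omega)
    · exact R.TS_comm 1 (0 + (n : ℤ)) 1 _ _ (by rw [abs_lt]; constructor <;> omega) (by rw [abs_lt]; constructor <;> omega)
    · exact hrel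
  have hmem := mem_of_eq_comm hD hW hX
  have e1 : -(-(c ^ 2) * c) = c ^ 3 := by ring
  have e2 : -((-(c ^ 2)) ^ 2 * c) = -(c ^ 5) := by ring
  rw [e1, e2] at hmem
  exact hmem

/-! ### S2281-[PURE] -/

/-- step 1: `W' = S 0 (n-1) (-c²) * T (n-1) (-c³) ∈ H` (`n ≥ 3`) -/
theorem Wprime_mem (hn : 3 ≤ n) (h : Gen R H c) :
    R.S 0 ((n : ℤ) - 1) (-(c ^ 2)) * R.T ((n : ℤ) - 1) (-(c ^ 3)) ∈ H := by
  have hnZ : (3 : ℤ) ≤ n := by exact_mod_cast hn
  have hD : R.T 0 c * R.T 1 (-c) ∈ H := h.hD 1 0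
  have hE : R.S (0 + (n : ℤ)) ((n : ℤ) - 1) c * R.S 1 2 (-c) ∈ H := by
    have := h.hE 1 ((n : ℤ) - 1)
    rw [sub_add_cancel] at this
    norm_num at this
    rw [zero_add, R.S_symm (n : ℤ) ((n : ℤ) - 1)]
    exact this
  have hrel := R.rel_TSp 0 ((n : ℤ) - 1) c c (by omega) (by omega)
  have hX : R.S 0 ((n : ℤ) - 1) (-(c * c)) * R.T ((n : ℤ) - 1) (-(c ^ 2 * c)) =
      (R.T 0 c * R.T 1 (-c)) * (R.S (0 + (n : ℤ)) ((n : ℤ) - 1) c * R.S 1 2 (-c)) *
        (R.T 0 c * R.T 1 (-c))⁻¹ * (R.S (0 + (n : ℤ)) ((n : ℤ) - 1) c * R.S 1 2 (-c))⁻¹ := by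
    apply comm_pattern_two
    · exact R.TT_comm 1 0 _ _ (by rw [abs_lt]; constructor <;> omega)
    · exact R.TS_comm 1 (0 + (n : ℤ)) ((n : ℤ) - 1) _ _ (by rw [abs_lt]; constructor <;> omega) (by rw [abs_lt]; constructor <;> omega)
    · exact R.TS_comm 1 1 2 _ _ (by rw [abs_lt]; constructor <;> omega) (by rw [abs_lt]; constructor <;> omega)
    · exact (R.TS_comm 0 1 2 _ _ (by rw [abs_lt]; constructor <;> omega) (by rw [abs_lt]; constructor <;> omega)).symm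
    · exact R.SS_comm 1 2 (0 + (n : ℤ)) ((n : ℤ) - 1) _ _ (by rw [abs_lt]; constructor <;> omega)
        (by rw [abs_lt]; constructor <;> omega) (by rw [abs_lt]; constructor <;> omega)
        (by rw [abs_lt]; constructor <;> omega)
    · exact hrel
  have hmem := mem_of_eq_comm hD hE hX
  have e1 : -(c * c) = -(c ^ 2) := by ring
  have e2 : -(c ^ 2 * c) = -(c ^ 3) := by ring
  rw [e1, e2] at hmem
  exact hmem

theorem pure_mem (hn : 3 ≤ n) (h : Gen R H c) :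
    R.S 1 ((n : ℤ) - 1) (c ^ 4) ∈ H := by
  have hnZ : (3 : ℤ) ≤ n := by exact_mod_cast hn
  have hW0 : R.S 1 n (-(c ^ 2)) * R.T 1 (-(c ^ 3)) ∈ H := by
    rw [R.S_symm 1 n]; exact W0_mem (by omega) h
  have hW' : R.S ((n : ℤ) - (n : ℤ)) ((n : ℤ) - 1) (-(c ^ 2)) * R.T ((n : ℤ) - 1) (-(c ^ 3)) ∈ H := by
    rw [sub_self]; exact Wprime_mem hn h
  have hrel := R.rel_SS 1 n ((n : ℤ) - 1) (-(c ^ 2)) (-(c ^ 2)) (by omega) (by omega) (by omega)
    (by omega) (by omega)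
  have hX : R.S 1 ((n : ℤ) - 1) (-(c ^ 2) * -(c ^ 2)) =
      (R.S 1 n (-(c ^ 2)) * R.T 1 (-(c ^ 3))) *
        (R.S ((n : ℤ) - (n : ℤ)) ((n : ℤ) - 1) (-(c ^ 2)) * R.T ((n : ℤ) - 1) (-(c ^ 3))) *
        (R.S 1 n (-(c ^ 2)) * R.T 1 (-(c ^ 3)))⁻¹ *
        (R.S ((n : ℤ) - (n : ℤ)) ((n : ℤ) - 1) (-(c ^ 2)) * R.T ((n : ℤ) - 1) (-(c ^ 3)))⁻¹ := by
    apply comm_pattern_two
    · exact R.TS_comm 1 1 n _ _ (by rw [abs_lt]; constructor <;> omega) (by rw [abs_lt]; constructor <;> omega)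
    · exact R.TS_comm 1 ((n : ℤ) - (n : ℤ)) ((n : ℤ) - 1) _ _ (by rw [abs_lt]; constructor <;> omega) (by rw [abs_lt]; constructor <;> omega)
    · exact R.TT_comm 1 ((n : ℤ) - 1) _ _ (by rw [abs_lt]; constructor <;> omega)
    · exact R.TS_comm ((n : ℤ) - 1) 1 n _ _ (by rw [abs_lt]; constructor <;> omega) (by rw [abs_lt]; constructor <;> omega)
    · exact R.TS_comm ((n : ℤ) - 1) ((n : ℤ) - (n : ℤ)) ((n : ℤ) - 1) _ _ (by rw [abs_lt]; constructor <;> omega) (by rw [abs_lt]; constructor <;> omega)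
    · exact hrel
  have hmem := mem_of_eq_comm hW0 hW' hX
  have e1 : -(c ^ 2) * -(c ^ 2) = c ^ 4 := by ring
  rw [e1] at hmem
  exact hmem

end Cfsg.Agent.Lib.Helper45.SpReg
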