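import Cfsg.Agent.Lib.Helper85.Suz2Defs

/-!
# SUZ2-[L] (helper45, sheet of helper85): no `lam`-equivariant alternating biadditive form `F × F → F`

`alt_form_zero_of` is the statement with the two field facts [NTF-THREE], [NTF-SQ] as hypotheses.
-/

set_option autoImplicit false
set_option linter.unusedSectionVars false

namespace Cfsg.Agent.Lib.Helper45.Suz2

open Cfsg.Agent.Lib.Helper19.Suz Cfsg.Agent.Lib.Helper85.Suz2

variable {F : Type*} [Field F] [Fintype F]

/-- expansion of a biadditive map in the basis `(x, y) ↦ σ x * τ y` -/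
theorem exists_dbl_coef [CharP F 2] (B : F → F → F)
    (hadd1 : ∀ x x' y, B (x + x') y = B x y + B x' y)
    (hadd2 : ∀ x y y', B x (y + y') = B x y + B x y') :
    ∃ d : (F ≃+* F) × (F ≃+* F) → F,
      ∀ x y : F, B x y = ∑ p : (F ≃+* F) × (F ≃+* F), d p * (p.1 x * p.2 y) := by
  classical
  let B' : F →+ F →+ F :=
    AddMonoidHom.mk' (fun x => AddMonoidHom.mk' (fun y => B x y) (hadd2 x))
      (by intro x x'; ext y; exact hadd1 x x' y)
  obtain ⟨s, c, hc⟩ := (Cfsg.Agent.S1140.result (F := F)).2.2 B'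
  refine ⟨fun p => if p ∈ s then c p else 0, ?_⟩
  intro x y
  have h1 : B x y = ∑ p ∈ s, c p * (p.1 x * p.2 y) := hc x y
  rw [h1]
  rw [← Finset.sum_subset (Finset.subset_univ s)]
  · exact Finset.sum_congr rfl (fun p hp => by simp only [if_pos hp])
  · intro p _ hp
    simp only [if_neg hp, zero_mul]

/-- [L] with [NTF-THREE], [NTF-SQ] as hypotheses -/
theorem alt_form_zero_of [CharP F 2] {lam : F}
    (h3 : ∀ σ τ : F ≃+* F, σ ≠ τ → σ lam * τ lam ≠ lam)
    (hsq : ∀ σ : F ≃+* F, σ lam * σ lam = lam → ∀ x : F, σ x * σ x = x)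
    (B : F → F → F)
    (hadd1 : ∀ x x' y, B (x + x') y = B x y + B x' y)
    (hadd2 : ∀ x y y', B x (y + y') = B x y + B x y')
    (halt : ∀ x, B x x = 0)
    (hlam : ∀ x y, B (lam * x) (lam * y) = lam * B x y) : ∀ x y, B x y = 0 := by
  classical
  obtain ⟨d, hd⟩ := exists_dbl_coef B hadd1 hadd2
  -- equivariance kills most coefficients
  have hkill : ∀ p : (F ≃+* F) × (F ≃+* F), d p * (p.1 lam * p.2 lam - lam) = 0 := by
    apply dbl_indep
    intro x y
    have h := hlam x y
    rw [hd, hd, Finset.mul_sum] at h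
    rw [← sub_eq_zero, ← Finset.sum_sub_distrib] at h
    rw [← h]
    refine Finset.sum_congr rfl (fun p _ => ?_)
    rw [map_mul, map_mul]
    ring
  have hd0 : ∀ p : (F ≃+* F) × (F ≃+* F), d p ≠ 0 → p.1 = p.2 ∧ p.1 lam * p.1 lam = lam := by
    intro p hp
    have h := (mul_eq_zero.mp (hkill p)).resolve_left hp
    have h' : p.1 lam * p.2 lam = lam := sub_eq_zero.mp h
    by_cases he : p.1 = p.2
    · refine ⟨he, ?_⟩
      rw [← he] at h'
      exact h'
    · exact absurd h' (h3 p.1 p.2 he)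
  -- uniqueness of a square-root automorphism
  have huniq : ∀ σ σ' : F ≃+* F, σ lam * σ lam = lam → σ' lam * σ' lam = lam → σ = σ' := by
    intro σ σ' h h'
    ext x
    have e1 := hsq σ h x
    have e2 := hsq σ' h' x
    have e3 : (σ x + σ' x) * (σ x + σ' x) = 0 := by
      have : (σ x + σ' x) * (σ x + σ' x) = σ x * σ x + σ' x * σ' x + 2 * (σ x * σ' x) := by ring
      rw [this, e1, e2, CharTwo.two_eq_zero, zero_mul, add_zero, CharTwo.add_self_eq_zero]
    have e4 : σ x + σ' x = 0 := mul_self_eq_zero.mp e3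
    calc σ x = -σ' x := eq_neg_of_add_eq_zero_left e4
      _ = σ' x := CharTwo.neg_eq _
  intro x y
  by_cases hex : ∃ σ₀ : F ≃+* F, σ₀ lam * σ₀ lam = lam
  · obtain ⟨σ₀, hσ₀⟩ := hex
    have hsupp : ∀ p : (F ≃+* F) × (F ≃+* F), p ≠ (σ₀, σ₀) → d p = 0 := by
      intro p hp
      by_contra hne
      obtain ⟨he, hl⟩ := hd0 p hne
      have h1 : p.1 = σ₀ := huniq _ _ hl hσ₀
      apply hp
      ext1
      · exact h1
      · rw [← he]; exact h1
    have hB : ∀ x y : F, B x y = d (σ₀, σ₀) * (σ₀ x * σ₀ y) := by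
      intro x y
      rw [hd]
      refine Finset.sum_eq_single (σ₀, σ₀) ?_ ?_
      · intro p _ hp
        rw [hsupp p hp, zero_mul]
      · intro h
        exact absurd (Finset.mem_univ _) h
    have hd1 : d (σ₀, σ₀) = 0 := by
      have h := halt 1
      rw [hB, map_one, mul_one, mul_one] at h
      exact h
    rw [hB, hd1, zero_mul]
  · have hall : ∀ p : (F ≃+* F) × (F ≃+* F), d p = 0 := by
      intro p
      by_contra hne
      exact hex ⟨p.1, (hd0 p hne).2⟩
    rw [hd]
    exact Finset.sum_eq_zero (fun p _ => by rw [hall p, zero_mul])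

end Cfsg.Agent.Lib.Helper45.Suz2
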