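import Cfsg.Agent.Lib.Helper45.Suz2AltForm
import Cfsg.Agent.Lib.Helper76.Suz2NTF

/-!
# SUZ2-[L] (helper45): `alt_form_zero` modulo the arithmetic statements [NT-ORD], [NT-THREE]
(in helper76's hypothesis form `NtOrd`, `NtThree`).
-/

set_option autoImplicit false

namespace Cfsg.Agent.Lib.Helper45.Suz2

open Cfsg.Agent.Lib.Helper19.Suz Cfsg.Agent.Lib.Helper85.Suz2 Cfsg.Agent.Lib.Helper76.Suz2

variable {F : Type*} [Field F] [Fintype F] {lam : F} {n e : ℕ}

/-- [L] modulo [NT-ORD], [NT-THREE] -/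
theorem alt_form_zero_of_nt (hord : NtOrd) (hthree : NtThree) (L : LamArith F lam n e)
    (B : F → F → F)
    (hadd1 : ∀ x x' y, B (x + x') y = B x y + B x' y)
    (hadd2 : ∀ x y y', B x (y + y') = B x y + B x y')
    (halt : ∀ x, B x x = 0)
    (hlam : ∀ x y, B (lam * x) (lam * y) = lam * B x y) : ∀ x y, B x y = 0 := by
  haveI := L.char2
  exact alt_form_zero_of (fun σ τ hne => Cfsg.Agent.Lib.Helper76.Suz2.LamArith.three_of hthree L σ τ hne)
    (fun σ h => Cfsg.Agent.Lib.Helper76.Suz2.LamArith.sq_fix_of hord L σ h) B hadd1 hadd2 halt hlam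

end Cfsg.Agent.Lib.Helper45.Suz2
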