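/-
helper45: project SZCH (S4775, coordinator helper6): the arithmetic core of SZCH-[B-TABLE]
(steps (3)-(5) of the sketch in SZCH_MODULES.md), as an abstract lemma on a finite index set.

`I` = the irreducible characters `ξ` of `B` that are not characters of `B/Q`;
`ξ(1) = n0 + e (q - 1)`, `ξ(t) = n0 - e` (`t ∈ Z \ 1`), `v = ξ(x)` for a fixed `x ∈ Q \ Z`.
-/
import Mathlib

set_option autoImplicit false

namespace Cfsg.Agent.Lib.Helper45.SzCh

open scoped ComplexConjugate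

/-- `x² + y² = 2^(2m+1)` with `x, y > 0` forces `x = y = 2^m` (2-adic descent) -/
theorem sq_add_sq_eq_two_pow (m : ℕ) : ∀ x y : ℕ, 0 < x → 0 < y → x ^ 2 + y ^ 2 = 2 ^ (2 * m + 1) →
    x = 2 ^ m ∧ y = 2 ^ m := by
  induction m with
  | zero =>
    intro x y hx hy h
    simp only [Nat.mul_zero, Nat.zero_add, pow_one, pow_zero] at h ⊢
    have hx2 : x ≤ 1 := by nlinarith
    have hy2 : y ≤ 1 := by nlinarith
    omega
  | succ m ih =>
    intro x y hx hy h
    have h4 : (x ^ 2 + y ^ 2) % 4 = 0 := by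
      rw [h]
      have : 2 ^ (2 * (m + 1) + 1) = 4 * 2 ^ (2 * m + 1) := by ring
      rw [this]; simp
    have hxe : x % 2 = 0 := by
      by_contra hx1
      have hx1' : x % 2 = 1 := by omega
      have : x ^ 2 % 4 = 1 := by
        have : x % 4 = 1 ∨ x % 4 = 3 := by omega
        rcases this with h1 | h1 <;> simp [Nat.pow_mod, h1]
      have hy4 : y ^ 2 % 4 = 0 ∨ y ^ 2 % 4 = 1 := by
        have : y % 4 = 0 ∨ y % 4 = 1 ∨ y % 4 = 2 ∨ y % 4 = 3 := by omega
        rcases this with h1 | h1 | h1 | h1 <;> simp [Nat.pow_mod, h1]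
      omega
    have hye : y % 2 = 0 := by
      by_contra hy1
      have : y ^ 2 % 4 = 1 := by
        have : y % 4 = 1 ∨ y % 4 = 3 := by omega
        rcases this with h1 | h1 <;> simp [Nat.pow_mod, h1]
      have hx4 : x ^ 2 % 4 = 0 := by
        have : x % 4 = 0 ∨ x % 4 = 2 := by omega
        rcases this with h1 | h1 <;> simp [Nat.pow_mod, h1]
      omega
    obtain ⟨x', rfl⟩ : ∃ x', x = 2 * x' := ⟨x / 2, by omega⟩
    obtain ⟨y', rfl⟩ : ∃ y', y = 2 * y' := ⟨y / 2, by omega⟩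
    have h' : x' ^ 2 + y' ^ 2 = 2 ^ (2 * m + 1) := by
      have e1 : (2 * x') ^ 2 + (2 * y') ^ 2 = 4 * (x' ^ 2 + y' ^ 2) := by ring
      have e2 : 2 ^ (2 * (m + 1) + 1) = 4 * 2 ^ (2 * m + 1) := by ring
      rw [e1, e2] at h
      omega
    obtain ⟨hx', hy'⟩ := ih x' y' (by omega) (by omega) h'
    rw [hx', hy']
    constructor <;> ring

/-- `2^(2m+1)` is not a square -/
theorem two_pow_odd_ne_sq (m : ℕ) (x : ℕ) : x ^ 2 ≠ 2 ^ (2 * m + 1) := by
  intro h
  have hx : x ≠ 0 := by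
    rintro rfl
    have : (0:ℕ) < 2 ^ (2 * m + 1) := by positivity
    simp at h
    omega
  have h1 : padicValNat 2 (x ^ 2) = 2 * padicValNat 2 x := padicValNat.pow x 2
  have h2 : padicValNat 2 (2 ^ (2 * m + 1)) = 2 * m + 1 := padicValNat.prime_pow (2 * m + 1)
  rw [h] at h1
  omega

theorem btab_arith (m : ℕ) (hm : 1 ≤ m) (q h : ℕ) (hq : q = 2 ^ (2 * m + 1)) (hh : h = 2 ^ m)
    {I : Type*} [Fintype I] [DecidableEq I] (n0 e : I → ℕ) (v : I → ℂ)
    (hrow1 : ∀ i, ((q : ℝ) - 1) * (v i).re = -(n0 i : ℝ))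
    (hrow2 : ∀ i, ((q : ℝ) - 1) * Complex.normSq (v i) =
      ((q : ℝ) - 1) * ((q : ℝ) - (e i : ℝ) ^ 2) - (n0 i : ℝ) ^ 2)
    (c1 : ∑ i, ((n0 i : ℤ) + e i * ((q : ℤ) - 1)) ^ 2 = ((q : ℤ) - 1) ^ 2 * ((q : ℤ) + 1))
    (c2 : ∑ i, ((n0 i : ℤ) - e i) ^ 2 = (q : ℤ) ^ 2 - q + 1)
    (c3 : ∑ i, ((n0 i : ℤ) + e i * ((q : ℤ) - 1)) * ((n0 i : ℤ) - e i) = -((q : ℤ) - 1))
    (c4 : ∑ i, Complex.normSq (v i) = (q : ℝ) + 1)
    (c5 : ∑ i, ((n0 i : ℂ) + e i * ((q : ℂ) - 1)) * conj (v i) = -((q : ℂ) - 1)) :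
    ∃ a b c : I, a ≠ b ∧ a ≠ c ∧ b ≠ c ∧ (∀ i, i = a ∨ i = b ∨ i = c) ∧
      n0 a = q - 1 ∧ e a = 0 ∧ v a = -1 ∧ n0 b = 0 ∧ e b = h ∧ n0 c = 0 ∧ e c = h ∧
      v b ^ 2 = -((h : ℂ) ^ 2) ∧ v c = -v b := by
  have hq8 : 8 ≤ q := by
    rw [hq]
    calc 8 = 2 ^ 3 := by norm_num
      _ ≤ 2 ^ (2 * m + 1) := Nat.pow_le_pow_right (by norm_num) (by omega)
  have hqh : q = 2 * h ^ 2 := by rw [hq, hh]; ring
  have hqZ : (8 : ℤ) ≤ q := by exact_mod_cast hq8
  -- step (3): the three sums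
  have sE : ∑ i, ((e i : ℤ)) ^ 2 = q := by
    have h1 : ∑ i, ((q : ℤ) * e i) ^ 2 =
        ∑ i, ((n0 i : ℤ) + e i * ((q : ℤ) - 1)) ^ 2
          - 2 * ∑ i, ((n0 i : ℤ) + e i * ((q : ℤ) - 1)) * ((n0 i : ℤ) - e i)
          + ∑ i, ((n0 i : ℤ) - e i) ^ 2 := by
      rw [Finset.mul_sum, ← Finset.sum_sub_distrib, ← Finset.sum_add_distrib]
      apply Finset.sum_congr rfl
      intro i _; ring
    rw [c1, c2, c3] at h1
    have h2 : ∑ i, ((q : ℤ) * e i) ^ 2 = (q : ℤ) ^ 2 * ∑ i, ((e i : ℤ)) ^ 2 := by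
      rw [Finset.mul_sum]; apply Finset.sum_congr rfl; intro i _; ring
    rw [h2] at h1
    have h3 : (q : ℤ) ^ 2 * ∑ i, ((e i : ℤ)) ^ 2 = (q : ℤ) ^ 2 * q := by rw [h1]; ring
    have hq2 : (q : ℤ) ^ 2 ≠ 0 := by positivity
    exact mul_left_cancel₀ hq2 h3
  have sN : ∑ i, ((n0 i : ℤ)) ^ 2 = ((q : ℤ) - 1) ^ 2 := by
    have h1 : ∑ i, ((q : ℤ) * n0 i) ^ 2 =
        ∑ i, ((n0 i : ℤ) + e i * ((q : ℤ) - 1)) ^ 2
          + 2 * ((q : ℤ) - 1) * ∑ i, ((n0 i : ℤ) + e i * ((q : ℤ) - 1)) * ((n0 i : ℤ) - e i)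
          + ((q : ℤ) - 1) ^ 2 * ∑ i, ((n0 i : ℤ) - e i) ^ 2 := by
      rw [Finset.mul_sum, Finset.mul_sum, ← Finset.sum_add_distrib, ← Finset.sum_add_distrib]
      apply Finset.sum_congr rfl
      intro i _; ring
    rw [c1, c2, c3] at h1
    have h2 : ∑ i, ((q : ℤ) * n0 i) ^ 2 = (q : ℤ) ^ 2 * ∑ i, ((n0 i : ℤ)) ^ 2 := by
      rw [Finset.mul_sum]; apply Finset.sum_congr rfl; intro i _; ring
    rw [h2] at h1
    have h3 : (q : ℤ) ^ 2 * ∑ i, ((n0 i : ℤ)) ^ 2 = (q : ℤ) ^ 2 * ((q : ℤ) - 1) ^ 2 := by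
      rw [h1]; ring
    have hq2 : (q : ℤ) ^ 2 ≠ 0 := by positivity
    exact mul_left_cancel₀ hq2 h3
  have sNE : ∑ i, (n0 i : ℤ) * (e i : ℤ) = 0 := by
    have h1 : ∑ i, ((n0 i : ℤ) + e i * ((q : ℤ) - 1)) * ((n0 i : ℤ) - e i) =
        ∑ i, ((n0 i : ℤ)) ^ 2 + ((q : ℤ) - 2) * ∑ i, (n0 i : ℤ) * (e i : ℤ)
          - ((q : ℤ) - 1) * ∑ i, ((e i : ℤ)) ^ 2 := by
      rw [Finset.mul_sum, Finset.mul_sum, ← Finset.sum_add_distrib, ← Finset.sum_sub_distrib]
      apply Finset.sum_congr rfl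
      intro i _; ring
    rw [c3, sN, sE] at h1
    have h2 : ((q : ℤ) - 2) * ∑ i, (n0 i : ℤ) * (e i : ℤ) = 0 := by linear_combination -h1
    rcases mul_eq_zero.mp h2 with h3 | h3
    · omega
    · exact h3
  have hNE : ∀ i, n0 i * e i = 0 := by
    intro i
    have := (Finset.sum_eq_zero_iff_of_nonneg (fun i _ => by positivity)).mp sNE i (Finset.mem_univ i)
    exact_mod_cast this
  -- step (4): three characters
  have hcard : Fintype.card I = 3 := by
    have h1 : ∑ i, ((q : ℝ) - 1) * Complex.normSq (v i) =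
        ∑ i, (((q : ℝ) - 1) * ((q : ℝ) - (e i : ℝ) ^ 2) - (n0 i : ℝ) ^ 2) :=
      Finset.sum_congr rfl (fun i _ => hrow2 i)
    rw [← Finset.mul_sum, c4, Finset.sum_sub_distrib, ← Finset.mul_sum, Finset.sum_sub_distrib,
      Finset.sum_const, Finset.card_univ, nsmul_eq_mul] at h1
    have sE' : ∑ i, ((e i : ℝ)) ^ 2 = q := by exact_mod_cast sE
    have sN' : ∑ i, ((n0 i : ℝ)) ^ 2 = ((q : ℝ) - 1) ^ 2 := by exact_mod_cast sN
    rw [sE', sN'] at h1
    have hq1 : ((q : ℝ) - 1) ≠ 0 := by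
      have : (8 : ℝ) ≤ q := by exact_mod_cast hq8
      linarith
    have hq0 : (q : ℝ) ≠ 0 := by
      have : (8 : ℝ) ≤ q := by exact_mod_cast hq8
      linarith
    have h2 : ((q : ℝ) - 1) * ((q : ℝ) * (Fintype.card I : ℝ)) = ((q : ℝ) - 1) * ((q : ℝ) * 3) := by
      linear_combination -h1
    have h3 := mul_left_cancel₀ hq0 (mul_left_cancel₀ hq1 h2)
    exact_mod_cast h3
  -- split by `e = 0`
  set J : Finset I := Finset.univ.filter (fun i => e i = 0) with hJ
  set Jc : Finset I := Finset.univ.filter (fun i => ¬ e i = 0) with hJc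
  have hJJc : J.card + Jc.card = 3 := by
    rw [hJ, hJc, Finset.card_filter_add_card_filter_not (s := Finset.univ) (p := fun i => e i = 0), Finset.card_univ, hcard]
  have hn0J : ∀ i ∈ Jc, n0 i = 0 := by
    intro i hi
    have hi' : ¬ e i = 0 := (Finset.mem_filter.mp hi).2
    rcases Nat.mul_eq_zero.mp (hNE i) with h1 | h1
    · exact h1
    · exact absurd h1 hi'
  have sEc : ∑ i ∈ Jc, (e i) ^ 2 = q := by
    have h1 : ∑ i, (e i) ^ 2 = q := by exact_mod_cast sE
    rw [← h1, hJc, Finset.sum_filter]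
    apply Finset.sum_congr rfl
    intro i _
    by_cases hi : e i = 0
    · simp [hi]
    · simp [hi]
  have sNJ : ∑ i ∈ J, (n0 i) ^ 2 = (q - 1) ^ 2 := by
    have h1 : ∑ i, (n0 i) ^ 2 = (q - 1) ^ 2 := by
      have : ((∑ i, (n0 i) ^ 2 : ℕ) : ℤ) = (((q - 1) ^ 2 : ℕ) : ℤ) := by
        push_cast [Nat.cast_sub (by omega : 1 ≤ q)]
        exact sN
      exact_mod_cast this
    rw [← h1, hJ, Finset.sum_filter]
    apply Finset.sum_congr rfl
    intro i _
    by_cases hi : e i = 0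
    · simp [hi]
    · have : n0 i = 0 := hn0J i (Finset.mem_filter.mpr ⟨Finset.mem_univ i, hi⟩)
      simp [hi, this]
  have hJc2 : Jc.card = 2 := by
    have hle : Jc.card ≤ 3 := by omega
    interval_cases hc : Jc.card
    · -- empty
      rw [Finset.card_eq_zero] at hc
      rw [hc] at sEc
      simp at sEc
      omega
    · obtain ⟨c, hc'⟩ := Finset.card_eq_one.mp hc
      rw [hc'] at sEc
      simp at sEc
      exact absurd (hq ▸ sEc) (two_pow_odd_ne_sq m (e c))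
    · rfl
    · have hJ0 : J.card = 0 := by omega
      rw [Finset.card_eq_zero] at hJ0
      rw [hJ0] at sNJ
      simp at sNJ
      have : 0 < (q - 1) ^ 2 := by
        have : 0 < q - 1 := by omega
        positivity
      omega
  have hJ1 : J.card = 1 := by omega
  obtain ⟨a, ha⟩ := Finset.card_eq_one.mp hJ1
  obtain ⟨b, c, hbc, hbc'⟩ := Finset.card_eq_two.mp hJc2
  have haJ : a ∈ J := by rw [ha]; exact Finset.mem_singleton_self a
  have hbJ : b ∈ Jc := by rw [hbc']; simp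
  have hcJ : c ∈ Jc := by rw [hbc']; simp
  have hea : e a = 0 := (Finset.mem_filter.mp haJ).2
  have heb : ¬ e b = 0 := (Finset.mem_filter.mp hbJ).2
  have hec : ¬ e c = 0 := (Finset.mem_filter.mp hcJ).2
  have hab : a ≠ b := by rintro rfl; exact heb hea
  have hac : a ≠ c := by rintro rfl; exact hec hea
  have hall : ∀ i, i = a ∨ i = b ∨ i = c := by
    intro i
    by_cases hi : e i = 0
    · left
      have : i ∈ J := Finset.mem_filter.mpr ⟨Finset.mem_univ i, hi⟩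
      rw [ha] at this
      exact Finset.mem_singleton.mp this
    · right
      have : i ∈ Jc := Finset.mem_filter.mpr ⟨Finset.mem_univ i, hi⟩
      rw [hbc'] at this
      simpa using this
  have hn0b : n0 b = 0 := hn0J b hbJ
  have hn0c : n0 c = 0 := hn0J c hcJ
  have hn0a : n0 a = q - 1 := by
    rw [ha] at sNJ
    simp at sNJ
    exact sNJ
  have hebc : e b = 2 ^ m ∧ e c = 2 ^ m := by
    rw [hbc', Finset.sum_pair hbc] at sEc
    exact sq_add_sq_eq_two_pow m (e b) (e c) (by omega) (by omega) (hq ▸ sEc)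
  have heb' : e b = h := by rw [hh]; exact hebc.1
  have hec' : e c = h := by rw [hh]; exact hebc.2
  have hq1 : ((q : ℝ) - 1) ≠ 0 := by
    have : (8 : ℝ) ≤ q := by exact_mod_cast hq8
    linarith
  -- values
  have hva : v a = -1 := by
    have h1 := hrow1 a
    have h2 := hrow2 a
    rw [hn0a] at h1 h2
    rw [hea] at h2
    have hcast : ((q - 1 : ℕ) : ℝ) = (q : ℝ) - 1 := by
      rw [Nat.cast_sub (by omega : 1 ≤ q)]; simp
    rw [hcast] at h1 h2
    have hre : (v a).re = -1 := by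
      have : ((q : ℝ) - 1) * (v a).re = ((q : ℝ) - 1) * (-1) := by rw [h1]; ring
      exact mul_left_cancel₀ hq1 this
    have hns : Complex.normSq (v a) = 1 := by
      have : ((q : ℝ) - 1) * Complex.normSq (v a) = ((q : ℝ) - 1) * 1 := by
        rw [h2]; push_cast; ring
      exact mul_left_cancel₀ hq1 this
    have him : (v a).im = 0 := by
      rw [Complex.normSq_apply, hre] at hns
      have : (v a).im * (v a).im = 0 := by linarith
      exact mul_self_eq_zero.mp this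
    apply Complex.ext
    · simp [hre]
    · simp [him]
  have hvsq : ∀ i, n0 i = 0 → e i = h → (v i).re = 0 ∧ (v i).im * (v i).im = (h : ℝ) ^ 2 := by
    intro i hi0 hih
    have h1 := hrow1 i
    have h2 := hrow2 i
    rw [hi0] at h1 h2
    rw [hih] at h2
    have hre : (v i).re = 0 := by
      have : ((q : ℝ) - 1) * (v i).re = ((q : ℝ) - 1) * 0 := by rw [h1]; simp
      exact mul_left_cancel₀ hq1 this
    have hns : Complex.normSq (v i) = (h : ℝ) ^ 2 := by
      have hqh' : (q : ℝ) = 2 * (h : ℝ) ^ 2 := by exact_mod_cast hqh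
      have : ((q : ℝ) - 1) * Complex.normSq (v i) = ((q : ℝ) - 1) * (h : ℝ) ^ 2 := by
        rw [h2]; push_cast; rw [hqh']; ring
      exact mul_left_cancel₀ hq1 this
    rw [Complex.normSq_apply, hre] at hns
    refine ⟨hre, by linarith⟩
  have hvb := hvsq b hn0b heb'
  have hvc := hvsq c hn0c hec'
  have hvb2 : v b ^ 2 = -((h : ℂ) ^ 2) := by
    apply Complex.ext
    · rw [sq, Complex.mul_re, hvb.1, hvb.2]
      simp [← Complex.ofReal_natCast, ← Complex.ofReal_pow]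
    · rw [sq, Complex.mul_im, hvb.1]
      simp [← Complex.ofReal_natCast, ← Complex.ofReal_pow]
  have hvcb : v c = -v b := by
    have huniv : (Finset.univ : Finset I) = {a, b, c} := by
      ext i
      simp only [Finset.mem_univ, Finset.mem_insert, Finset.mem_singleton, true_iff]
      exact hall i
    rw [huniv, Finset.sum_insert (by simp [hab, hac]), Finset.sum_pair hbc] at c5
    rw [hn0a, hea, hn0b, hn0c, heb', hec', hva] at c5
    have hcast : ((q - 1 : ℕ) : ℂ) = (q : ℂ) - 1 := by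
      rw [Nat.cast_sub (by omega : 1 ≤ q)]; simp
    rw [hcast] at c5
    simp only [Nat.cast_zero, zero_mul, add_zero, zero_add, map_neg, map_one] at c5
    have hq1C : ((q : ℂ) - 1) ≠ 0 := by
      have : (q : ℂ) ≠ 1 := by
        have : q ≠ 1 := by omega
        exact_mod_cast this
      exact sub_ne_zero.mpr this
    have hhC : (h : ℂ) ≠ 0 := by
      have : h ≠ 0 := by rw [hh]; positivity
      exact_mod_cast this
    have h1 : (h : ℂ) * ((q : ℂ) - 1) * (conj (v b) + conj (v c)) = 0 := by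
      linear_combination c5
    have h2 : conj (v b) + conj (v c) = 0 := by
      rcases mul_eq_zero.mp h1 with h3 | h3
      · exact absurd h3 (mul_ne_zero hhC hq1C)
      · exact h3
    have h3 : conj (v c) = conj (-v b) := by
      rw [map_neg]; linear_combination h2
    exact (starRingEnd ℂ).injective h3
  exact ⟨a, b, c, hab, hac, hbc, hall, hn0a, hea, hva, hn0b, heb', hn0c, hec', hvb2, hvcb⟩

end Cfsg.Agent.Lib.Helper45.SzCh
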