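import Mathlib
import Cfsg.Agent.Lib.Helper90.TIInvDefs
import Cfsg.Agent.Lib.Helper90.TIInvSmall

/-!
# S3043 module [F10] (helper45): `|C_G(z) : H| = 2`, or `H = ⟨z⟩` and `C_G(z)` is elementary abelian
-/

set_option autoImplicit false

namespace Cfsg.Agent.Lib.Helper45.TIInv

open Cfsg.Agent.Lib.Helper90.TIInv Cfsg.Agent.Lib.Helper90.TIInvSmall

variable {G : Type*} [Group G] [Finite G] {M : Subgroup G} {z : G}

/-- if `C ∖ N` is a single coset of `H` then `|C| = 2|H|` -/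
theorem card_Cz_of_single_coset {c₀ : G} (hc₀ : c₀ ∈ Cz z) (hc₀N : c₀ ∉ Nm M)
    (hsingle : ∀ c ∈ Cz z, c ∉ Nm M → c₀⁻¹ * c ∈ Nm M) :
    Nat.card (Cz z) = 2 * Nat.card (Hz M z) := by
  have hHC : Hz M z ≤ Cz z := inf_le_right
  have hHN : Hz M z ≤ Nm M := inf_le_left
  have hmem : ∀ p : Bool × Hz M z, (if p.1 then c₀ * (p.2 : G) else (p.2 : G)) ∈ Cz z := by
    rintro ⟨_ | _, k⟩
    · exact hHC k.2
    · exact (Cz z).mul_mem hc₀ (hHC k.2)
  have hbij : Function.Bijective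
      (fun p : Bool × Hz M z => (⟨if p.1 then c₀ * (p.2 : G) else (p.2 : G), hmem p⟩ : Cz z)) := by
    constructor
    · rintro ⟨b₁, k₁⟩ ⟨b₂, k₂⟩ heq
      have h1 : (if b₁ then c₀ * (k₁ : G) else (k₁ : G)) = (if b₂ then c₀ * (k₂ : G) else (k₂ : G)) :=
        congrArg Subtype.val heq
      cases b₁ <;> cases b₂
      · simp only [Bool.false_eq_true, if_false] at h1
        exact Prod.ext rfl (Subtype.ext h1)
      · exfalso
        simp only [Bool.false_eq_true, if_false, if_true] at h1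
        apply hc₀N
        have : c₀ = (k₁ : G) * (k₂ : G)⁻¹ := by rw [h1]; group
        rw [this]
        exact (Nm M).mul_mem (hHN k₁.2) ((Nm M).inv_mem (hHN k₂.2))
      · exfalso
        simp only [Bool.false_eq_true, if_false, if_true] at h1
        apply hc₀N
        have : c₀ = (k₂ : G) * (k₁ : G)⁻¹ := by rw [← h1]; group
        rw [this]
        exact (Nm M).mul_mem (hHN k₂.2) ((Nm M).inv_mem (hHN k₁.2))
      · simp only [if_true] at h1
        exact Prod.ext rfl (Subtype.ext (mul_left_cancel h1))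
    · rintro ⟨x, hx⟩
      by_cases hxN : x ∈ Nm M
      · exact ⟨(false, ⟨x, hxN, hx⟩), Subtype.ext (by simp)⟩
      · refine ⟨(true, ⟨c₀⁻¹ * x, hsingle x hx hxN, (Cz z).mul_mem ((Cz z).inv_mem hc₀) hx⟩), ?_⟩
        apply Subtype.ext
        show (if true = true then c₀ * (c₀⁻¹ * x) else c₀⁻¹ * x) = x
        rw [if_pos rfl]
        group
  rw [← Nat.card_congr (Equiv.ofBijective _ hbij), Nat.card_prod]
  simp

/-- MODULE [F10] -/
theorem caseAB (h : Hyp M z) (b : Basic M z) (i : InvN M z) (cz : CzFacts M z) :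
    CaseA M z ∨ ∃ e : ℕ, CaseB M z e := by
  have hHC : Hz M z ≤ Cz z := inf_le_right
  have hHN : Hz M z ≤ Nm M := inf_le_left
  obtain ⟨c₀, hc₀, hc₀N⟩ := cz.ex
  by_cases hA : Nat.card (Cz z) = 2 * Nat.card (Hz M z)
  · exact Or.inl hA
  right
  -- two elements of `C ∖ N` in different cosets of `H`
  obtain ⟨c', hc', hc'N, hcc'⟩ : ∃ c' ∈ Cz z, c' ∉ Nm M ∧ c₀⁻¹ * c' ∉ Nm M := by
    by_contra hcon
    apply hA
    apply card_Cz_of_single_coset hc₀ hc₀N
    intro c hc hcN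
    by_contra h'
    exact hcon ⟨c, hc, hcN, h'⟩
  have hcc'C : c₀⁻¹ * c' ∈ Cz z := (Cz z).mul_mem ((Cz z).inv_mem hc₀) hc'
  -- `H` has exponent `2`
  have hexp : ∀ k ∈ Hz M z, k * k = 1 := by
    intro k hk
    have h1 := (cz.out c₀ hc₀ hc₀N).2 k hk
    have h2 := (cz.out c' hc' hc'N).2 k hk
    have h3 := (cz.out (c₀⁻¹ * c') hcc'C hcc').2 k hk
    have h4 : c₀⁻¹ * c' * k * (c₀⁻¹ * c')⁻¹ = c₀⁻¹ * (c' * k * c'⁻¹) * c₀ := by group
    rw [h4, h2] at h3
    -- `k = c₀⁻¹ k⁻¹ c₀`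
    have h5 : c₀⁻¹ * k⁻¹ * c₀ = k := by
      rw [← h1]; group
    rw [h5] at h3
    calc k * k = k * k⁻¹ := by rw [← h3]
      _ = 1 := mul_inv_cancel k
  -- `H = {1, z}`
  have hzH : z ∈ Hz M z := ⟨h.zN, Subgroup.mem_centralizer_singleton_iff.2 rfl⟩
  have hH2 : ∀ k ∈ Hz M z, k = 1 ∨ k = z := by
    intro k hk
    by_cases hk1 : k = 1
    · exact Or.inl hk1
    · right
      apply i.zuniq k hk
      apply orderOf_eq_prime
      · rw [pow_two]; exact hexp k hk
      · exact hk1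
  have hz1 : z ≠ 1 := by
    intro hz
    have := h.hz
    rw [hz, orderOf_one] at this
    omega
  have hcardH : Nat.card (Hz M z) = 2 := by
    rw [Nat.card_eq_two_iff]
    refine ⟨1, ⟨z, hzH⟩, ?_, ?_⟩
    · intro heq
      exact hz1 (congrArg Subtype.val heq).symm
    · ext ⟨k, hk⟩
      simp only [Set.mem_insert_iff, Set.mem_singleton_iff, Set.mem_univ, iff_true]
      rcases hH2 k hk with rfl | rfl
      · left; rfl
      · right; rfl
  -- `C` has exponent `2`
  have hCexp : ∀ c ∈ Cz z, c * c = 1 := by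
    intro c hc
    by_cases hcN : c ∈ Nm M
    · exact hexp c ⟨hcN, hc⟩
    · exact sq_eq_one_of_order (cz.out c hc hcN).1
  have hp : IsPGroup 2 (Cz z) := by
    intro g
    refine ⟨1, ?_⟩
    apply Subtype.ext
    rw [pow_one, pow_two]
    exact hCexp g g.2
  obtain ⟨j, hj⟩ := hp.exists_card_eq
  -- `|C| > 2`
  have hgt : 2 < Nat.card (Cz z) := by
    by_contra hle
    have hle' : Nat.card (Cz z) ≤ Nat.card (Hz M z) := by rw [hcardH]; omega
    have := Subgroup.eq_of_le_of_card_ge hHC hle'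
    apply hc₀N
    have hc₀H : c₀ ∈ Hz M z := by rw [this]; exact hc₀
    exact hHN hc₀H
  rw [hcardH] at hA
  have hj3 : 3 ≤ j := by
    by_contra hlt
    have : j = 0 ∨ j = 1 ∨ j = 2 := by omega
    rcases this with rfl | rfl | rfl
    · rw [hj] at hgt; norm_num at hgt
    · rw [hj] at hgt; norm_num at hgt
    · rw [hj] at hA; norm_num at hA
  refine ⟨j - 1, by omega, hcardH, ?_, hCexp⟩
  rw [hj]
  congr 1
  omega

end Cfsg.Agent.Lib.Helper45.TIInv
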