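import Mathlib
import Cfsg.Agent.Lib.Helper90.TIInvDefs
import Cfsg.Agent.Lib.Helper90.TIInvSmall

/-!
# S3043 module [F7] (helper45): involutions outside `N` invert the two-point stabilizers, which have order
`|H|`; `H` is abelian
-/

set_option autoImplicit false

namespace Cfsg.Agent.Lib.Helper45.TIInv

open Cfsg.Agent.Lib.Helper90.TIInv Cfsg.Agent.Lib.Helper90.TIInvSmall

variable {G : Type*} [Group G] [Finite G] {M : Subgroup G} {z : G}

omit [Finite G] in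
/-- `M` is normalised by `N` -/
theorem conj_mem_of_mem_Nm {n x : G} (hn : n ∈ Nm M) (hx : x ∈ M) : n * x * n⁻¹ ∈ M :=
  (Subgroup.mem_normalizer_iff.1 hn x).1 hx

omit [Finite G] in
/-- every involution outside `N` inverts `N ⊓ uNu⁻¹` -/
theorem dInv_of_cover (c : Cover M) (s : Semi M) : DInv M := by
  intro u hu huN d hd
  obtain ⟨a, ha, had, hinv⟩ := c u hu huN d hd.1
  have ha' : a ∈ cj u (Nm M) := by
    have : a = (a * d) * d⁻¹ := by group
    rw [this]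
    exact (cj u (Nm M)).mul_mem had ((cj u (Nm M)).inv_mem hd.2)
  have ha1 : a = 1 := by
    have : a ∈ M ⊓ cj u (Nm M) := ⟨ha, ha'⟩
    rw [s u huN] at this
    exact Subgroup.mem_bot.1 this
  rw [ha1, one_mul] at hinv
  exact hinv

/-- `|N ⊓ uNu⁻¹| = |H|` for an involution `u ∉ N` -/
theorem card_twoPt_inv (b : Basic M z) (c : Cover M) (s : Semi M) {u : G} (hu : orderOf u = 2)
    (huN : u ∉ Nm M) : Nat.card ↥(Nm M ⊓ cj u (Nm M)) = Nat.card (Hz M z) := by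
  have hMN : M ≤ Nm M := le_Nm M
  have hmem : ∀ p : M × ↥(Nm M ⊓ cj u (Nm M)), (p.1 : G) * (p.2 : G) ∈ Nm M :=
    fun p => (Nm M).mul_mem (hMN p.1.2) p.2.2.1
  have hbij : Function.Bijective
      (fun p : M × ↥(Nm M ⊓ cj u (Nm M)) => (⟨(p.1 : G) * (p.2 : G), hmem p⟩ : Nm M)) := by
    constructor
    · rintro ⟨a, d⟩ ⟨a', d'⟩ heq
      have h1 : (a : G) * (d : G) = (a' : G) * (d' : G) := congrArg Subtype.val heq
      have h2 : (a' : G)⁻¹ * (a : G) = (d' : G) * (d : G)⁻¹ := by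
        calc (a' : G)⁻¹ * (a : G) = (a' : G)⁻¹ * ((a : G) * (d : G)) * (d : G)⁻¹ := by group
          _ = (a' : G)⁻¹ * ((a' : G) * (d' : G)) * (d : G)⁻¹ := by rw [h1]
          _ = (d' : G) * (d : G)⁻¹ := by group
      have h3 : (a' : G)⁻¹ * (a : G) ∈ M ⊓ cj u (Nm M) := by
        refine ⟨M.mul_mem (M.inv_mem a'.2) a.2, ?_⟩
        rw [h2]
        exact (cj u (Nm M)).mul_mem d'.2.2 ((cj u (Nm M)).inv_mem d.2.2)
      rw [s u huN, Subgroup.mem_bot] at h3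
      have haa : (a : G) = (a' : G) := by
        have : (a : G) = (a' : G) * ((a' : G)⁻¹ * (a : G)) := by group
        rw [this, h3, mul_one]
      have hdd : (d : G) = (d' : G) := by
        rw [haa] at h1
        exact mul_left_cancel h1
      exact Prod.ext (Subtype.ext haa) (Subtype.ext hdd)
    · rintro ⟨n, hn⟩
      obtain ⟨a, ha, had, -⟩ := c u hu huN n hn
      refine ⟨(⟨a⁻¹, M.inv_mem ha⟩, ⟨a * n, (Nm M).mul_mem (hMN ha) hn, had⟩), ?_⟩
      apply Subtype.ext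
      show a⁻¹ * (a * n) = n
      group
  have hcard : Nat.card M * Nat.card ↥(Nm M ⊓ cj u (Nm M)) = Nat.card (Nm M) := by
    rw [← Nat.card_prod]
    exact Nat.card_congr (Equiv.ofBijective _ hbij)
  rw [b.cardN] at hcard
  exact Nat.eq_of_mul_eq_mul_left Nat.card_pos hcard

omit [Finite G] in
/-- conjugating a two-point stabilizer by an element of `M` -/
theorem twoPt_conj {a g : G} (ha : a ∈ M) :
    Nm M ⊓ cj (a * g) (Nm M) = cj a (Nm M ⊓ cj g (Nm M)) := by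
  have haN : a ∈ Nm M := le_Nm M ha
  ext x
  rw [Subgroup.mem_inf, mem_cj_iff, mem_cj_iff, Subgroup.mem_inf, mem_cj_iff]
  have e : (a * g)⁻¹ * x * (a * g) = g⁻¹ * (a⁻¹ * x * a) * g := by group
  rw [e]
  constructor
  · rintro ⟨h1, h2⟩
    exact ⟨(Nm M).mul_mem ((Nm M).mul_mem ((Nm M).inv_mem haN) h1) haN, h2⟩
  · rintro ⟨h1, h2⟩
    refine ⟨?_, h2⟩
    have : x = a * (a⁻¹ * x * a) * a⁻¹ := by group
    rw [this]
    exact (Nm M).mul_mem ((Nm M).mul_mem haN h1) ((Nm M).inv_mem haN)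

/-- MODULE [F7] -/
theorem dInv (h : Hyp M z) (b : Basic M z) (f : Full M) (c : Cover M) (s : Semi M) :
    DInv M ∧ (∀ g : G, g ∉ Nm M → Nat.card ↥(Nm M ⊓ cj g (Nm M)) = Nat.card (Hz M z)) ∧
      HComm M z := by
  have hMN : M ≤ Nm M := le_Nm M
  have hD : DInv M := dInv_of_cover c s
  -- from `g ∉ N` to an involution
  have hinvol : ∀ g : G, g ∉ Nm M → ∃ a ∈ M, orderOf (a * g) = 2 ∧ a * g ∉ Nm M := by
    intro g hg
    obtain ⟨a, ha, hag⟩ := f g hg
    refine ⟨a, ha, hag, ?_⟩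
    intro h'
    apply hg
    have : g = a⁻¹ * (a * g) := by group
    rw [this]
    exact (Nm M).mul_mem ((Nm M).inv_mem (hMN ha)) h'
  refine ⟨hD, ?_, ?_⟩
  · intro g hg
    obtain ⟨a, ha, hag, hagN⟩ := hinvol g hg
    have h1 := card_twoPt_inv b c s hag hagN
    rw [twoPt_conj ha] at h1
    rw [← h1]
    exact (Subgroup.card_map_of_injective (MulAut.conj a).injective).symm
  · -- `H` is abelian
    obtain ⟨g, hg⟩ : ∃ g : G, g ∉ Nm M := by
      by_contra hcon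
      apply h.nn
      rw [← Subgroup.normalizer_eq_top_iff, eq_top_iff]
      intro x _
      by_contra hx
      exact hcon ⟨x, hx⟩
    obtain ⟨a₀, ha₀, hu, huN⟩ := hinvol g hg
    set u := a₀ * g with hudef
    -- `D = N ⊓ uNu⁻¹` is abelian
    have hDab : ∀ d ∈ Nm M ⊓ cj u (Nm M), ∀ d' ∈ Nm M ⊓ cj u (Nm M), d * d' = d' * d := by
      intro d hd d' hd'
      have h1 := hD u hu huN d hd
      have h2 := hD u hu huN d' hd'
      have h3 := hD u hu huN (d * d') ((Nm M ⊓ cj u (Nm M)).mul_mem hd hd')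
      have h4 : u * (d * d') * u⁻¹ = (u * d * u⁻¹) * (u * d' * u⁻¹) := by group
      rw [h4, h1, h2, mul_inv_rev] at h3
      -- `d⁻¹ d'⁻¹ = d'⁻¹ d⁻¹`
      have h5 : (d * d')⁻¹ = (d' * d)⁻¹ := by
        rw [mul_inv_rev, mul_inv_rev]; exact h3.symm
      exact inv_injective h5
    intro k hk k' hk'
    obtain ⟨a, ha, had, -⟩ := c u hu huN k hk.1
    obtain ⟨a', ha', had', -⟩ := c u hu huN k' hk'.1
    have hkN : k ∈ Nm M := hk.1
    have hk'N : k' ∈ Nm M := hk'.1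
    have hcomm := hDab (a * k) ⟨(Nm M).mul_mem (hMN ha) hkN, had⟩ (a' * k')
      ⟨(Nm M).mul_mem (hMN ha') hk'N, had'⟩
    -- `k k' (k' k)⁻¹ ∈ M ⊓ H`
    have hmemM : k * k' * (k' * k)⁻¹ ∈ M := by
      -- `(a k)(a' k') = a (k a' k⁻¹) (k k')` and `(a' k')(a k) = a' (k' a k'⁻¹) (k' k)`
      have e1 : k * k' = (a * (k * a' * k⁻¹))⁻¹ * ((a * k) * (a' * k')) := by group
      have e2 : (k' * k)⁻¹ = ((a' * k') * (a * k))⁻¹ * (a' * (k' * a * k'⁻¹)) := by group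
      rw [e1, e2, hcomm]
      have m1 : (a * (k * a' * k⁻¹))⁻¹ ∈ M :=
        M.inv_mem (M.mul_mem ha (conj_mem_of_mem_Nm hkN ha'))
      have m2 : a' * (k' * a * k'⁻¹) ∈ M := M.mul_mem ha' (conj_mem_of_mem_Nm hk'N ha)
      have e3 : (a * (k * a' * k⁻¹))⁻¹ * (a' * k' * (a * k)) *
          ((a' * k' * (a * k))⁻¹ * (a' * (k' * a * k'⁻¹))) =
          (a * (k * a' * k⁻¹))⁻¹ * (a' * (k' * a * k'⁻¹)) := by group
      rw [e3]
      exact M.mul_mem m1 m2
    have hmemH : k * k' * (k' * k)⁻¹ ∈ Hz M z :=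
      (Hz M z).mul_mem ((Hz M z).mul_mem hk hk') ((Hz M z).inv_mem ((Hz M z).mul_mem hk' hk))
    have h1 : k * k' * (k' * k)⁻¹ ∈ M ⊓ Hz M z := ⟨hmemM, hmemH⟩
    rw [b.MH, Subgroup.mem_bot] at h1
    exact mul_inv_eq_one.1 h1

end Cfsg.Agent.Lib.Helper45.TIInv
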