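import Mathlib
import Cfsg.Agent.Lib.Helper90.TIInvDefs
import Cfsg.Agent.Lib.Helper90.TIInvSmall
import Cfsg.Agent.Lib.Helper45.TIInvF7

/-!
# S3043 module [F8] (helper45): the two-point stabilizers `N ⊓ gNg⁻¹` are the `M`-conjugates of `H`
-/

set_option autoImplicit false

namespace Cfsg.Agent.Lib.Helper45.TIInv

open Cfsg.Agent.Lib.Helper90.TIInv Cfsg.Agent.Lib.Helper90.TIInvSmall

variable {G : Type*} [Group G] [Finite G] {M : Subgroup G} {z : G}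

omit [Finite G] in
/-- a subgroup inverted elementwise by conjugation with `u` is abelian -/
theorem comm_of_inverted {K : Subgroup G} {u : G} (hinv : ∀ d ∈ K, u * d * u⁻¹ = d⁻¹) :
    ∀ d ∈ K, ∀ d' ∈ K, d * d' = d' * d := by
  intro d hd d' hd'
  have h1 := hinv d hd
  have h2 := hinv d' hd'
  have h3 := hinv (d * d') (K.mul_mem hd hd')
  have h4 : u * (d * d') * u⁻¹ = (u * d * u⁻¹) * (u * d' * u⁻¹) := by group
  rw [h4, h1, h2, mul_inv_rev] at h3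
  have h5 : (d * d')⁻¹ = (d' * d)⁻¹ := by
    rw [mul_inv_rev, mul_inv_rev]; exact h3.symm
  exact inv_injective h5

omit [Finite G] in
theorem z_mem_Hz (h : Hyp M z) : z ∈ Hz M z :=
  ⟨h.zN, Subgroup.mem_centralizer_singleton_iff.2 rfl⟩

omit [Finite G] in
/-- `C_N(b z b⁻¹) = b H b⁻¹` for `b ∈ N` -/
theorem mem_cj_Hz_of_commute {b x : G} (hb : b ∈ Nm M) (hx : x ∈ Nm M)
    (hc : x * (b * z * b⁻¹) = (b * z * b⁻¹) * x) : x ∈ cj b (Hz M z) := by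
  rw [mem_cj_iff]
  refine ⟨(Nm M).mul_mem ((Nm M).mul_mem ((Nm M).inv_mem hb) hx) hb, ?_⟩
  show b⁻¹ * x * b ∈ Cz z
  rw [Subgroup.mem_centralizer_singleton_iff]
  -- `z (b⁻¹ x b) = (b⁻¹ x b) z`
  symm
  calc z * (b⁻¹ * x * b) = b⁻¹ * ((b * z * b⁻¹) * x) * b := by group
    _ = b⁻¹ * (x * (b * z * b⁻¹)) * b := by rw [hc]
    _ = b⁻¹ * x * b * z := by group

/-- the case of an involution -/
theorem twoPt_inv (h : Hyp M z) (i : InvN M z) (d : DInv M)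
    (dc : ∀ g : G, g ∉ Nm M → Nat.card ↥(Nm M ⊓ cj g (Nm M)) = Nat.card (Hz M z))
    {u : G} (hu : orderOf u = 2) (huN : u ∉ Nm M) :
    ∃ a ∈ M, Nm M ⊓ cj u (Nm M) = cj a (Hz M z) := by
  have hMN : M ≤ Nm M := le_Nm M
  have hcard := dc u huN
  -- an involution `t ∈ D`
  have h2 : 2 ∣ Nat.card ↥(Nm M ⊓ cj u (Nm M)) := by
    rw [hcard]
    have : orderOf (⟨z, z_mem_Hz h⟩ : Hz M z) = 2 := by
      rw [← h.hz, ← Subgroup.orderOf_coe]
    rw [← this]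
    exact orderOf_dvd_natCard _
  have : Fact (Nat.Prime 2) := ⟨Nat.prime_two⟩
  obtain ⟨t, ht⟩ := exists_prime_orderOf_dvd_card' 2 h2
  have ht2 : orderOf (t : G) = 2 := by rw [Subgroup.orderOf_coe]; exact ht
  have htN : (t : G) ∈ Nm M := t.2.1
  obtain ⟨a', ha', hta'⟩ := i.invs (t : G) htN ht2
  obtain ⟨b, hb, hbz⟩ := i.conj a' ha'
  have htb : (t : G) = b * z * b⁻¹ := by rw [hta', hbz]
  refine ⟨b, hb, ?_⟩
  have hDab := comm_of_inverted (d u hu huN)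
  have hle : Nm M ⊓ cj u (Nm M) ≤ cj b (Hz M z) := by
    intro x hx
    apply mem_cj_Hz_of_commute (hMN hb) hx.1
    rw [← htb]
    exact hDab x hx (t : G) t.2
  apply Subgroup.eq_of_le_of_card_ge hle
  rw [hcard]
  exact (Subgroup.card_map_of_injective (MulAut.conj b).injective).le

/-- MODULE [F8] -/
theorem twoPt (h : Hyp M z) (b : Basic M z) (i : InvN M z) (f : Full M) (d : DInv M)
    (dc : ∀ g : G, g ∉ Nm M → Nat.card ↥(Nm M ⊓ cj g (Nm M)) = Nat.card (Hz M z)) : TwoPt M z := by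
  have hMN : M ≤ Nm M := le_Nm M
  intro g hg
  obtain ⟨a₀, ha₀, hag⟩ := f g hg
  have hagN : a₀ * g ∉ Nm M := by
    intro h'
    apply hg
    have : g = a₀⁻¹ * (a₀ * g) := by group
    rw [this]
    exact (Nm M).mul_mem ((Nm M).inv_mem (hMN ha₀)) h'
  obtain ⟨a, ha, hD⟩ := twoPt_inv h i d dc hag hagN
  rw [twoPt_conj ha₀] at hD
  refine ⟨a₀⁻¹ * a, M.mul_mem (M.inv_mem ha₀) ha, ?_⟩
  ext x
  rw [mem_cj_iff]
  have h1 : a₀ * x * a₀⁻¹ ∈ cj a₀ (Nm M ⊓ cj g (Nm M)) ↔ x ∈ Nm M ⊓ cj g (Nm M) := by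
    rw [mem_cj_iff]
    have : a₀⁻¹ * (a₀ * x * a₀⁻¹) * a₀ = x := by group
    rw [this]
  rw [← h1, hD, mem_cj_iff]
  have e : a⁻¹ * (a₀ * x * a₀⁻¹) * a = (a₀⁻¹ * a)⁻¹ * x * (a₀⁻¹ * a) := by group
  rw [e]

end Cfsg.Agent.Lib.Helper45.TIInv
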