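import Mathlib
import Cfsg.Agent.Lib.Helper90.TIInvDefs
import Cfsg.Agent.Lib.Helper90.TIInvSmall
import Cfsg.Agent.Lib.Helper45.TIInvF8

/-!
# S3043 module [F9] (helper45): the elements of `C_G(z)` outside `N`
-/

set_option autoImplicit false

namespace Cfsg.Agent.Lib.Helper45.TIInv

open Cfsg.Agent.Lib.Helper90.TIInv Cfsg.Agent.Lib.Helper90.TIInvSmall

variable {G : Type*} [Group G] [Finite G] {M : Subgroup G} {z : G}

omit [Finite G] in
/-- an element of `M` commuting with `z` is trivial -/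
theorem eq_one_of_mem_of_commute (b : Basic M z) {a : G} (ha : a ∈ M) (hc : a * z = z * a) :
    a = 1 := by
  have : a ∈ M ⊓ Hz M z :=
    ⟨ha, le_Nm M ha, Subgroup.mem_centralizer_singleton_iff.2 hc⟩
  rw [b.MH] at this
  exact Subgroup.mem_bot.1 this

omit [Finite G] in
/-- `a z a⁻¹ = z` with `a ∈ M` forces `a = 1` -/
theorem eq_one_of_conj_z (b : Basic M z) {a : G} (ha : a ∈ M) (hc : a * z * a⁻¹ = z) : a = 1 := by
  apply eq_one_of_mem_of_commute b ha
  calc a * z = (a * z * a⁻¹) * a := by group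
    _ = z * a := by rw [hc]

omit [Finite G] in
theorem stab_aux (h : Hyp M z) (b : Basic M z) (i : InvN M z) (t : TwoPt M z) {c : G}
    (hc : c ∈ Cz z) (hcN : c ∉ Nm M) : Nm M ⊓ cj c (Nm M) = Hz M z := by
  obtain ⟨a, ha, hD⟩ := t c hcN
  have hcz : c * z = z * c := Subgroup.mem_centralizer_singleton_iff.1 hc
  have hzD : z ∈ Nm M ⊓ cj c (Nm M) := by
    refine ⟨h.zN, ?_⟩
    show z ∈ cj c (Nm M)
    rw [mem_cj_iff]
    have : c⁻¹ * z * c = z := by
      calc c⁻¹ * z * c = c⁻¹ * (z * c) := by group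
        _ = c⁻¹ * (c * z) := by rw [hcz]
        _ = z := by group
    rw [this]
    exact h.zN
  rw [hD, mem_cj_iff] at hzD
  have ho : orderOf (a⁻¹ * z * a) = 2 := by
    have : a⁻¹ * z * a = MulAut.conj a⁻¹ z := by simp
    rw [this, MulEquiv.orderOf_eq]
    exact h.hz
  have hz' := i.zuniq _ hzD ho
  have ha1 : a = 1 := by
    have : a⁻¹ = 1 := by
      apply eq_one_of_conj_z b (M.inv_mem ha)
      rw [inv_inv]; exact hz'
    exact inv_eq_one.1 this
  rw [hD, ha1]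
  ext x
  rw [mem_cj_iff]
  simp

/-- MODULE [F9] -/
theorem czFacts (h : Hyp M z) (b : Basic M z) (i : InvN M z) (f : Full M) (c : Cover M)
    (d : DInv M) (t : TwoPt M z) : CzFacts M z := by
  have hMN : M ≤ Nm M := le_Nm M
  have hzinv : z⁻¹ = z := inv_eq_self_of_order h.hz
  have hinvol : ∀ g : G, g ∉ Nm M → ∃ a ∈ M, orderOf (a * g) = 2 ∧ a * g ∉ Nm M := by
    intro g hg
    obtain ⟨a, ha, hag⟩ := f g hg
    refine ⟨a, ha, hag, ?_⟩
    intro h'
    apply hg
    have : g = a⁻¹ * (a * g) := by group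
    rw [this]
    exact (Nm M).mul_mem ((Nm M).inv_mem (hMN ha)) h'
  refine ⟨?_, fun c' hc' hcN => stab_aux h b i t hc' hcN, ?_⟩
  · -- out
    intro c' hc' hcN
    obtain ⟨b', hb', hu, huN⟩ := hinvol c' hcN
    have hcz : c' * z = z * c' := Subgroup.mem_centralizer_singleton_iff.1 hc'
    have hD : Nm M ⊓ cj (b' * c') (Nm M) = cj b' (Hz M z) := by
      rw [twoPt_conj hb', stab_aux h b i t hc' hcN]
    have hmem : b' * z * b'⁻¹ ∈ Nm M ⊓ cj (b' * c') (Nm M) := by
      rw [hD]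
      exact conj_mem_cj b' (Hz M z) (z_mem_Hz h)
    have hinv := d (b' * c') hu huN _ hmem
    -- `(b' z b'⁻¹)⁻¹ = b' z b'⁻¹`
    have e1 : (b' * z * b'⁻¹)⁻¹ = b' * z * b'⁻¹ := by
      rw [mul_inv_rev, mul_inv_rev, inv_inv, hzinv]; group
    rw [e1] at hinv
    -- hence `b' z b'⁻¹ = z`
    have e2 : b' * z * b'⁻¹ = z := by
      have e3 : c' * (b' * z * b'⁻¹) * c'⁻¹ = z := by
        calc c' * (b' * z * b'⁻¹) * c'⁻¹
            = b'⁻¹ * (b' * c' * (b' * z * b'⁻¹) * (b' * c')⁻¹) * b' := by group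
          _ = b'⁻¹ * (b' * z * b'⁻¹) * b' := by rw [hinv]
          _ = z := by group
      have e4 : c' * z * c'⁻¹ = z := by
        calc c' * z * c'⁻¹ = (z * c') * c'⁻¹ := by rw [hcz]
          _ = z := by group
      have e5 : c' * (b' * z * b'⁻¹) * c'⁻¹ = c' * z * c'⁻¹ := by rw [e3, e4]
      exact mul_left_cancel (mul_right_cancel e5)
    have hb1 : b' = 1 := eq_one_of_conj_z b hb' e2
    rw [hb1, one_mul] at hu huN hD
    refine ⟨hu, ?_⟩
    intro k hk
    apply d c' hu huN k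
    rw [hD, mem_cj_iff]
    simpa using hk
  · -- ex
    obtain ⟨g, hg⟩ : ∃ g : G, g ∉ Nm M := by
      by_contra hcon
      apply h.nn
      rw [← Subgroup.normalizer_eq_top_iff, eq_top_iff]
      intro x _
      by_contra hx
      exact hcon ⟨x, hx⟩
    obtain ⟨a₀, ha₀, hu, huN⟩ := hinvol g hg
    set u := a₀ * g with hudef
    obtain ⟨a, ha, hD⟩ := t u huN
    have hmem : a * z * a⁻¹ ∈ Nm M ⊓ cj u (Nm M) := by
      rw [hD]
      exact conj_mem_cj a (Hz M z) (z_mem_Hz h)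
    have hinv := d u hu huN _ hmem
    have e1 : (a * z * a⁻¹)⁻¹ = a * z * a⁻¹ := by
      rw [mul_inv_rev, mul_inv_rev, inv_inv, hzinv]; group
    rw [e1] at hinv
    refine ⟨a⁻¹ * u * a, ?_, ?_⟩
    · rw [Subgroup.mem_centralizer_singleton_iff]
      -- `(a⁻¹ u a) z = z (a⁻¹ u a)`
      have e2 : u * (a * z * a⁻¹) = (a * z * a⁻¹) * u := by
        calc u * (a * z * a⁻¹) = (u * (a * z * a⁻¹) * u⁻¹) * u := by group
          _ = (a * z * a⁻¹) * u := by rw [hinv]
      calc a⁻¹ * u * a * z = a⁻¹ * (u * (a * z * a⁻¹)) * a := by group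
        _ = a⁻¹ * ((a * z * a⁻¹) * u) * a := by rw [e2]
        _ = z * (a⁻¹ * u * a) := by group
    · intro h'
      apply huN
      have : u = a * (a⁻¹ * u * a) * a⁻¹ := by group
      rw [this]
      exact (Nm M).mul_mem ((Nm M).mul_mem (hMN ha) h') ((Nm M).inv_mem (hMN ha))

end Cfsg.Agent.Lib.Helper45.TIInv
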