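import Mathlib

/-!
# S2279 module [ALG-FIN] (helper45, for helper53)

Downward induction: if `R (n-2) = F` and the narrowing rule holds then every `R w = F` (`w + 2 ≤ n`).
Statement verbatim from `notes/helper53_S2279_modules.lean.txt`.
-/

set_option autoImplicit false

namespace Cfsg.Agent.Lib.Helper45.TwoReg

/-- MODULE S2279-[ALG-FIN] -/
theorem alg_fin {F : Type*} [Field F] [Fintype F] (n : ℕ) (hn : 4 ≤ n) (R : ℕ → AddSubgroup F)
    (hNar : ∀ w1 w2 w3, w1 + 2 ≤ n → w2 + 2 ≤ n → w3 ≤ w1 → n - 1 ≤ w1 + w2 - w3 →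
      ∀ s ∈ R w1, ∀ s' ∈ R w2, s * s' * ((w1 + w2 - w3).choose (n - 1) : F) ∈ R w3)
    (htop : ∀ s : F, s ∈ R (n - 2)) : ∀ w, w + 2 ≤ n → ∀ s : F, s ∈ R w := by
  -- downward induction on `k`: `R (n - 2 - k) = F`
  have key : ∀ k, k ≤ n - 2 → ∀ s : F, s ∈ R (n - 2 - k) := by
    intro k
    induction k with
    | zero => intro _ s; simpa using htop s
    | succ k ih =>
      intro hk s
      have ih' := ih (by omega)
      -- `w = n - 2 - (k+1)`, `w + 1 = n - 2 - k`
      have h1 : (1 : F) ∈ R (n - 2 - k) := ih' 1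
      have h := hNar (n - 2) (n - 2 - k) (n - 2 - (k + 1)) (by omega) (by omega) (by omega)
        (by omega) s (htop s) 1 h1
      have e : n - 2 + (n - 2 - k) - (n - 2 - (k + 1)) = n - 1 := by omega
      rw [e, Nat.choose_self, Nat.cast_one, mul_one, mul_one] at h
      exact h
  intro w hw s
  have := key (n - 2 - w) (by omega) s
  have e : n - 2 - (n - 2 - w) = w := by omega
  rwa [e] at this

end Cfsg.Agent.Lib.Helper45.TwoReg
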