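import Mathlib
import Cfsg.Agent.Lib.Helper53.TwoReg.Cfg

/-!
# S2279 module [PARTB] (helper45, for helper53)

`[d₀,[d₀,d₁]] = T_{0,2}(-c³)`: an exact identity in the class-3 group generated by the three
transvections `t₀, t₁, t₂`, proved in the `3 × 3` "twisted matrix" model
`φ(M) = 1 + A M B`, `φ(M) φ(M') = φ(M + M' + M G M')`, `G = B A` the Gram matrix.
Statement verbatim from `notes/helper53_S2279_modules.lean.txt` (as `partB C hN`).
-/

set_option autoImplicit false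
set_option linter.unusedSimpArgs false
set_option linter.unnecessarySeqFocus false

namespace Cfsg.Agent.Lib.Helper45.TwoReg

open Matrix Cfsg.Agent.Lib.Helper39.RankOne Cfsg.Agent.Lib.Helper53.TwoReg

variable {F : Type*} [Field F] {N : ℕ} (C : Cfg F N)

/-- the `N × 3` matrix with columns `a₀, a₁, a₂` -/
def colM : Matrix (Fin N) (Fin 3) F := fun x i => C.a i.val x

/-- the `3 × N` matrix with rows `α₀, α₁, α₂` -/
def rowM : Matrix (Fin 3) (Fin N) F := fun j x => C.α j.val x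

/-- the model map `M ↦ 1 + A M B` -/
def phi (M : Matrix (Fin 3) (Fin 3) F) : Matrix (Fin N) (Fin N) F := 1 + colM C * M * rowM C

/-- the twisted product on `3 × 3` matrices -/
def circ (G M M' : Matrix (Fin 3) (Fin 3) F) : Matrix (Fin 3) (Fin 3) F := M + M' + M * G * M'

theorem phi_mul (M M' : Matrix (Fin 3) (Fin 3) F) :
    phi C M * phi C M' = phi C (circ (rowM C * colM C) M M') := by
  unfold phi circ
  have hXY : (colM C * M * rowM C) * (colM C * M' * rowM C) =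
      colM C * (M * (rowM C * colM C) * M') * rowM C := by
    simp only [Matrix.mul_assoc]
  have hR : colM C * (M + M' + M * (rowM C * colM C) * M') * rowM C =
      colM C * M * rowM C + colM C * M' * rowM C +
        (colM C * M * rowM C) * (colM C * M' * rowM C) := by
    rw [Matrix.mul_add, Matrix.mul_add, Matrix.add_mul, Matrix.add_mul, hXY]
  rw [hR]
  generalize colM C * M * rowM C = X
  generalize colM C * M' * rowM C = Y
  simp only [add_mul, mul_add, one_mul, mul_one]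
  abel

theorem phi_zero : phi C 0 = 1 := by
  unfold phi
  rw [Matrix.mul_zero, Matrix.zero_mul, add_zero]

theorem tv_eq_phi (i j : Fin 3) (x : F) :
    tv (x • C.a i.val) (C.α j.val) = phi C (Matrix.single i j x) := by
  unfold tv phi
  congr 1
  ext r s
  rw [Matrix.mul_apply]
  simp only [Matrix.mul_apply, Matrix.single_apply, vecMulVec_apply, colM, rowM, Pi.smul_apply,
    smul_eq_mul]
  rw [Finset.sum_eq_single j]
  · rw [Finset.sum_eq_single i]
    · simp only [and_self, if_true]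
      ring
    · intro b _ hb
      simp [Ne.symm hb]
    · intro h; exact absurd (Finset.mem_univ _) h
  · intro b _ hb
    have : ∀ k : Fin 3, ¬ (i = k ∧ j = b) := fun k h => hb h.2.symm
    simp [this]
  · intro h; exact absurd (Finset.mem_univ _) h

theorem gramM (hN : 4 ≤ N) :
    rowM C * colM C = !![0, C.ε, C.α 0 ⬝ᵥ C.a 2; 0, 0, C.ε; 0, 0, 0] := by
  have key : ∀ i j : Fin 3, (rowM C * colM C) i j = C.α i.val ⬝ᵥ C.a j.val := by
    intro i j
    rw [Matrix.mul_apply]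
    rfl
  ext i j
  rw [key]
  fin_cases i <;> fin_cases j
  · exact C.gram0 (le_refl 0) (by omega)
  · exact C.gram1 0
  · rfl
  · exact C.gram0 (by norm_num : (0 : ℕ) ≤ 1) (by omega)
  · exact C.gram0 (le_refl 1) (by omega)
  · exact C.gram1 1
  · exact C.gram0 (by norm_num : (0 : ℕ) ≤ 2) (by omega)
  · exact C.gram0 (by norm_num : (1 : ℕ) ≤ 2) (by omega)
  · exact C.gram0 (le_refl 2) (by omega)

/-- the `3 × 3` Gram matrix (`e = ε`, `g = α₀ · a₂`) -/
def gM (e g : F) : Matrix (Fin 3) (Fin 3) F := !![0, e, g; 0, 0, e; 0, 0, 0]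

theorem single_00 (x : F) : (Matrix.single (0 : Fin 3) (0 : Fin 3) x) = !![x, 0, 0; 0, 0, 0; 0, 0, 0] := by
  ext i j; fin_cases i <;> fin_cases j <;> simp [Matrix.single_apply]

theorem single_11 (x : F) : (Matrix.single (1 : Fin 3) (1 : Fin 3) x) = !![0, 0, 0; 0, x, 0; 0, 0, 0] := by
  ext i j; fin_cases i <;> fin_cases j <;> simp [Matrix.single_apply]

theorem single_22 (x : F) : (Matrix.single (2 : Fin 3) (2 : Fin 3) x) = !![0, 0, 0; 0, 0, 0; 0, 0, x] := by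
  ext i j; fin_cases i <;> fin_cases j <;> simp [Matrix.single_apply]

theorem single_02 (x : F) : (Matrix.single (0 : Fin 3) (2 : Fin 3) x) = !![0, 0, x; 0, 0, 0; 0, 0, 0] := by
  ext i j; fin_cases i <;> fin_cases j <;> simp [Matrix.single_apply]

/-- model of `d₀ = t₁ t₀⁻¹` -/
theorem circ_d0 (c e g : F) :
    circ (gM e g) !![0, 0, 0; 0, c, 0; 0, 0, 0] !![-c, 0, 0; 0, 0, 0; 0, 0, 0] =
      !![-c, 0, 0; 0, c, 0; 0, 0, 0] := by
  unfold circ gM
  ext i j; fin_cases i <;> fin_cases j <;> simp [Matrix.mul_apply, Fin.sum_univ_three]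

/-- model of `d₁ = t₂ t₁⁻¹` -/
theorem circ_d1 (c e g : F) :
    circ (gM e g) !![0, 0, 0; 0, 0, 0; 0, 0, c] !![0, 0, 0; 0, -c, 0; 0, 0, 0] =
      !![0, 0, 0; 0, -c, 0; 0, 0, c] := by
  unfold circ gM
  ext i j; fin_cases i <;> fin_cases j <;> simp [Matrix.mul_apply, Fin.sum_univ_three]

/-- `d₀ d₀⁻¹ = 1` in the model -/
theorem circ_d0_inv (c e g : F) :
    circ (gM e g) !![-c, 0, 0; 0, c, 0; 0, 0, 0] !![c, -(c ^ 2 * e), 0; 0, -c, 0; 0, 0, 0] = 0 := by
  unfold circ gM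
  ext i j; fin_cases i <;> fin_cases j <;> simp [Matrix.mul_apply, Fin.sum_univ_three] <;> ring

/-- `d₁ d₁⁻¹ = 1` in the model -/
theorem circ_d1_inv (c e g : F) :
    circ (gM e g) !![0, 0, 0; 0, -c, 0; 0, 0, c] !![0, 0, 0; 0, c, -(c ^ 2 * e); 0, 0, -c] = 0 := by
  unfold circ gM
  ext i j; fin_cases i <;> fin_cases j <;> simp [Matrix.mul_apply, Fin.sum_univ_three] <;> ring

/-- model of `k = [d₀, d₁]` -/
theorem circ_k (c e g : F) :
    circ (gM e g) (circ (gM e g) (circ (gM e g) !![-c, 0, 0; 0, c, 0; 0, 0, 0]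
      !![0, 0, 0; 0, -c, 0; 0, 0, c]) !![c, -(c ^ 2 * e), 0; 0, -c, 0; 0, 0, 0])
      !![0, 0, 0; 0, c, -(c ^ 2 * e); 0, 0, -c] =
      !![0, c ^ 2 * e, -(c ^ 2 * g) - c ^ 3 * (e * e); 0, 0, c ^ 2 * e; 0, 0, 0] := by
  unfold circ gM
  ext i j; fin_cases i <;> fin_cases j <;> simp [Matrix.mul_apply, Fin.sum_univ_three] <;> ring

/-- model of `k⁻¹ = [d₁, d₀]` -/
theorem circ_k' (c e g : F) :
    circ (gM e g) (circ (gM e g) (circ (gM e g) !![0, 0, 0; 0, -c, 0; 0, 0, c]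
      !![-c, 0, 0; 0, c, 0; 0, 0, 0]) !![0, 0, 0; 0, c, -(c ^ 2 * e); 0, 0, -c])
      !![c, -(c ^ 2 * e), 0; 0, -c, 0; 0, 0, 0] =
      !![0, -(c ^ 2 * e), c ^ 2 * g + c ^ 3 * (e * e); 0, 0, -(c ^ 2 * e); 0, 0, 0] := by
  unfold circ gM
  ext i j; fin_cases i <;> fin_cases j <;> simp [Matrix.mul_apply, Fin.sum_univ_three] <;> ring

/-- model of `[d₀, k]` -/
theorem circ_r (c e g : F) :
    circ (gM e g) (circ (gM e g) (circ (gM e g) !![-c, 0, 0; 0, c, 0; 0, 0, 0]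
      !![0, c ^ 2 * e, -(c ^ 2 * g) - c ^ 3 * (e * e); 0, 0, c ^ 2 * e; 0, 0, 0])
      !![c, -(c ^ 2 * e), 0; 0, -c, 0; 0, 0, 0])
      !![0, -(c ^ 2 * e), c ^ 2 * g + c ^ 3 * (e * e); 0, 0, -(c ^ 2 * e); 0, 0, 0] =
      !![0, 0, -(c ^ 3 * (e * e)); 0, 0, 0; 0, 0, 0] := by
  unfold circ gM
  ext i j; fin_cases i <;> fin_cases j <;> simp [Matrix.mul_apply, Fin.sum_univ_three] <;> ring

/-- MODULE S2279-[PARTB] -/
theorem partB (hN : 4 ≤ N) : InH C.H (tv ((-(C.c ^ 3)) • C.a 0) (C.α 2)) := by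
  have hG : rowM C * colM C = gM C.ε (C.α 0 ⬝ᵥ C.a 2) := gramM C hN
  have pm : ∀ M M' : Matrix (Fin 3) (Fin 3) F,
      phi C M * phi C M' = phi C (circ (gM C.ε (C.α 0 ⬝ᵥ C.a 2)) M M') := by
    intro M M'; rw [phi_mul, hG]
  -- the transvections in the model
  have t0' : tv (-(C.c • C.a 0)) (C.α 0) = phi C !![-C.c, 0, 0; 0, 0, 0; 0, 0, 0] := by
    rw [← neg_smul, ← single_00]; exact tv_eq_phi C 0 0 (-C.c)
  have t1 : tv (C.c • C.a 1) (C.α 1) = phi C !![0, 0, 0; 0, C.c, 0; 0, 0, 0] := by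
    rw [← single_11]; exact tv_eq_phi C 1 1 C.c
  have t1' : tv (-(C.c • C.a 1)) (C.α 1) = phi C !![0, 0, 0; 0, -C.c, 0; 0, 0, 0] := by
    rw [← neg_smul, ← single_11]; exact tv_eq_phi C 1 1 (-C.c)
  have t2 : tv (C.c • C.a 2) (C.α 2) = phi C !![0, 0, 0; 0, 0, 0; 0, 0, C.c] := by
    rw [← single_22]; exact tv_eq_phi C 2 2 C.c
  -- `d₀, d₁ ∈ H`
  have hd0 : InH C.H (phi C !![-C.c, 0, 0; 0, C.c, 0; 0, 0, 0]) := by
    have := C.hd 0
    rw [show (0 : ℕ) + 1 = 1 from rfl, t1, t0', pm, circ_d0] at this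
    exact this
  have hd1 : InH C.H (phi C !![0, 0, 0; 0, -C.c, 0; 0, 0, C.c]) := by
    have := C.hd 1
    rw [show (1 : ℕ) + 1 = 2 from rfl, t2, t1', pm, circ_d1] at this
    exact this
  -- inverses
  have hd0i : InH C.H (phi C !![C.c, -(C.c ^ 2 * C.ε), 0; 0, -C.c, 0; 0, 0, 0]) := by
    apply hd0.of_mul_eq_one
    rw [pm, circ_d0_inv, phi_zero]
  have hd1i : InH C.H (phi C !![0, 0, 0; 0, C.c, -(C.c ^ 2 * C.ε); 0, 0, -C.c]) := by
    apply hd1.of_mul_eq_one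
    rw [pm, circ_d1_inv, phi_zero]
  -- `k = [d₀, d₁]` and its inverse
  have hk := ((hd0.mul hd1).mul hd0i).mul hd1i
  rw [pm, pm, pm, circ_k] at hk
  have hk' := ((hd1.mul hd0).mul hd1i).mul hd0i
  rw [pm, pm, pm, circ_k'] at hk'
  -- `[d₀, k]`
  have hr := ((hd0.mul hk).mul hd0i).mul hk'
  rw [pm, pm, pm, circ_r, C.hε, mul_one, ← single_02] at hr
  have e := tv_eq_phi C 0 2 (-(C.c ^ 3))
  rw [show ((0 : Fin 3) : ℕ) = 0 from rfl, show ((2 : Fin 3) : ℕ) = 2 from rfl] at e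
  rw [e]
  exact hr

end Cfsg.Agent.Lib.Helper45.TwoReg
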