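import Mathlib
import Cfsg.Agent.Lib.Helper53.TwoReg.Cfg

/-!
# S2279 module [WIDEN] (helper45, for helper53)

`[d_m, T_{j,m}(s)] = T_{j,m+1}(-ε c s)`: widening the covector index of a transvection in `H`.
Statement verbatim from `notes/helper53_S2279_modules.lean.txt` (as `widen C …`).
-/

set_option autoImplicit false

namespace Cfsg.Agent.Lib.Helper45.TwoReg

open Matrix Cfsg.Agent.Lib.Helper39.RankOne Cfsg.Agent.Lib.Helper53.TwoReg

/-- MODULE S2279-[WIDEN] -/
theorem widen {F : Type*} [Field F] {N : ℕ} (C : Cfg F N) {j m : ℕ} (hjm : j ≤ m)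
    (hm : m + 3 ≤ j + N) (s : F) (h : InH C.H (tv (s • C.a j) (C.α m))) :
    InH C.H (tv ((-(C.ε * C.c * s)) • C.a j) (C.α (m + 1))) := by
  -- Gram relations
  have g_mm : C.α m ⬝ᵥ (C.c • C.a m) = 0 := C.gram0' (le_refl m) (by omega) C.c
  have g_m1m1 : C.α (m + 1) ⬝ᵥ (C.c • C.a (m + 1)) = 0 := C.gram0' (le_refl _) (by omega) C.c
  have g_mj : C.α m ⬝ᵥ (s • C.a j) = 0 := C.gram0' hjm (by omega) s
  have g_m1j : C.α (m + 1) ⬝ᵥ (s • C.a j) = 0 := C.gram0' (by omega) (by omega) s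
  have g_mm' : C.α m ⬝ᵥ (-(C.c • C.a m)) = 0 := by rw [dotProduct_neg, g_mm, neg_zero]
  -- abbreviations
  set T1 := tv (C.c • C.a (m + 1)) (C.α (m + 1)) with hT1
  set T1' := tv (-(C.c • C.a (m + 1))) (C.α (m + 1)) with hT1'
  set T0 := tv (C.c • C.a m) (C.α m) with hT0
  set T0' := tv (-(C.c • C.a m)) (C.α m) with hT0'
  set g := tv (s • C.a j) (C.α m) with hg
  set g' := tv (-(s • C.a j)) (C.α m) with hg'
  have hd : InH C.H (T1 * T0') := C.hd m
  have e00 : T0' * T0 = 1 := tv_neg_mul_tv _ _ g_mm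
  have e11 : T1 * T1' = 1 := tv_mul_tv_neg _ _ g_m1m1
  have hdinv : InH C.H (T0 * T1') := by
    apply hd.of_mul_eq_one
    calc T1 * T0' * (T0 * T1') = T1 * (T0' * T0) * T1' := by
          simp only [Matrix.mul_assoc]
      _ = 1 := by rw [e00, Matrix.mul_one, e11]
  have hg'H : InH C.H g' := h.tv_neg g_mj
  have hprod : InH C.H (T1 * T0' * g * (T0 * T1') * g') := ((hd.mul h).mul hdinv).mul hg'H
  -- `t_m` commutes with `g`
  have ecomm : T0' * g * T0 = g := by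
    rw [hT0', hg, hT0, tv_mul_tv _ _ _ g_mj, tv_mul_tv _ _ _ g_mm]
    congr 1
    abel
  have e1 : T1 * T0' * g * (T0 * T1') * g' = T1 * g * T1' * g' := by
    calc T1 * T0' * g * (T0 * T1') * g' = T1 * (T0' * g * T0) * T1' * g' := by
          simp only [Matrix.mul_assoc]
      _ = T1 * g * T1' * g' := by rw [ecomm]
  rw [e1, hT1, hg, hT1', hg', comm_tv _ _ _ _ g_m1m1 g_mj g_m1j] at hprod
  rw [dotProduct_smul, C.gram1 m, smul_smul] at hprod
  convert hprod using 3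
  rw [smul_eq_mul]
  ring

end Cfsg.Agent.Lib.Helper45.TwoReg
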