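import Mathlib
import Cfsg.Agent.Lib.Helper94.UDec.Core
import Cfsg.Agent.Lib.Helper94.UDec.Ex14

/-!
# UDEC-[TR] (helper45, sheet of helper94, S5655 part 2): transitivity on the isotropic vectors of
one non-degenerate subspace
-/

set_option autoImplicit false
set_option linter.unusedSectionVars false
set_option linter.unusedVariables false

namespace Cfsg.Agent.Lib.Helper45.UDec

open Cfsg.Agent.Lib.Helper94 Cfsg.Agent.Lib.Helper94.SympData Cfsg.Agent.Lib.Helper94.UDec Module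

variable {K V : Type*} [Field K] [AddCommGroup V] [Module K V] [FiniteDimensional K V]
variable {σ : K →+* K} {h : V → V → K}

section EX
variable (F : FCtx σ h) {W : Submodule K V} (hW : NdOn h W)
include F hW

/-- one step: from `u ∈ O` to a non-orthogonal isotropic vector -/
theorem iso_step (O : Set V) (hO : ∀ u ∈ O, u ∈ W ∧ u ≠ 0 ∧ h u u = 0)
    (hsm : ∀ u ∈ O, ∀ l : K, l ≠ 0 → l • u ∈ O)
    (htv : ∀ u ∈ O, ∀ f ∈ W, h f f = 0 → ∀ c : K, c + σ c = 0 → u + (c * h u f) • f ≠ 0 →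
      u + (c * h u f) • f ∈ O)
    {u : V} (hu : u ∈ O) {e : V} (he : e ∈ W) (hee : h e e = 0) (hue : h u e ≠ 0) : e ∈ O := by
  have hH := F.herm
  obtain ⟨huW, hu0, huu⟩ := hO u hu
  obtain ⟨s, hs0, hs⟩ := F.tz
  have hσs : σ s = -s := by linear_combination hs
  -- rescale `e` to `e' = l • e` with `h u e' = 1`
  obtain ⟨l, hl⟩ : ∃ l : K, l = σ ((h u e)⁻¹) := ⟨_, rfl⟩
  have hl0 : l ≠ 0 := by
    rw [hl]
    intro h0
    have := F.invol ((h u e)⁻¹)
    rw [h0, map_zero] at this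
    exact inv_ne_zero hue this.symm
  have hσl : σ l = (h u e)⁻¹ := by rw [hl]; exact F.invol _
  obtain ⟨e', he'⟩ : ∃ e' : V, e' = l • e := ⟨_, rfl⟩
  have he'W : e' ∈ W := by rw [he']; exact W.smul_mem l he
  have hue' : h u e' = 1 := by
    rw [he', hH.smul_right, hσl, inv_mul_cancel₀ hue]
  have he'u : h e' u = 1 := by rw [hH.conj u e', hue', map_one]
  have he'e' : h e' e' = 0 := by
    rw [he', hH.smul_left, hH.smul_right, hee, mul_zero, mul_zero]
  have he'0 : e' ≠ 0 := by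
    intro h0
    rw [h0, hH.zero_right] at hue'
    exact zero_ne_one hue'
  -- the isotropic vector `f = u + s • e'`
  obtain ⟨f, hf⟩ : ∃ f : V, f = u + s • e' := ⟨_, rfl⟩
  have hfW : f ∈ W := by rw [hf]; exact W.add_mem huW (W.smul_mem s he'W)
  have huf : h u f = -s := by
    rw [hf, hH.add_right, hH.smul_right, huu, hue', hσs]
    ring
  have hff : h f f = 0 := by
    rw [hf, hH.add_left, hH.add_right, hH.add_right, hH.smul_left, hH.smul_left, hH.smul_right,
      hH.smul_right, huu, hue', he'u, he'e', hσs]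
    ring
  have hc : s⁻¹ + σ (s⁻¹) = 0 := by
    rw [map_inv₀, hσs]
    field_simp
    ring
  have hval : u + (s⁻¹ * h u f) • f = (-s) • e' := by
    rw [huf, hf]
    have : s⁻¹ * -s = -1 := by field_simp
    rw [this]
    module
  have hne : u + (s⁻¹ * h u f) • f ≠ 0 := by
    rw [hval]
    exact smul_ne_zero (neg_ne_zero.mpr hs0) he'0
  have h1 : (-s) • e' ∈ O := by
    rw [← hval]
    exact htv u hu f hfW hff s⁻¹ hc hne
  -- back to `e`
  have h2 : ((-s) * l)⁻¹ • ((-s) • e') = e := by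
    rw [he', smul_smul, smul_smul]
    have : ((-s) * l)⁻¹ * -s * l = 1 := by
      have hsl : (-s) * l ≠ 0 := mul_ne_zero (neg_ne_zero.mpr hs0) hl0
      field_simp
    rw [this, one_smul]
  rw [← h2]
  exact hsm _ h1 _ (inv_ne_zero (mul_ne_zero (neg_ne_zero.mpr hs0) hl0))

/-- [TR] a non-empty set of non-zero isotropic vectors of `W` closed under non-zero scalars and
under the transvections of `W` contains every non-zero isotropic vector of `W` -/
theorem iso_trans (O : Set V) {e₀ : V} (he₀ : e₀ ∈ O) (hO : ∀ u ∈ O, u ∈ W ∧ u ≠ 0 ∧ h u u = 0)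
    (hsm : ∀ u ∈ O, ∀ l : K, l ≠ 0 → l • u ∈ O)
    (htv : ∀ u ∈ O, ∀ f ∈ W, h f f = 0 → ∀ c : K, c + σ c = 0 → u + (c * h u f) • f ≠ 0 →
      u + (c * h u f) • f ∈ O)
    {e : V} (he : e ∈ W) (he0 : e ≠ 0) (hee : h e e = 0) : e ∈ O := by
  have hH := F.herm
  obtain ⟨he₀W, he₀0, he₀e₀⟩ := hO e₀ he₀
  obtain ⟨w, hwW, hww, he₀w, hew⟩ := ex_conn F hW he₀W he he₀0 he0 he₀e₀ hee
  have hw : w ∈ O := iso_step F hW O hO hsm htv he₀ hwW hww he₀w
  have hwe : h w e ≠ 0 := by
    rw [hH.conj e w]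
    intro h0
    apply hew
    have := F.invol (h e w)
    rw [h0, map_zero] at this
    exact this.symm
  exact iso_step F hW O hO hsm htv hw he hee hwe

end EX

end Cfsg.Agent.Lib.Helper45.UDec
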