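import Mathlib
import Cfsg.Agent.Lib.Helper94.UDec.Core
import Cfsg.Agent.Lib.Helper94.UDec.B1
import Cfsg.Agent.Lib.Helper94.UDec.HasPair
import Cfsg.Agent.Lib.Helper45.UDecTR

/-!
# UDEC-[C2I] (helper45, sheet of helper94, S5655 part 2): all sums of two isotropic vectors of two
members lie in `UXa`; `pair_iso_all_of` takes the statement of [C2R] `pair_ratio` as a hypothesis.
-/

set_option autoImplicit false
set_option linter.unusedSectionVars false
set_option linter.unusedVariables false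

namespace Cfsg.Agent.Lib.Helper45.UDec

open Cfsg.Agent.Lib.Helper94 Cfsg.Agent.Lib.Helper94.SympData Cfsg.Agent.Lib.Helper94.UDec Module

variable {K V : Type*} [Field K] [AddCommGroup V] [Module K V] [FiniteDimensional K V]
variable {σ : K →+* K} {h : V → V → K}
variable {t k : ℕ} {D : Fin t → Submodule K V}

section DEC
variable (C : UCtx σ h k D) {M : Subgroup (V ≃ₗ[K] V)}
include C

/-- the image of an isotropic vector under a unitary transvection is isotropic -/
theorem tv_iso {u f : V} (huu : h u u = 0) (hff : h f f = 0) {c : K} (hc : c + σ c = 0) :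
    h (u + (c * h u f) • f) (u + (c * h u f) • f) = 0 := by
  have h1 := C.herm.utv_mem_UG f c hff hc u u
  rw [C.herm.utv_apply] at h1
  rw [h1, huu]

/-- [C2I] modulo [C2R] -/
theorem pair_iso_all_of (hMU : M ≤ UG h) (hHM : HG h D ≤ M)
    (hR : ∀ {a b : Fin t}, a ≠ b → ∀ {u v : V}, u ∈ D a → v ∈ D b → u ≠ 0 → v ≠ 0 → h u u = 0 →
      h v v = 0 → u + v ∈ UXa C.herm M → ∀ {ζ : K}, ζ ≠ 0 → u + ζ • v ∈ UXa C.herm M)
    {a b : Fin t} (hab : a ≠ b)
    (hP : HasPair C M a b)
    {u v : V} (hu : u ∈ D a) (hv : v ∈ D b)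
    (huu : h u u = 0) (hvv : h v v = 0) : u + v ∈ UXa C.herm M := by
  have hH := C.herm
  obtain ⟨ya, hya, yb, hyb, hya0, hyb0, hyaa, hybb, hyab⟩ := hP
  by_cases hu0 : u = 0
  · rw [hu0, zero_add]
    exact block_mem C hHM hv hvv
  by_cases hv0 : v = 0
  · rw [hv0, add_zero]
    exact block_mem C hHM hu huu
  -- Step 1: `u + yb ∈ UXa`
  have step1 : u + yb ∈ UXa C.herm M := by
    let O : Set V := {u' | u' ∈ D a ∧ u' ≠ 0 ∧ h u' u' = 0 ∧ u' + yb ∈ UXa C.herm M}
    have hmem : u ∈ O := by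
      refine iso_trans C.toFCtx (C.nd a) O (e₀ := ya) ⟨hya, hya0, hyaa, hyab⟩ ?_ ?_ ?_ hu hu0 huu
      · intro u' hu'
        exact ⟨hu'.1, hu'.2.1, hu'.2.2.1⟩
      · rintro u' ⟨h1, h2, h3, h4⟩ l hl
        refine ⟨(D a).smul_mem l h1, smul_ne_zero hl h2, ?_, ?_⟩
        · rw [hH.smul_left, hH.smul_right, h3, mul_zero, mul_zero]
        · have h5 := hR hab h1 hyb h2 hyb0 h3 hybb h4 (inv_ne_zero hl)
          have h6 := C.uxa_smul h5 l
          have : l • (u' + l⁻¹ • yb) = l • u' + yb := by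
            rw [smul_add, smul_smul, mul_inv_cancel₀ hl, one_smul]
          rwa [this] at h6
      · rintro u' ⟨h1, h2, h3, h4⟩ f hf hff c hc hne
        refine ⟨(D a).add_mem h1 ((D a).smul_mem _ hf), hne, tv_iso C h3 hff hc, ?_⟩
        have hfX : f ∈ UXa C.herm M := block_mem C hHM hf hff
        have h5 := C.uxa_tv hMU h4 hfX c hc
        have h6 : h (u' + yb) f = h u' f := by
          rw [hH.add_left, C.orth b a (Ne.symm hab) yb hyb f hf, add_zero]
        rw [h6] at h5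
        have : u' + yb + (c * h u' f) • f = u' + (c * h u' f) • f + yb := by abel
        rwa [this] at h5
    exact hmem.2.2.2
  -- Step 2: `u + v ∈ UXa`
  let O : Set V := {v' | v' ∈ D b ∧ v' ≠ 0 ∧ h v' v' = 0 ∧ u + v' ∈ UXa C.herm M}
  have hmem : v ∈ O := by
    refine iso_trans C.toFCtx (C.nd b) O (e₀ := yb) ⟨hyb, hyb0, hybb, step1⟩ ?_ ?_ ?_ hv hv0 hvv
    · intro v' hv'
      exact ⟨hv'.1, hv'.2.1, hv'.2.2.1⟩
    · rintro v' ⟨h1, h2, h3, h4⟩ l hl
      refine ⟨(D b).smul_mem l h1, smul_ne_zero hl h2, ?_, ?_⟩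
      · rw [hH.smul_left, hH.smul_right, h3, mul_zero, mul_zero]
      · exact hR hab hu h1 hu0 h2 huu h3 h4 hl
    · rintro v' ⟨h1, h2, h3, h4⟩ f hf hff c hc hne
      refine ⟨(D b).add_mem h1 ((D b).smul_mem _ hf), hne, tv_iso C h3 hff hc, ?_⟩
      have hfX : f ∈ UXa C.herm M := block_mem C hHM hf hff
      have h5 := C.uxa_tv hMU h4 hfX c hc
      have h6 : h (u + v') f = h v' f := by
        rw [hH.add_left, C.orth a b hab u hu f hf, zero_add]
      rw [h6] at h5
      have : u + v' + (c * h v' f) • f = u + (v' + (c * h v' f) • f) := by abel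
      rwa [this] at h5
  exact hmem.2.2.2

end DEC

end Cfsg.Agent.Lib.Helper45.UDec
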