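import Mathlib
import Cfsg.Agent.Lib.Helper94.UDec.Core

/-!
# UDEC-[QR] (helper45, sheet of helper94, S5655 part 2): quasi-reflections
-/

set_option autoImplicit false
set_option linter.unusedSectionVars false
set_option linter.unusedVariables false

namespace Cfsg.Agent.Lib.Helper45.UDec

open Cfsg.Agent.Lib.Helper94 Cfsg.Agent.Lib.Helper94.SympData Cfsg.Agent.Lib.Helper94.UDec Module

variable {K V : Type*} [Field K] [AddCommGroup V] [Module K V] [FiniteDimensional K V]
variable {σ : K →+* K} {h : V → V → K}

section ELT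
variable (F : FCtx σ h)
include F

/-- [QR] quasi-reflections -/
theorem ex_qrefl {d : V} (hdd : h d d ≠ 0) {η : K} (hη : η * σ η = 1) :
    ∃ g : V ≃ₗ[K] V, g ∈ UG h ∧ ((LinearEquiv.det g : Kˣ) : K) = η ∧
      ∀ x, g x = x + ((η - 1) * h x d / h d d) • d := by
  have hH := F.herm
  have hη0 : η ≠ 0 := by
    rintro rfl
    rw [zero_mul] at hη
    exact zero_ne_one hη
  set f : Module.Dual K V := ((η - 1) / h d d) • hH.hfun d with hf
  have hfd : f d = η - 1 := by
    rw [hf, LinearMap.smul_apply, HermData.hfun_apply, smul_eq_mul]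
    field_simp
  have hunit : IsUnit (1 + f d) := by
    rw [hfd]
    exact IsUnit.mk0 _ (by simpa using hη0)
  refine ⟨LinearEquiv.dilatransvection hunit, ?_, ?_, ?_⟩
  · intro x y
    rw [LinearEquiv.dilatransvection.apply, LinearEquiv.dilatransvection.apply]
    rw [hH.add_left, hH.add_right, hH.add_right, hH.smul_left, hH.smul_right, hH.smul_right,
      hH.smul_left]
    simp only [hf, LinearMap.smul_apply, HermData.hfun_apply, smul_eq_mul]
    have hN : σ (h d d) = h d d := σ_norm hH d
    have hyd : σ (h y d) = h d y := (hH.conj y d).symm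
    rw [map_mul, map_div₀, map_sub, map_one, hN, hyd]
    have hσ0 : σ η = η⁻¹ := by
      field_simp
      rw [mul_comm]; exact hη
    rw [hσ0]
    field_simp
    ring
  · rw [LinearEquiv.coe_det, LinearEquiv.dilatransvection.coe_toLinearMap,
      LinearMap.transvection.det, hfd]
    ring
  · intro x
    have hfx : f x = (η - 1) * h x d / h d d := by
      rw [hf, LinearMap.smul_apply, HermData.hfun_apply, smul_eq_mul]
      ring
    rw [LinearEquiv.dilatransvection.apply, hfx]

end ELT

end Cfsg.Agent.Lib.Helper45.UDec
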